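import Mathlib.LinearAlgebra.Matrix.Charpoly.LinearMap
import Mathlib.LinearAlgebra.Matrix.Determinant.Basic
import Mathlib.LinearAlgebra.Matrix.Adjugate
import Mathlib.LinearAlgebra.InvariantBasisNumber
import Mathlib.LinearAlgebra.FreeModule.StrongRankCondition
import Mathlib.RingTheory.Ideal.Quotient.Operations

/-!
Determinant trick, maximal minors and one-sided inverses.
-/

namespace Groth.Agent.Smooth28

open Matrix

/-- The determinant trick. -/
theorem exists_sub_pow_mem_and_mul_mem {P : Type*} [CommRing P] {I J Q : Ideal P} (hfg : I.FG)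
    (a : P) (h : ∀ x ∈ I, a * x ∈ J ⊔ Q * I) :
    ∃ (g : P) (d : ℕ), g - a ^ d ∈ Q ∧ ∀ x ∈ I, g * x ∈ J := by
  let N : Submodule P (P ⧸ J) := Submodule.map J.mkQ I
  haveI : Module.Finite P N := Module.Finite.iff_fg.2 (Submodule.FG.map J.mkQ hfg)
  let f : Module.End P N := a • LinearMap.id
  have hI : LinearMap.range f ≤ Q • ⊤ := by
    rintro _ ⟨⟨_, x, hx, rfl⟩, rfl⟩
    rw [Submodule.mem_smul_top_iff]
    obtain ⟨j, hj, z, hz, hjz⟩ := Submodule.mem_sup.1 (h x hx)
    have hz' : J.mkQ z ∈ Q • N := by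
      rw [← Submodule.map_smul'']
      exact Submodule.mem_map_of_mem hz
    show a • J.mkQ x ∈ Q • N
    rw [← map_smul, smul_eq_mul, ← hjz, map_add, Submodule.mkQ_apply,
      (Submodule.Quotient.mk_eq_zero _).2 hj, zero_add]
    exact hz'
  obtain ⟨p, hp, -, hcoeff, hev⟩ :=
    LinearMap.exists_monic_and_natDegree_eq_and_coeff_mem_pow_and_aeval_eq_zero P f Q hI
  refine ⟨p.eval a, p.natDegree, ?_, fun x hx => ?_⟩
  · rw [Polynomial.eval_eq_sum_range, Finset.sum_range_succ, hp.coeff_natDegree, one_mul,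
      add_sub_cancel_right]
    refine Submodule.sum_mem _ fun i hi => Ideal.mul_mem_right _ _ ?_
    exact Ideal.pow_le_self (Nat.sub_ne_zero_of_lt (Finset.mem_range.1 hi)) (hcoeff i)
  · have hsm : ∀ q : Polynomial P, Polynomial.aeval f q = q.eval a • (LinearMap.id : Module.End P N) := by
      intro q
      have hf : f = algebraMap P (Module.End P N) a := rfl
      rw [hf, Polynomial.aeval_algebraMap_apply_eq_algebraMap_eval]
      rfl
    have h0 := congrArg Subtype.val (LinearMap.congr_fun ((hsm p).symm.trans hev)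
      ⟨J.mkQ x, x, hx, rfl⟩)
    rw [← Submodule.Quotient.mk_eq_zero]
    exact h0

variable {T : Type*} [CommRing T] {c : ℕ} {n : Type*} [Fintype n] [DecidableEq n]

omit [DecidableEq n] in
/-- Weak Cauchy-Binet formula. -/
theorem det_mul_mem_span_minors (M : Matrix (Fin c) n T) (N : Matrix n (Fin c) T) :
    (M * N).det ∈ Ideal.span (Set.range fun cols : Fin c → n => (M.submatrix id cols).det) := by
  classical
  have hrow : ((M * N)ᵀ : Matrix (Fin c) (Fin c) T) = fun k => ∑ i, N i k • Mᵀ i := by
    ext k j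
    simp [Matrix.mul_apply, mul_comm]
  rw [← det_transpose, hrow]
  show Matrix.detRowAlternating (fun k => ∑ i, N i k • Mᵀ i) ∈ _
  rw [← AlternatingMap.coe_multilinearMap, MultilinearMap.map_sum]
  refine Submodule.sum_mem _ fun cols _ => ?_
  rw [MultilinearMap.map_smul_univ, smul_eq_mul]
  refine Ideal.mul_mem_left _ _ (Ideal.subset_span ⟨cols, ?_⟩)
  show (M.submatrix id cols).det = Matrix.det (fun k => Mᵀ (cols k))
  rw [← det_transpose]
  rfl

/-- A combination of maximal minors times the identity factors through the matrix. -/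
theorem exists_mul_eq_smul_one (M : Matrix (Fin c) n T) {t : T}
    (ht : t ∈ Ideal.span (Set.range fun cols : Fin c → n => (M.submatrix id cols).det)) :
    ∃ N : Matrix n (Fin c) T, M * N = t • (1 : Matrix (Fin c) (Fin c) T) := by
  induction ht using Submodule.span_induction with
  | mem x hx =>
    obtain ⟨cols, rfl⟩ := hx
    refine ⟨(1 : Matrix n n T).submatrix id cols * (M.submatrix id cols).adjugate, ?_⟩
    rw [← Matrix.mul_assoc]
    have : M * (1 : Matrix n n T).submatrix id cols = M.submatrix id cols := by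
      ext i j
      simp [Matrix.mul_apply, Matrix.one_apply]
    rw [this, Matrix.mul_adjugate]
  | zero => exact ⟨0, by simp⟩
  | add x y _ _ hx hy =>
    obtain ⟨Nx, hx⟩ := hx
    obtain ⟨Ny, hy⟩ := hy
    exact ⟨Nx + Ny, by rw [Matrix.mul_add, hx, hy, add_smul]⟩
  | smul r x _ hx =>
    obtain ⟨Nx, hx⟩ := hx
    exact ⟨r • Nx, by rw [Matrix.mul_smul, hx, smul_smul, smul_eq_mul]⟩

omit [DecidableEq n] in
theorem card_le_of_mul_eq_one [Nontrivial T] (M : Matrix (Fin c) n T) (N : Matrix n (Fin c) T)
    (h : M * N = 1) : c ≤ Fintype.card n := by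
  classical
  have hs : Function.Surjective M.mulVecLin := fun v =>
    ⟨N.mulVec v, by rw [Matrix.mulVecLin_apply, Matrix.mulVec_mulVec, h, Matrix.one_mulVec]⟩
  simpa using card_le_of_surjective T M.mulVecLin hs

end Groth.Agent.Smooth28
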