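import Groth.Agent.Smooth28.Taylor
import Mathlib.RingTheory.Smooth.Basic
import Mathlib.RingTheory.Localization.Away.Basic
import Mathlib.RingTheory.Ideal.Quotient.Operations

/-!
Smoothness of a localization of a presented algebra as splitting of the conormal sequence.
-/

namespace Groth.Agent.Smooth28

open MvPolynomial

universe u v w

variable {R : Type u} [CommRing R] {ι : Type v} [Fintype ι] {A : Type w} [CommRing A] [Algebra R A]

/-- `u` times the identity of the conormal module factors through the differential. -/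
def HasSplit (φ : MvPolynomial ι R →ₐ[R] A) (u : MvPolynomial ι R) : Prop :=
  ∃ h : ι → MvPolynomial ι R, (∀ i, φ (h i) = 0) ∧
    ∀ x, φ x = 0 → u * x - ∑ i, pderiv i x * h i ∈ RingHom.ker φ.toRingHom ^ 2

theorem mem_sq_of_zero {φ : MvPolynomial ι R →ₐ[R] A} {x y : MvPolynomial ι R} (hx : φ x = 0)
    (hy : φ y = 0) : x * y ∈ RingHom.ker φ.toRingHom ^ 2 := by
  rw [pow_two]
  exact Ideal.mul_mem_mul hx hy

theorem split_of_generators (φ : MvPolynomial ι R →ₐ[R] A) (u : MvPolynomial ι R)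
    (h : ι → MvPolynomial ι R) (hh : ∀ i, φ (h i) = 0) (s : Set (MvPolynomial ι R))
    (hs : RingHom.ker φ.toRingHom = Ideal.span s)
    (H : ∀ x ∈ s, u * x - ∑ i, pderiv i x * h i ∈ RingHom.ker φ.toRingHom ^ 2) :
    HasSplit φ u := by
  refine ⟨h, hh, fun x hx => ?_⟩
  have hx' : x ∈ Ideal.span s := hs ▸ (show x ∈ RingHom.ker φ.toRingHom from hx)
  have hker : ∀ y ∈ Ideal.span s, φ y = 0 := fun y hy =>
    show y ∈ RingHom.ker φ.toRingHom from hs.symm ▸ hy
  clear hx
  induction hx' using Submodule.span_induction with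
  | mem y hy => exact H y hy
  | zero => simp
  | add y z _ _ hy hz =>
    have := add_mem hy hz
    convert this using 1
    simp only [map_add, mul_add, add_mul, Finset.sum_add_distrib]
    ring
  | smul r y hymem hy =>
    have h1 := Ideal.mul_mem_left _ r hy
    have h2 : ∑ i, pderiv i r * y * h i ∈ RingHom.ker φ.toRingHom ^ 2 :=
      Submodule.sum_mem _ fun i _ => by
        rw [mul_assoc]
        exact Ideal.mul_mem_left _ _ (mem_sq_of_zero (hker y hymem) (hh i))
    have := sub_mem h1 h2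
    convert this using 1
    simp only [smul_eq_mul, pderiv_mul, add_mul, Finset.sum_add_distrib, mul_sub, Finset.mul_sum]
    rw [Finset.sum_congr rfl fun i _ => mul_assoc r (pderiv i y) (h i)]
    ring

theorem HasSplit.mul {φ : MvPolynomial ι R →ₐ[R] A} {u : MvPolynomial ι R} (hu : HasSplit φ u)
    (v : MvPolynomial ι R) : HasSplit φ (v * u) := by
  obtain ⟨h, hh, H⟩ := hu
  refine ⟨fun i => v * h i, fun i => by simp [hh i], fun x hx => ?_⟩
  have := Ideal.mul_mem_left (RingHom.ker φ.toRingHom ^ 2) v (H x hx)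
  convert this using 1
  rw [mul_sub, Finset.mul_sum]
  congr 1
  · ring
  · exact Finset.sum_congr rfl fun i _ => by ring

variable {S : Type*} [CommRing S] [Algebra R S] [Algebra A S] [IsScalarTower R A S]

theorem exists_nearby_solution {Q : Type*} [CommRing Q] [Algebra R Q] (q : Q →ₐ[R] A)
    (hq : Function.Surjective q) (hsq : ∀ x y, q x = 0 → q y = 0 → x * y = 0) (a : A)
    [IsLocalization.Away a S] [Algebra.FormallySmooth R S] (b : Q) (hb : q b = a) (v : ι → Q) :
    ∃ d : ι → Localization.Away b, (∀ i j, d i * d j = 0) ∧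
      (∀ i, ∃ c : Q, q c = 0 ∧ ∃ n : ℕ,
        d i * algebraMap Q (Localization.Away b) b ^ n = algebraMap Q (Localization.Away b) c) ∧
      ∀ x : MvPolynomial ι R, q (aeval v x) = 0 →
        aeval (fun i => algebraMap Q (Localization.Away b) (v i) + d i) x = 0 := by
  have hu : ∀ y : Submonoid.powers b,
      IsUnit (((IsScalarTower.toAlgHom R A S).comp q) y) := by
    rintro ⟨_, n, rfl⟩
    simp only [AlgHom.comp_apply, map_pow, IsScalarTower.coe_toAlgHom', hb]
    exact (IsLocalization.Away.algebraMap_isUnit a).pow n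
  let G : Localization.Away b →ₐ[R] S := IsLocalization.liftAlgHom hu
  have hG : ∀ x, G (algebraMap Q _ x) = algebraMap A S (q x) := fun x =>
    IsLocalization.lift_eq (M := Submonoid.powers b) _ x
  have hsurj : Function.Surjective G := by
    intro z
    obtain ⟨n, c, hc⟩ := IsLocalization.Away.surj a z
    obtain ⟨c', rfl⟩ := hq c
    refine ⟨IsLocalization.mk' (Localization.Away b) c' (⟨b ^ n, n, rfl⟩ : Submonoid.powers b), ?_⟩
    refine ((IsLocalization.Away.algebraMap_isUnit a).pow n).mul_right_cancel ?_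
    rw [hc]
    have := congrArg G (IsLocalization.mk'_spec (Localization.Away b) c'
      (⟨b ^ n, n, rfl⟩ : Submonoid.powers b))
    rw [map_mul, hG, hG] at this
    simpa only [map_pow, hb] using this
  have hkerG : ∀ z, G z = 0 → ∃ c : Q, q c = 0 ∧ ∃ n : ℕ,
      z * algebraMap Q (Localization.Away b) b ^ n = algebraMap Q _ c := by
    intro z hz
    obtain ⟨n, c, hc⟩ := IsLocalization.Away.surj b z
    have h0 := congrArg G hc
    rw [map_mul, hz, zero_mul, hG, eq_comm,
      IsLocalization.map_eq_zero_iff (Submonoid.powers a)] at h0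
    obtain ⟨⟨_, m, rfl⟩, hm⟩ := h0
    refine ⟨b ^ m * c, by rw [map_mul, map_pow, hb]; exact hm, n + m, ?_⟩
    rw [map_mul, map_pow, ← hc]
    ring
  have h2 : ∀ z₁ z₂, G z₁ = 0 → G z₂ = 0 → z₁ * z₂ = 0 := by
    intro z₁ z₂ hz₁ hz₂
    obtain ⟨x₁, hx₁, n₁, e₁⟩ := hkerG z₁ hz₁
    obtain ⟨x₂, hx₂, n₂, e₂⟩ := hkerG z₂ hz₂
    refine (((IsLocalization.Away.algebraMap_isUnit b).pow (n₁ + n₂)).mul_left_inj).1 ?_
    rw [zero_mul, pow_add, mul_mul_mul_comm, e₁, e₂, ← map_mul, hsq x₁ x₂ hx₁ hx₂, map_zero]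
  have hnil : IsNilpotent (RingHom.ker (G : Localization.Away b →+* S)) := by
    refine ⟨2, ?_⟩
    rw [pow_two, Ideal.zero_eq_bot, eq_bot_iff, Ideal.mul_le]
    exact fun z₁ hz₁ z₂ hz₂ => h2 z₁ z₂ hz₁ hz₂
  let σ : S →ₐ[R] Localization.Away b :=
    Algebra.FormallySmooth.liftOfSurjective (AlgHom.id R S) G hsurj hnil
  have hσ : ∀ s, G (σ s) = s := fun s => Algebra.FormallySmooth.liftOfSurjective_apply _ _ _ _ s
  let d : ι → Localization.Away b := fun i =>
    σ (algebraMap A S (q (v i))) - algebraMap Q _ (v i)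
  have hd : ∀ i, G (d i) = 0 := fun i => by simp [d, hσ, hG]
  refine ⟨d, fun i j => h2 _ _ (hd i) (hd j), fun i => hkerG _ (hd i), fun x hx => ?_⟩
  have h : aeval (fun i => algebraMap Q (Localization.Away b) (v i) + d i) =
      σ.comp ((IsScalarTower.toAlgHom R A S).comp (q.comp (aeval v))) :=
    MvPolynomial.algHom_ext fun i => by simp [d]
  simp [h, hx]

theorem exists_split_of_formallySmooth (φ : MvPolynomial ι R →ₐ[R] A)
    (hφ : Function.Surjective φ) (hfg : (RingHom.ker φ.toRingHom).FG) (a : A)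
    [IsLocalization.Away a S] [Algebra.FormallySmooth R S]
    (a' : MvPolynomial ι R) (ha' : φ a' = a) : ∃ k : ℕ, HasSplit φ (a' ^ k) := by
  classical
  let I := RingHom.ker φ.toRingHom
  let mk : MvPolynomial ι R →ₐ[R] MvPolynomial ι R ⧸ I ^ 2 := Ideal.Quotient.mkₐ R (I ^ 2)
  have hmk : Function.Surjective mk := Ideal.Quotient.mk_surjective
  have hmk0 : ∀ x, mk x = 0 ↔ x ∈ I ^ 2 := fun x => Ideal.Quotient.eq_zero_iff_mem
  let q : (MvPolynomial ι R ⧸ I ^ 2) →ₐ[R] A :=
    Ideal.Quotient.liftₐ (I ^ 2) φ fun x hx => Ideal.pow_le_self two_ne_zero hx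
  have hq : ∀ x, q (mk x) = φ x := fun x => rfl
  have hqs : Function.Surjective q := fun z => (hφ z).imp' (fun x => mk x) fun x hx => (hq x).trans hx
  have hsq : ∀ x y, q x = 0 → q y = 0 → x * y = 0 := fun x y hx hy => by
    obtain ⟨x, rfl⟩ := hmk x
    obtain ⟨y, rfl⟩ := hmk y
    rw [← map_mul, hmk0]
    exact mem_sq_of_zero (hq x ▸ hx) (hq y ▸ hy)
  obtain ⟨d, hdd, hdc, hzero⟩ := exists_nearby_solution q hqs hsq a (S := S) (mk a')
    (by rw [hq, ha']) fun i => mk (X i)
  let π : MvPolynomial ι R →ₐ[R] Localization.Away (mk a') :=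
    (IsScalarTower.toAlgHom R _ _).comp mk
  have hπ : ∀ x, π x = algebraMap _ _ (mk x) := fun x => rfl
  have hπ' : aeval (fun i => algebraMap _ (Localization.Away (mk a')) (mk (X i))) = π :=
    MvPolynomial.algHom_ext fun i => by simp [hπ]
  have hzero' : ∀ x, φ x = 0 → π x + ∑ i, π (pderiv i x) * d i = 0 := by
    intro x hx
    have h1 := aeval_add_of_mul_eq_zero
      (fun i => algebraMap _ (Localization.Away (mk a')) (mk (X i))) d hdd x
    have h2 : aeval (fun i => mk (X i)) = mk := (MvPolynomial.aeval_unique mk).symm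
    rw [hzero x (by rw [h2, hq, hx]), hπ'] at h1
    exact h1.symm
  have hc : ∀ i, ∃ c, φ c = 0 ∧ ∃ n : ℕ, d i * π a' ^ n = π c := fun i => by
    obtain ⟨c, hc0, n, hn⟩ := hdc i
    obtain ⟨c, rfl⟩ := hmk c
    exact ⟨c, (hq c).symm.trans hc0, n, hn⟩
  choose c hc n hn using hc
  let N := Finset.univ.sup n
  let c' : ι → MvPolynomial ι R := fun i => a' ^ (N - n i) * c i
  have hc' : ∀ i, d i * π a' ^ N = π (c' i) := fun i => by
    have : N = n i + (N - n i) :=
      (Nat.add_sub_cancel' (Finset.le_sup (f := n) (Finset.mem_univ i))).symm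
    simp only [c', map_mul, map_pow, ← hn i]
    conv_lhs => rw [this, pow_add]
    ring
  have key : ∀ x, φ x = 0 → ∃ m : ℕ,
      a' ^ m * (a' ^ N * x + ∑ i, pderiv i x * c' i) ∈ I ^ 2 := by
    intro x hx
    have h0 : π (a' ^ N * x + ∑ i, pderiv i x * c' i) = 0 := by
      simp only [map_add, map_mul, map_pow, map_sum, ← hc']
      have he : ∑ i, π (pderiv i x) * (d i * π a' ^ N) = (∑ i, π (pderiv i x) * d i) * π a' ^ N := by
        rw [Finset.sum_mul]
        exact Finset.sum_congr rfl fun i _ => (mul_assoc _ _ _).symm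
      rw [he, mul_comm (π a' ^ N) (π x), ← add_mul, hzero' x hx, zero_mul]
    rw [hπ, IsLocalization.map_eq_zero_iff (Submonoid.powers (mk a'))] at h0
    obtain ⟨⟨_, m, rfl⟩, hm⟩ := h0
    refine ⟨m, (hmk0 _).1 ?_⟩
    rw [map_mul, map_pow]
    exact hm
  choose m hm using key
  obtain ⟨s, hs⟩ := hfg
  have hs0 : ∀ x ∈ s, φ x = 0 := fun x hx =>
    show x ∈ RingHom.ker φ.toRingHom from hs ▸ Submodule.subset_span hx
  let M := s.attach.sup fun x => m x.1 (hs0 x.1 x.2)
  refine ⟨M + N, split_of_generators φ _ (fun i => -(a' ^ M * c' i))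
    (fun i => by simp [c', hc i]) (s : Set (MvPolynomial ι R)) hs.symm fun x hx => ?_⟩
  have h1 := Ideal.mul_mem_left (I ^ 2) (a' ^ (M - m x (hs0 x hx))) (hm x (hs0 x hx))
  have hle : m x (hs0 x hx) ≤ M :=
    Finset.le_sup (f := fun x => m x.1 (hs0 x.1 x.2)) (Finset.mem_attach s ⟨x, hx⟩)
  rw [← mul_assoc, ← pow_add, Nat.sub_add_cancel hle] at h1
  have he : a' ^ (M + N) * x - ∑ i, pderiv i x * -(a' ^ M * c' i) =
      a' ^ M * (a' ^ N * x + ∑ i, pderiv i x * c' i) := by
    simp only [mul_neg, Finset.sum_neg_distrib, sub_neg_eq_add, mul_add, Finset.mul_sum, pow_add,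
      mul_assoc]
    rw [Finset.sum_congr rfl fun i _ => mul_left_comm (pderiv i x) (a' ^ M) (c' i)]
  rw [he]
  exact h1

theorem formallySmooth_of_split (φ : MvPolynomial ι R →ₐ[R] A) (hφ : Function.Surjective φ)
    (a : A) [IsLocalization.Away a S] (u : MvPolynomial ι R) (k : ℕ) (hu : φ u = a ^ k)
    (h : HasSplit φ u) : Algebra.FormallySmooth R S := by
  obtain ⟨h, hh, H⟩ := h
  refine Algebra.FormallySmooth.of_comp_surjective fun {B} _ _ I hI g => ?_
  let g₀ : MvPolynomial ι R →ₐ[R] B ⧸ I := g.comp ((IsScalarTower.toAlgHom R A S).comp φ)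
  have hsur : Function.Surjective (Ideal.Quotient.mk I) := Ideal.Quotient.mk_surjective
  choose y hy using fun i => hsur (g₀ (X i))
  have hY : ∀ x, Ideal.Quotient.mk I (aeval y x) = g₀ x := fun x => by
    have : (Ideal.Quotient.mkₐ R I).comp (aeval y) = g₀ :=
      MvPolynomial.algHom_ext fun i => by simp [hy]
    exact AlgHom.congr_fun this x
  have hI2 : ∀ p ∈ I, ∀ q ∈ I, p * q = 0 := fun p hp q hq => by
    have : p * q ∈ I ^ 2 := by rw [pow_two]; exact Ideal.mul_mem_mul hp hq
    simpa [hI] using this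
  have hunit : ∀ p : B, IsUnit (Ideal.Quotient.mk I p) → IsUnit p := by
    intro p hp
    obtain ⟨q, hq⟩ := hsur ↑hp.unit⁻¹
    have h1 : p * q - 1 ∈ I := by
      rw [← Ideal.Quotient.eq, map_mul, map_one, hq]
      exact hp.mul_val_inv
    refine IsUnit.of_mul_eq_one (q * (2 - p * q)) ?_
    linear_combination (-1 : B) * hI2 _ h1 _ h1
  have hker : ∀ x, φ x = 0 → aeval y x ∈ I := fun x hx =>
    Ideal.Quotient.eq_zero_iff_mem.1 (by simp [hY, g₀, hx])
  have hYu : IsUnit (aeval y u) := hunit _ (by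
    rw [hY]
    simp only [g₀, AlgHom.comp_apply, hu, map_pow, IsScalarTower.coe_toAlgHom']
    exact ((IsLocalization.Away.algebraMap_isUnit a).map g).pow k)
  obtain ⟨w, hw⟩ := hYu.exists_right_inv
  let d : ι → B := fun i => -(w * aeval y (h i))
  have hd : ∀ i, d i ∈ I := fun i => I.neg_mem (I.mul_mem_left w (hker _ (hh i)))
  let Z : MvPolynomial ι R →ₐ[R] B := aeval fun i => y i + d i
  have hZ : ∀ x, Ideal.Quotient.mk I (Z x) = g₀ x := fun x => by
    have : (Ideal.Quotient.mkₐ R I).comp Z = g₀ := MvPolynomial.algHom_ext fun i => by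
      simp only [Z, AlgHom.comp_apply, aeval_X, Ideal.Quotient.mkₐ_eq_mk, map_add, hy,
        Ideal.Quotient.eq_zero_iff_mem.2 (hd i), add_zero]
    exact AlgHom.congr_fun this x
  have hsq : ∀ x ∈ RingHom.ker φ.toRingHom ^ 2, aeval y x = 0 := fun x hx => by
    rw [pow_two] at hx
    refine Submodule.mul_induction_on hx (fun p hp q hq => ?_) (fun p q hp hq => ?_)
    · rw [map_mul]; exact hI2 _ (hker p hp) _ (hker q hq)
    · rw [map_add, hp, hq, add_zero]
  have hZker : ∀ x, φ x = 0 → Z x = 0 := by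
    intro x hx
    have h1 : Z x = aeval y x + ∑ i, aeval y (pderiv i x) * d i :=
      aeval_add_of_mul_eq_zero y d (fun i j => hI2 _ (hd i) _ (hd j)) x
    have h2 := hsq _ (H x hx)
    simp only [map_sub, map_mul, map_sum, sub_eq_zero] at h2
    have h3 : (∑ i, aeval y (pderiv i x) * d i) =
        -(w * ∑ i, aeval y (pderiv i x) * aeval y (h i)) := by
      rw [Finset.mul_sum, ← Finset.sum_neg_distrib]
      exact Finset.sum_congr rfl fun i _ => by simp only [d]; ring
    rw [h1, h3, ← h2, ← mul_assoc, mul_comm w, hw, one_mul, add_neg_cancel]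
  let z : A →ₐ[R] B := (Ideal.Quotient.liftₐ (RingHom.ker φ.toRingHom) Z hZker).comp
    (Ideal.quotientKerAlgEquivOfSurjective hφ).symm.toAlgHom
  have hz : ∀ x, z (φ x) = Z x := fun x => by
    have : (Ideal.quotientKerAlgEquivOfSurjective hφ).symm (φ x) = Ideal.Quotient.mk _ x := by
      rw [AlgEquiv.symm_apply_eq]; rfl
    show Ideal.Quotient.liftₐ _ Z hZker ((Ideal.quotientKerAlgEquivOfSurjective hφ).symm (φ x)) = Z x
    rw [this]
    rfl
  obtain ⟨a', rfl⟩ := hφ a
  have hzu : ∀ p : Submonoid.powers (φ a'), IsUnit (z p) := by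
    rintro ⟨_, n, rfl⟩
    simp only [map_pow, hz]
    refine (hunit _ ?_).pow n
    rw [hZ]
    exact (IsLocalization.Away.algebraMap_isUnit (φ a')).map g
  refine ⟨IsLocalization.liftAlgHom (f := z) hzu, ?_⟩
  refine AlgHom.coe_ringHom_injective
    (IsLocalization.ringHom_ext (Submonoid.powers (φ a')) (RingHom.ext fun x => ?_))
  obtain ⟨x, rfl⟩ := hφ x
  simp only [RingHom.comp_apply, AlgHom.toRingHom_eq_coe, RingHom.coe_coe, AlgHom.comp_apply]
  rw [show IsLocalization.liftAlgHom (f := z) hzu (algebraMap A S (φ x)) = z (φ x) from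
    IsLocalization.lift_eq (M := Submonoid.powers (φ a')) _ _, hz, Ideal.Quotient.mkₐ_eq_mk, hZ]
  rfl

end Groth.Agent.Smooth28
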