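import Groth.Agent.Smooth28.Idem
import Groth.Agent.Smooth28.Split
import Groth.Agent.Smooth28.Det
import Mathlib.RingTheory.Etale.Kaehler
import Mathlib.LinearAlgebra.Matrix.NonsingularInverse
import Mathlib.RingTheory.Smooth.Basic

/-!
Lifting smooth algebras along surjections.
-/

namespace Groth.Agent.Smooth28

open MvPolynomial Matrix TensorProduct

universe u

/-- A derivation extends along a formally etale map. -/
theorem exists_derivation_extend {R P P' : Type u} [CommRing R] [CommRing P] [CommRing P']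
    [Algebra R P] [Algebra R P'] [Algebra P P'] [IsScalarTower R P P']
    [Algebra.FormallyEtale P P'] (d : Derivation R P P') :
    ∃ d' : Derivation R P' P', ∀ x, d' (algebraMap P P' x) = d x := by
  refine ⟨((LinearMap.liftBaseChange P' d.liftKaehlerDifferential).comp
    (KaehlerDifferential.tensorKaehlerEquivOfFormallyEtale R P P').symm.toLinearMap).compDer
      (KaehlerDifferential.D R P'), fun x => ?_⟩
  show (LinearMap.liftBaseChange P' d.liftKaehlerDifferential)
    ((KaehlerDifferential.tensorKaehlerEquivOfFormallyEtale R P P').symm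
      (KaehlerDifferential.D R P' (algebraMap P P' x))) = _
  rw [KaehlerDifferential.tensorKaehlerEquivOfFormallyEtale_symm_D_algebraMap]
  simp

/-- The Jacobian criterion for equations cut out by an idempotent. -/
theorem formallySmooth_of_retract_jacobian {R P' : Type u} [CommRing R] [CommRing P'] [Algebra R P']
    [Algebra.FormallySmooth R P'] {n m : ℕ} (G : Fin m → P')
    (D : Fin n → Derivation R P' P') (E : Matrix (Fin m) (Fin m) P') (hE : E * E = E)
    (hG : E *ᵥ G = G) (H : Matrix (Fin n) (Fin m) P') (g : P')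
    (hg : (E * (Matrix.of fun j i => D i (G j)) * H * E + (1 - E)).det ∣ g)
    (A : Type u) [CommRing A] [Algebra R A] [Algebra (P' ⧸ Ideal.span (Set.range G)) A]
    [IsScalarTower R (P' ⧸ Ideal.span (Set.range G)) A]
    [IsLocalization.Away (Ideal.Quotient.mk (Ideal.span (Set.range G)) g) A] :
    Algebra.FormallySmooth R A := by
  classical
  refine Algebra.FormallySmooth.of_comp_surjective fun {B} _ _ I hI g₁ => ?_
  let Q := P' ⧸ Ideal.span (Set.range G)
  let toA : P' →ₐ[R] A := (IsScalarTower.toAlgHom R Q A).comp (Ideal.Quotient.mkₐ R _)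
  have hI2 : ∀ p ∈ I, ∀ q ∈ I, p * q = 0 := fun p hp q hq => by
    have : p * q ∈ I ^ 2 := by rw [pow_two]; exact Ideal.mul_mem_mul hp hq
    simpa [hI] using this
  have hsur : Function.Surjective (Ideal.Quotient.mk I) := Ideal.Quotient.mk_surjective
  have hunit : ∀ p : B, IsUnit (Ideal.Quotient.mk I p) → IsUnit p := by
    intro p hp
    obtain ⟨q, hq⟩ := hsur ↑hp.unit⁻¹
    have h1 : p * q - 1 ∈ I := by
      rw [← Ideal.Quotient.eq, map_mul, map_one, hq]
      exact hp.mul_val_inv
    refine IsUnit.of_mul_eq_one (q * (2 - p * q)) ?_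
    linear_combination (-1 : B) * hI2 _ h1 _ h1
  let ν : P' →ₐ[R] B := Algebra.FormallySmooth.lift I ⟨2, hI⟩ (g₁.comp toA)
  have hν : ∀ x, Ideal.Quotient.mk I (ν x) = g₁ (toA x) := fun x =>
    Algebra.FormallySmooth.mk_lift I ⟨2, hI⟩ (g₁.comp toA) x
  have hG0 : ∀ j, toA (G j) = 0 := fun j => by
    show algebraMap Q A (Ideal.Quotient.mk _ (G j)) = 0
    have : Ideal.Quotient.mk (Ideal.span (Set.range G)) (G j) = 0 :=
      Ideal.Quotient.eq_zero_iff_mem.2 (Ideal.subset_span ⟨j, rfl⟩)
    rw [this]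
    exact map_zero (algebraMap Q A)
  let v : Fin m → B := fun j => ν (G j)
  have hv : ∀ j, v j ∈ I := fun j => Ideal.Quotient.eq_zero_iff_mem.1 (by rw [hν, hG0, map_zero])
  let J : Matrix (Fin m) (Fin n) B := Matrix.of fun j i => ν (D i (G j))
  let E' : Matrix (Fin m) (Fin m) B := E.map ν
  let H' : Matrix (Fin n) (Fin m) B := H.map ν
  have hgu : IsUnit (ν g) := hunit _ (by
    rw [hν]; exact (IsLocalization.Away.algebraMap_isUnit (Ideal.Quotient.mk _ g) (S := A)).map g₁)
  let W : Matrix (Fin m) (Fin m) B := E' * J * H' * E' + (1 - E')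
  have hW : IsUnit W.det := by
    have h1 : W = ν.toRingHom.mapMatrix (E * (Matrix.of fun j i => D i (G j)) * H * E + (1 - E)) := by
      simp only [W, E', H', J, map_add, map_sub, map_one, RingHom.mapMatrix_apply, Matrix.map_mul,
        AlgHom.toRingHom_eq_coe, RingHom.coe_coe]
      rfl
    rw [h1, ← RingHom.map_det]
    exact isUnit_of_dvd_unit (map_dvd ν.toRingHom hg) hgu
  have hE' : E' * E' = E' := by
    simp only [E', ← AlgHom.mapMatrix_apply, ← map_mul, hE]
  have hv' : E' *ᵥ v = v := by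
    ext j
    have := congrArg ν (congrFun hG j)
    simpa [Matrix.mulVec, dotProduct, E', v, map_sum] using this
  have hcomm : E' * W = W * E' := by
    simp only [W, Matrix.mul_add, Matrix.add_mul, Matrix.mul_sub, Matrix.sub_mul, Matrix.mul_one,
      Matrix.one_mul, hE', sub_self, add_zero, ← Matrix.mul_assoc]
    rw [Matrix.mul_assoc _ E' E', hE']
  have hWE : W * E' = E' * J * H' * E' := by
    simp only [W, Matrix.add_mul, Matrix.sub_mul, Matrix.one_mul, hE', sub_self, add_zero]
    rw [Matrix.mul_assoc _ E' E', hE']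
  have hkey : E' * J * (H' * E' * W⁻¹) = E' := by
    rw [show E' * J * (H' * E' * W⁻¹) = E' * J * H' * E' * W⁻¹ by simp only [Matrix.mul_assoc],
      ← hWE, ← hcomm, Matrix.mul_assoc, Matrix.mul_nonsing_inv W hW, Matrix.mul_one]
  let c : Fin n → B := -((H' * E' * W⁻¹) *ᵥ v)
  have hc : ∀ i, c i ∈ I := fun i =>
    I.neg_mem (show ∑ j, (H' * E' * W⁻¹) i j * v j ∈ I from
      I.sum_mem fun j _ => I.mul_mem_left _ (hv j))
  have hJc : J *ᵥ c = (E' * J) *ᵥ c := by
    ext j
    simp only [Matrix.mulVec, dotProduct]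
    refine Finset.sum_congr rfl fun i _ => ?_
    have h1 : ν (D i (G j)) = ν (D i ((E *ᵥ G) j)) := by rw [hG]
    have h2 : ∀ k, ν (D i (E j k * G k)) * c i = E' j k * J k i * c i := by
      intro k
      rw [Derivation.leibniz, map_add, smul_eq_mul, smul_eq_mul, map_mul, map_mul, add_mul,
        mul_comm (ν (G k)) _, mul_assoc (ν (D i (E j k))) _ _, hI2 _ (hv k) _ (hc i), mul_zero,
        add_zero]
      rfl
    show ν (D i (G j)) * c i = (E' * J) j i * c i
    rw [h1, Matrix.mulVec, dotProduct, map_sum, map_sum, Finset.sum_mul,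
      Finset.sum_congr rfl fun k _ => h2 k, Matrix.mul_apply, Finset.sum_mul]
  have hzero : ∀ j, v j + (J *ᵥ c) j = 0 := by
    intro j
    rw [hJc, show c = -((H' * E' * W⁻¹) *ᵥ v) from rfl, Matrix.mulVec_neg, Matrix.mulVec_mulVec,
      hkey, hv', Pi.neg_apply, add_neg_cancel]
  let ν' : P' →ₐ[R] B := AlgHom.ofLinearMap
    (ν.toLinearMap + ∑ i, (LinearMap.mulRight R (c i)).comp (ν.toLinearMap.comp (D i).toLinearMap))
    (by simp) fun x y => by
      simp only [LinearMap.add_apply, LinearMap.coe_sum, Finset.sum_apply, LinearMap.comp_apply,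
        AlgHom.toLinearMap_apply, Derivation.coeFn_coe, Derivation.leibniz, smul_eq_mul, map_add,
        map_mul, LinearMap.mulRight_apply, add_mul, Finset.sum_add_distrib, mul_add]
      have hz : (∑ i, ν (D i x) * c i) * ∑ i, ν (D i y) * c i = 0 :=
        hI2 _ (I.sum_mem fun i _ => I.mul_mem_left _ (hc i)) _
          (I.sum_mem fun i _ => I.mul_mem_left _ (hc i))
      simp only [mul_assoc, ← Finset.mul_sum]
      linear_combination -hz
  have hν'mk : ∀ x, Ideal.Quotient.mk I (ν' x) = g₁ (toA x) := fun x => by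
    rw [← hν, Ideal.Quotient.eq]
    simp only [ν', AlgHom.ofLinearMap_apply, LinearMap.add_apply, LinearMap.coe_sum, Finset.sum_apply,
      AlgHom.toLinearMap_apply, add_sub_cancel_left]
    exact I.sum_mem fun i _ => I.mul_mem_left _ (hc i)
  have hν'G : ∀ x ∈ Ideal.span (Set.range G), ν' x = 0 := by
    intro x hx
    refine (Ideal.span_le.2 ?_ : Ideal.span (Set.range G) ≤ RingHom.ker ν'.toRingHom) hx
    rintro _ ⟨j, rfl⟩
    show ν' (G j) = 0
    rw [← hzero j]
    simp [ν', v, J, Matrix.mulVec, dotProduct, LinearMap.coe_sum, Finset.sum_apply]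
  let z : Q →ₐ[R] B := Ideal.Quotient.liftₐ _ ν' hν'G
  have hz : ∀ x, z (Ideal.Quotient.mk _ x) = ν' x := fun x => rfl
  have hzu : ∀ p : Submonoid.powers (Ideal.Quotient.mk (Ideal.span (Set.range G)) g), IsUnit (z p) := by
    rintro ⟨_, k, rfl⟩
    simp only [map_pow, hz]
    refine (hunit _ ?_).pow k
    rw [hν'mk, ← hν]
    exact hgu.map _
  refine ⟨IsLocalization.liftAlgHom (f := z) hzu, ?_⟩
  refine AlgHom.coe_ringHom_injective
    (IsLocalization.ringHom_ext (Submonoid.powers (Ideal.Quotient.mk (Ideal.span (Set.range G)) g))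
      (RingHom.ext fun x => ?_))
  obtain ⟨x, rfl⟩ := Ideal.Quotient.mk_surjective x
  simp only [RingHom.comp_apply, RingHom.coe_coe, AlgHom.comp_apply]
  rw [show IsLocalization.liftAlgHom (f := z) hzu (algebraMap Q A (Ideal.Quotient.mk _ x)) =
      z (Ideal.Quotient.mk _ x) from IsLocalization.lift_eq _ _, hz, Ideal.Quotient.mkₐ_eq_mk, hν'mk]
  rfl

set_option maxHeartbeats 1000000 in
/-- Smooth algebras lift along surjections. -/
theorem exists_smooth_lift {R R₀ A₀ : Type u} [CommRing R] [CommRing R₀] [Algebra R R₀] [CommRing A₀]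
    [Algebra R₀ A₀] [Algebra R A₀] [IsScalarTower R R₀ A₀]
    (hR : Function.Surjective (algebraMap R R₀)) [Algebra.Smooth R₀ A₀] :
    ∃ (A : Type u) (_ : CommRing A) (_ : Algebra R A), Algebra.Smooth R A ∧
      ∃ π : A →ₐ[R] A₀, Function.Surjective π ∧
        RingHom.ker π.toRingHom = (RingHom.ker (algebraMap R R₀)).map (algebraMap R A) := by
  classical
  obtain ⟨n, φ0, hφ0, hfg⟩ := (inferInstance : Algebra.FinitePresentation R₀ A₀).out
  obtain ⟨m, f₀, hf₀⟩ := Submodule.fg_iff_exists_fin_generating_family.1 hfg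
  replace hf₀ : RingHom.ker φ0.toRingHom = Ideal.span (Set.range f₀) := hf₀.symm
  haveI : IsLocalization.Away (1 : A₀) A₀ :=
    IsLocalization.away_of_isUnit_of_bijective A₀ isUnit_one Function.bijective_id
  obtain ⟨k, h₀, hh₀, hsplit⟩ := exists_split_of_formallySmooth (S := A₀) φ0 hφ0 hfg 1 1 (map_one φ0)
  simp only [one_pow, one_mul] at hsplit
  have hf₀0 : ∀ j, φ0 (f₀ j) = 0 := fun j =>
    show f₀ j ∈ RingHom.ker φ0.toRingHom from hf₀ ▸ Ideal.subset_span ⟨j, rfl⟩
  have hco : ∀ i, ∃ co : Fin m → MvPolynomial (Fin n) R₀, ∑ j, co j * f₀ j = h₀ i := fun i =>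
    (Submodule.mem_span_range_iff_exists_fun _).1
      (show h₀ i ∈ Ideal.span (Set.range f₀) from hf₀ ▸ (show h₀ i ∈ RingHom.ker φ0.toRingHom from hh₀ i))
  choose co hco using hco
  have hmap : Function.Surjective (MvPolynomial.map (σ := Fin n) (algebraMap R R₀)) :=
    MvPolynomial.map_surjective _ hR
  choose f hf using fun j => hmap (f₀ j)
  choose Hc hHc using fun i j => hmap (co i j)
  let Φ : MvPolynomial (Fin n) R →ₐ[R] A₀ :=
    (φ0.restrictScalars R).comp (MvPolynomial.mapAlgHom (Algebra.ofId R R₀))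
  have hΦ : ∀ x, Φ x = φ0 (MvPolynomial.map (algebraMap R R₀) x) := fun x => rfl
  have hΦs : Function.Surjective Φ := hφ0.comp hmap
  let P := MvPolynomial (Fin n) R
  letI : Algebra P A₀ := Φ.toRingHom.toAlgebra
  have haΦ : ∀ x : P, algebraMap P A₀ x = Φ x := fun x => rfl
  let Jm : Matrix (Fin m) (Fin n) P := Matrix.of fun j i => pderiv i (f j)
  let Hm : Matrix (Fin n) (Fin m) P := Matrix.of Hc
  let E₀ : Matrix (Fin m) (Fin m) A₀ := (Jm * Hm).map (algebraMap P A₀)
  let J₀ : Matrix (Fin m) (Fin n) A₀ := Jm.map (algebraMap P A₀)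
  have hJ₀ : E₀ * J₀ = J₀ := by
    ext j l
    have h1 : φ0 (pderiv l (f₀ j - ∑ i, pderiv i (f₀ j) * ∑ k, co i k * f₀ k)) = 0 := by
      have h2 := hsplit (f₀ j) (hf₀0 j)
      simp only [← hco] at h2
      exact pderiv_mem_of_mem_sq h2 l
    simp only [map_sub, map_sum, pderiv_mul, map_add, map_mul, hf₀0, mul_zero, Finset.mul_sum,
      zero_add, add_zero, Finset.sum_const_zero, sub_eq_zero] at h1
    simp only [E₀, J₀, ← Matrix.map_mul, Matrix.map_apply, haΦ, Matrix.mul_apply, Finset.sum_mul,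
      map_sum, map_mul, Jm, Hm, Matrix.of_apply, hΦ, ← pderiv_map, hf, hHc]
    rw [Finset.sum_comm, h1]
    exact Finset.sum_congr rfl fun i _ => Finset.sum_congr rfl fun k _ => mul_assoc _ _ _
  have hE₀ : IsIdempotentElem E₀ := by
    show E₀ * E₀ = E₀
    conv_lhs => arg 2; simp only [E₀, Matrix.map_mul]
    rw [← Matrix.mul_assoc, hJ₀]
    simp only [E₀, J₀, Matrix.map_mul]
  obtain ⟨P', _, _, het, π, hπs, E, hE, hπE⟩ :=
    exists_etale_idempotent_lift (P := P) (A₀ := A₀) hΦs (Jm * Hm) hE₀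
  haveI := het
  letI : Algebra R P' := ((algebraMap P P').comp (algebraMap R P)).toAlgebra
  haveI : IsScalarTower R P P' := IsScalarTower.of_algebraMap_eq' rfl
  haveI : Algebra.FormallySmooth R P' := Algebra.FormallySmooth.comp R P P'
  haveI : Algebra.FinitePresentation R P' := Algebra.FinitePresentation.trans R P P'
  have hπ : ∀ x : P, π (algebraMap P P' x) = Φ x := fun x => π.commutes x
  have hD : ∀ i, ∃ d : Derivation R P' P', ∀ x, d (algebraMap P P' x) = algebraMap P P' (pderiv i x) :=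
    fun i => exists_derivation_extend ((Algebra.linearMap P P').compDer (pderiv i))
  choose D hD using hD
  let fv : Fin m → P' := fun j => algebraMap P P' (f j)
  let G : Fin m → P' := E *ᵥ fv
  have hEG : E *ᵥ G = G := by rw [Matrix.mulVec_mulVec, hE.eq]
  have hπfv : ∀ j, π (fv j) = 0 := fun j => by rw [hπ, hΦ, hf, hf₀0]
  have hπG : ∀ j, π (G j) = 0 := fun j => by
    simp [G, Matrix.mulVec, dotProduct, map_sum, hπfv]
  have hπE' : ∀ j k, π (E j k) = E₀ j k := fun j k => congrFun (congrFun hπE j) k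
  let H' : Matrix (Fin n) (Fin m) P' := Hm.map (algebraMap P P')
  let JG : Matrix (Fin m) (Fin n) P' := Matrix.of fun j i => D i (G j)
  let W : Matrix (Fin m) (Fin m) P' := E * JG * H' * E + (1 - E)
  have hπW : π W.det = 1 := by
    have h1 : JG.map π = J₀ := by
      conv_rhs => rw [← hJ₀]
      ext j i
      simp [JG, G, Matrix.mulVec, dotProduct, map_sum, Derivation.leibniz, hπfv, hπE', Matrix.mul_apply,
        J₀, Jm, fv, hD, hπ, haΦ]
    have h2 : π.toRingHom.mapMatrix W = 1 := by
      have hEm : π.toRingHom.mapMatrix E = E₀ := hπE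
      have hH : H'.map π = Hm.map (algebraMap P A₀) := by
        ext i j; simp [H', hπ, haΦ]
      simp only [W, map_add, map_sub, map_one]
      rw [show π.toRingHom.mapMatrix (E * JG * H' * E) = E₀ * J₀ * Hm.map (algebraMap P A₀) * E₀ by
        simp only [RingHom.mapMatrix_apply, Matrix.map_mul, AlgHom.toRingHom_eq_coe, RingHom.coe_coe,
          h1, hH] at hEm ⊢
        rw [hEm], hEm, hJ₀]
      rw [show J₀ * Hm.map (algebraMap P A₀) = E₀ by simp only [E₀, J₀, Matrix.map_mul], hE₀.eq,
        add_sub_cancel]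
    show π.toRingHom W.det = 1
    rw [RingHom.map_det, h2, Matrix.det_one]
  let K : Ideal P' := (RingHom.ker (algebraMap R R₀)).map (algebraMap R P')
  let N : Ideal P' := RingHom.ker π.toRingHom
  have hKN : K ≤ N := by
    refine Ideal.map_le_iff_le_comap.2 fun r hr => ?_
    show π (algebraMap P P' (algebraMap R P r)) = 0
    rw [hπ, AlgHom.commutes, IsScalarTower.algebraMap_apply R R₀ A₀, show algebraMap R R₀ r = 0 from hr,
      map_zero]
  -- the kernel of the polynomial map
  have hkerΦ : ∀ x : P, Φ x = 0 → algebraMap P P' x ∈ K ⊔ Ideal.span (Set.range fv) := by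
    intro x hx
    rw [hΦ] at hx
    obtain ⟨a, ha⟩ := (Submodule.mem_span_range_iff_exists_fun _).1
      (show MvPolynomial.map (algebraMap R R₀) x ∈ Ideal.span (Set.range f₀) from hf₀ ▸ hx)
    choose a' ha' using fun j => hmap (a j)
    have h1 : x - ∑ j, a' j * f j ∈ RingHom.ker (MvPolynomial.map (algebraMap R R₀)) := by
      rw [RingHom.mem_ker, map_sub, map_sum]
      simp [ha', hf, ← ha, smul_eq_mul]
    rw [MvPolynomial.ker_map] at h1
    have h2 := Ideal.mem_map_of_mem (algebraMap P P') h1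
    rw [Ideal.map_map, map_sub, map_sum] at h2
    rw [← sub_add_cancel (algebraMap P P' x) (∑ j, algebraMap P P' (a' j * f j))]
    refine add_mem (Ideal.mem_sup_left h2) (Ideal.mem_sup_right (Submodule.sum_mem _ fun j _ => ?_))
    rw [map_mul]
    exact Ideal.mul_mem_left _ _ (Ideal.subset_span ⟨j, rfl⟩)
  have hkerΦN : (RingHom.ker Φ.toRingHom).map (algebraMap P P') ≤ K ⊔ Ideal.span (Set.range fv) :=
    Ideal.map_le_iff_le_comap.2 fun x hx => hkerΦ x hx
  obtain ⟨t, yv, hyv⟩ := Algebra.FiniteType.iff_quotient_mvPolynomial''.1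
    (inferInstance : Algebra.FiniteType P P')
  choose p hp using fun i => hΦs (π (yv (X i)))
  let δ : Fin t → P' := fun i => yv (X i) - algebraMap P P' (p i)
  let N₀ : Ideal P' := Ideal.span (Set.range δ ∪ Set.range fv)
  have hN : N ≤ K ⊔ N₀ := by
    intro y hy
    obtain ⟨q, rfl⟩ := hyv y
    let mk := Ideal.Quotient.mkₐ P N₀
    have h1 : mk.comp yv = mk.comp ((Algebra.ofId P P').comp (aeval p)) := by
      refine MvPolynomial.algHom_ext fun i => ?_
      simp only [AlgHom.comp_apply, aeval_X, mk, Ideal.Quotient.mkₐ_eq_mk, Ideal.Quotient.eq]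
      exact Ideal.subset_span (Or.inl ⟨i, rfl⟩)
    have h2 := AlgHom.congr_fun h1 q
    simp only [AlgHom.comp_apply, mk, Ideal.Quotient.mkₐ_eq_mk, Ideal.Quotient.eq] at h2
    have h4 : π (yv q - algebraMap P P' (aeval p q)) = 0 := by
      have : N₀ ≤ N := Ideal.span_le.2 (Set.union_subset
        (by rintro _ ⟨i, rfl⟩; show π (_ - _) = 0; rw [map_sub, hπ, hp, sub_self])
        (by rintro _ ⟨j, rfl⟩; exact hπfv j))
      exact this h2
    rw [map_sub, show π (yv q) = 0 from hy, zero_sub, neg_eq_zero, hπ] at h4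
    rw [← sub_add_cancel (yv q) (algebraMap P P' (aeval p q))]
    exact add_mem (Ideal.mem_sup_right h2)
      (sup_le_sup_left (Ideal.span_mono Set.subset_union_right) K (hkerΦ _ h4))
  have hN₀ : N₀ ≤ N := Ideal.span_le.2 (Set.union_subset
    (by rintro _ ⟨i, rfl⟩; show π (_ - _) = 0; rw [map_sub, hπ, hp, sub_self])
    (by rintro _ ⟨j, rfl⟩; exact hπfv j))
  -- formally unramified
  have hU : N ≤ (RingHom.ker Φ.toRingHom).map (algebraMap P P') ⊔ N * N := by
    let T := P' ⧸ ((RingHom.ker Φ.toRingHom).map (algebraMap P P') ⊔ N * N)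
    let mk : P' →ₐ[P] T := Ideal.Quotient.mkₐ P _
    have hkT : ∀ x : P, Φ x = 0 → algebraMap P T x = 0 := fun x hx => by
      show Ideal.Quotient.mk _ (algebraMap P P' x) = 0
      exact Ideal.Quotient.eq_zero_iff_mem.2 (Ideal.mem_sup_left (Ideal.mem_map_of_mem _ hx))
    let σ : A₀ →ₐ[P] T := AlgHom.liftOfSurjective (Algebra.ofId P A₀) hΦs (Algebra.ofId P T) hkT
    have hσ : ∀ x : P, σ (Φ x) = algebraMap P T x := fun x => σ.commutes x
    have hnil : IsNilpotent (N.map mk.toRingHom) := by
      refine ⟨2, ?_⟩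
      rw [← Ideal.map_pow, Ideal.zero_eq_bot, eq_bot_iff, Ideal.map_le_iff_le_comap]
      intro x hx
      rw [pow_two] at hx
      exact Ideal.Quotient.eq_zero_iff_mem.2 (Ideal.mem_sup_right hx)
    have heq : mk = σ.comp π := Algebra.FormallyUnramified.ext _ hnil fun x => by
      obtain ⟨q, hq⟩ := hΦs (π x)
      rw [Ideal.Quotient.eq]
      have : σ.comp π x = mk (algebraMap P P' q) := by
        rw [AlgHom.comp_apply, ← hq, hσ]
        exact (mk.commutes q).symm
      rw [this, ← map_sub]
      refine Ideal.mem_map_of_mem _ ?_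
      show π (x - algebraMap P P' q) = 0
      rw [map_sub, hπ, hq, sub_self]
    intro x hx
    have := AlgHom.congr_fun heq x
    rw [AlgHom.comp_apply, show π x = 0 from hx, map_zero] at this
    exact Ideal.Quotient.eq_zero_iff_mem.1 this
  have hfvG : ∀ j, fv j ∈ (K ⊔ Ideal.span (Set.range G)) ⊔ N * N := by
    intro j
    let h' : Fin n → MvPolynomial (Fin n) R := fun i => ∑ k, Hc i k * f k
    have hsq : RingHom.ker φ0.toRingHom ^ 2 ≤
        ((Ideal.span (Set.range f)) ^ 2).map (MvPolynomial.map (algebraMap R R₀)) := by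
      rw [hf₀, Ideal.map_pow, Ideal.map_span, ← Set.range_comp]
      exact le_of_eq (by congr 2; ext1 j; simp [hf])
    obtain ⟨w, hw, hwe⟩ := (Ideal.mem_map_iff_of_surjective _ hmap).1 (hsq (hsplit _ (hf₀0 j)))
    have h1 : f j - (∑ i, pderiv i (f j) * h' i) - w ∈
        RingHom.ker (MvPolynomial.map (algebraMap R R₀)) := by
      rw [RingHom.mem_ker, map_sub, hwe]
      simp [h', map_sum, map_mul, ← pderiv_map, hf, hHc, hco]
    rw [MvPolynomial.ker_map] at h1
    have h2 := Ideal.mem_map_of_mem (algebraMap P P') h1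
    rw [Ideal.map_map, map_sub, map_sub] at h2
    have h3 : algebraMap P P' w ∈ N * N := by
      have := Ideal.mem_map_of_mem (algebraMap P P') hw
      rw [Ideal.map_pow, pow_two, Ideal.map_span] at this
      refine Ideal.mul_mono ?_ ?_ this <;>
        exact Ideal.span_le.2 (by rintro _ ⟨_, ⟨k, rfl⟩, rfl⟩; exact hπfv k)
    have h4 : algebraMap P P' (∑ i, pderiv i (f j) * h' i) - G j ∈ N * N := by
      have : algebraMap P P' (∑ i, pderiv i (f j) * h' i) - G j =
          ∑ k, (algebraMap P P' ((Jm * Hm) j k) - E j k) * fv k := by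
        simp only [G, h', Matrix.mulVec, dotProduct, sub_mul, Finset.sum_sub_distrib, Matrix.mul_apply,
          map_sum, map_mul, Finset.mul_sum, Finset.sum_mul, fv, Jm, Hm, Matrix.of_apply, mul_assoc]
        congr 1
        exact Finset.sum_comm
      rw [this]
      refine Submodule.sum_mem _ fun k _ => Ideal.mul_mem_mul ?_ (hπfv k)
      show π (_ - _) = 0
      rw [map_sub, hπ, hπE']
      exact sub_self _
    have : fv j = (algebraMap P P' (f j) - algebraMap P P' (∑ i, pderiv i (f j) * h' i) -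
        algebraMap P P' w) + G j + ((algebraMap P P' (∑ i, pderiv i (f j) * h' i) - G j) +
          algebraMap P P' w) := by simp [fv]; ring
    rw [this]
    exact add_mem (Ideal.mem_sup_left (add_mem (Ideal.mem_sup_left h2)
      (Ideal.mem_sup_right (Ideal.subset_span ⟨j, rfl⟩)))) (Ideal.mem_sup_right (add_mem h4 h3))
  let Jt := K ⊔ Ideal.span (Set.range G)
  have hNle : N ≤ Jt ⊔ N * N :=
    hU.trans (sup_le (hkerΦN.trans (sup_le (le_sup_left.trans le_sup_left)
      (Ideal.span_le.2 (by rintro _ ⟨j, rfl⟩; exact hfvG j)))) le_sup_right)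
  obtain ⟨g₁, d, hg₁, hg₁N⟩ := exists_sub_pow_mem_and_mul_mem (I := N₀) (J := Jt) (Q := N)
    (Submodule.fg_span ((Set.finite_range δ).union (Set.finite_range fv))) 1 fun x hx => by
      rw [one_mul]
      have h1 : N * N ≤ Jt ⊔ N * N₀ := (Ideal.mul_mono_right hN).trans
        (by rw [Ideal.mul_sup]; exact sup_le_sup_right (Ideal.mul_le_right.trans le_sup_left) _)
      exact sup_le le_sup_left h1 (hNle (hN₀ hx))
  rw [one_pow] at hg₁
  have hg₁' : ∀ x ∈ N, g₁ * x ∈ Jt := fun x hx => by
    obtain ⟨a, ha, b, hb, rfl⟩ := Submodule.mem_sup.1 (hN hx)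
    rw [mul_add]
    exact add_mem (Ideal.mul_mem_left _ _ (Ideal.mem_sup_left ha)) (hg₁N b hb)
  let g := W.det * g₁
  have hπg : π g = 1 := by
    rw [map_mul, hπW, one_mul, ← sub_eq_zero, ← map_one π, ← map_sub]
    exact hg₁
  let Q := P' ⧸ Ideal.span (Set.range G)
  let A := Localization.Away (Ideal.Quotient.mk (Ideal.span (Set.range G)) g)
  haveI : Algebra.FormallySmooth R A :=
    formallySmooth_of_retract_jacobian G D E hE.eq hEG H' g (dvd_mul_right _ _) A
  haveI : Algebra.FinitePresentation R Q :=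
    Algebra.FinitePresentation.quotient (Submodule.fg_span (Set.finite_range G))
  haveI : Algebra.FinitePresentation Q A :=
    IsLocalization.Away.finitePresentation (Ideal.Quotient.mk (Ideal.span (Set.range G)) g)
  haveI : Algebra.FinitePresentation R A := Algebra.FinitePresentation.trans R Q A
  have hGN : ∀ x ∈ Ideal.span (Set.range G), π x = 0 := fun x hx =>
    (Ideal.span_le.2 (by rintro _ ⟨j, rfl⟩; exact hπG j) : Ideal.span (Set.range G) ≤ N) hx
  let πR : P' →ₐ[R] A₀ := ⟨π.toRingHom, fun r => by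
    show π (algebraMap P P' (algebraMap R P r)) = _
    rw [hπ, AlgHom.commutes]⟩
  let πQ : Q →ₐ[R] A₀ := Ideal.Quotient.liftₐ _ πR hGN
  have hu : ∀ y : Submonoid.powers (Ideal.Quotient.mk (Ideal.span (Set.range G)) g), IsUnit (πQ y) := by
    rintro ⟨_, j, rfl⟩
    simp only [map_pow]
    exact (show IsUnit (π g) from hπg ▸ isUnit_one).pow j
  let πA : A →ₐ[R] A₀ := IsLocalization.liftAlgHom (f := πQ) hu
  have hπA : ∀ x, πA (algebraMap Q A (Ideal.Quotient.mk _ x)) = π x := fun x =>
    IsLocalization.lift_eq _ _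
  refine ⟨A, inferInstance, inferInstance, ⟨inferInstance, inferInstance⟩, πA, fun a => ?_, ?_⟩
  · obtain ⟨x, hx⟩ := hπs a
    exact ⟨_, (hπA x).trans hx⟩
  refine le_antisymm (fun z hz => ?_) (Ideal.map_le_iff_le_comap.2 fun r hr => ?_)
  · obtain ⟨j, x, hx⟩ := IsLocalization.Away.surj (Ideal.Quotient.mk (Ideal.span (Set.range G)) g) z
    obtain ⟨x, rfl⟩ := Ideal.Quotient.mk_surjective x
    have h0 : π x = 0 := by
      rw [← hπA, ← hx, map_mul, show πA z = 0 from hz, zero_mul]
    have h1 : g * x ∈ Jt := by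
      rw [mul_assoc]; exact Ideal.mul_mem_left _ _ (hg₁' x h0)
    let toA : P' →+* A := (algebraMap Q A).comp (Ideal.Quotient.mk _)
    have h2 : toA (g * x) ∈ (RingHom.ker (algebraMap R R₀)).map (algebraMap R A) := by
      have h3 := Ideal.mem_map_of_mem toA h1
      rw [Ideal.map_sup, Ideal.map_map] at h3
      refine (show Ideal.map (toA.comp (algebraMap R P')) (RingHom.ker (algebraMap R R₀)) ⊔
        Ideal.map toA (Ideal.span (Set.range G)) ≤ _ from sup_le ?_ ?_) h3
      · rw [show toA.comp (algebraMap R P') = algebraMap R A from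
          (IsScalarTower.algebraMap_eq R Q A).symm]
      · rw [Ideal.map_span, Ideal.span_le]
        rintro _ ⟨_, ⟨k, rfl⟩, rfl⟩
        have : toA (G k) = 0 := by
          show algebraMap Q A (Ideal.Quotient.mk _ (G k)) = 0
          have : Ideal.Quotient.mk (Ideal.span (Set.range G)) (G k) = 0 :=
            Ideal.Quotient.eq_zero_iff_mem.2 (Ideal.subset_span ⟨k, rfl⟩)
          rw [this]
          exact map_zero (algebraMap Q A)
        rw [this]
        exact Submodule.zero_mem _
    have hgu : IsUnit (toA g) :=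
      IsLocalization.Away.algebraMap_isUnit (Ideal.Quotient.mk (Ideal.span (Set.range G)) g) (S := A)
    have h5 : toA (g * x) = toA g * toA x := map_mul toA g x
    rw [h5, Ideal.unit_mul_mem_iff_mem _ hgu] at h2
    have h4 : toA x ∈ (RingHom.ker (algebraMap R R₀)).map (algebraMap R A) := h2
    rw [show toA x = z * _ from hx.symm,
      Ideal.mul_unit_mem_iff_mem _ ((IsLocalization.Away.algebraMap_isUnit _).pow j)] at h4
    exact h4
  · show πA (algebraMap R A r) = 0
    rw [AlgHom.commutes, IsScalarTower.algebraMap_apply R R₀ A₀, show algebraMap R R₀ r = 0 from hr,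
      map_zero]

end Groth.Agent.Smooth28
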