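import Mathlib.RingTheory.AdjoinRoot
import Mathlib.RingTheory.Idempotents
import Mathlib.RingTheory.Smooth.StandardSmoothOfFree
import Mathlib.LinearAlgebra.Matrix.Charpoly.Basic
import Mathlib.LinearAlgebra.TensorProduct.Basis
import Mathlib.LinearAlgebra.Matrix.ToLinearEquiv
import Mathlib.RingTheory.Norm.Defs
import Mathlib.Algebra.MvPolynomial.PDeriv

/-!
Lifting an idempotent matrix to an etale neighbourhood.
-/

namespace Groth.Agent.Smooth28

open TensorProduct Matrix MvPolynomial

universe u v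

section

variable {P : Type u} [CommRing P] {m : Type*} [Fintype m] [DecidableEq m] (Et : Matrix m m P)

/-- The commutative algebra generated by a matrix. -/
abbrev CharAlg : Type u := AdjoinRoot Et.charpoly

/-- Evaluation at the matrix over a `P`-algebra. -/
noncomputable def evB (Q : Type v) [CommRing Q] [Algebra P Q] : CharAlg Et →ₐ[P] Matrix m m Q :=
  Ideal.Quotient.liftₐ (Ideal.span {Et.charpoly}) (Polynomial.aeval (Et.map (algebraMap P Q)))
    fun x hx => by
      obtain ⟨y, rfl⟩ := Ideal.mem_span_singleton.1 hx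
      have h : Polynomial.aeval (Et.map (algebraMap P Q)) Et.charpoly = 0 := by
        have := Polynomial.aeval_algHom_apply (Algebra.ofId P Q).mapMatrix Et Et.charpoly
        rw [Matrix.aeval_self_charpoly, map_zero] at this
        exact this
      rw [map_mul, h, zero_mul]

/-- Evaluation at the matrix, with coefficients. -/
noncomputable def evQ (Q : Type v) [CommRing Q] [Algebra P Q] :
    Q ⊗[P] CharAlg Et →ₐ[Q] Matrix m m Q :=
  Algebra.TensorProduct.lift (Algebra.ofId Q _) (evB Et Q) fun _ _ => Algebra.commutes _ _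

theorem evQ_tmul {Q : Type v} [CommRing Q] [Algebra P Q] (q : Q) (b : CharAlg Et) :
    evQ Et Q (q ⊗ₜ b) = q • evB Et Q b := by
  erw [Algebra.TensorProduct.lift_tmul]
  rw [Algebra.smul_def]
  rfl

theorem evB_root (Q : Type v) [CommRing Q] [Algebra P Q] :
    evB Et Q (AdjoinRoot.root _) = Et.map (algebraMap P Q) :=
  (Polynomial.aeval_X (R := P) (Et.map (algebraMap P Q)) :)

theorem evB_natural {Q Q' : Type v} [CommRing Q] [Algebra P Q] [CommRing Q'] [Algebra P Q']
    (f : Q →ₐ[P] Q') (b : CharAlg Et) : f.mapMatrix (evB Et Q b) = evB Et Q' b := by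
  obtain ⟨p, rfl⟩ := AdjoinRoot.mk_surjective b
  show f.mapMatrix (Polynomial.aeval _ p) = Polynomial.aeval _ p
  have : f.mapMatrix (Et.map (algebraMap P Q)) = Et.map (algebraMap P Q') := by
    ext i j; simp
  rw [← Polynomial.aeval_algHom_apply, this]

theorem evQ_natural {Q Q' : Type v} [CommRing Q] [Algebra P Q] [CommRing Q'] [Algebra P Q']
    (f : Q →ₐ[P] Q') (x : Q ⊗[P] CharAlg Et) :
    f.mapMatrix (evQ Et Q x) = evQ Et Q' (Algebra.TensorProduct.map f (AlgHom.id P _) x) := by
  induction x using TensorProduct.induction_on with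
  | zero => simp
  | add x y hx hy => simp only [map_add, hx, hy]
  | tmul q b =>
    rw [Algebra.TensorProduct.map_tmul, evQ_tmul, evQ_tmul, AlgHom.id_apply, ← evB_natural Et f b]
    ext i j
    simp

theorem eigen_idem {κ : Type*} [CommRing κ] [IsDomain κ] (M : Matrix m m κ) (hM : M * M = M)
    {lam : κ} (hroot : M.charpoly.eval lam = 0) : lam * lam - lam = 0 := by
  rw [Matrix.eval_charpoly] at hroot
  obtain ⟨v, hv0, hv⟩ := Matrix.exists_mulVec_eq_zero_iff.2 hroot
  have hv' : M.mulVec v = lam • v := by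
    rw [Matrix.sub_mulVec, sub_eq_zero] at hv
    rw [show (M.mulVec v) = _ from hv.symm]
    ext i
    simp [Matrix.scalar_apply, Matrix.mulVec_diagonal]
  have h3 : (lam * lam - lam) • v = 0 := by
    have h4 := congrArg M.mulVec hv'
    rw [Matrix.mulVec_mulVec, hM, Matrix.mulVec_smul, hv', smul_smul] at h4
    rw [sub_smul, ← h4, sub_self]
  obtain ⟨i, hi⟩ := Function.ne_iff.1 hv0
  exact (mul_eq_zero.1 (congrFun h3 i)).resolve_right hi

theorem sq_sub_self_isNilpotent {A₀ : Type v} [CommRing A₀] [Algebra P A₀]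
    (hE : IsIdempotentElem (Et.map (algebraMap P A₀))) :
    IsNilpotent (((1 : A₀) ⊗ₜ[P] AdjoinRoot.root Et.charpoly) * ((1 : A₀) ⊗ₜ AdjoinRoot.root _) -
      (1 : A₀) ⊗ₜ AdjoinRoot.root _) := by
  rw [← mem_nilradical, nilradical_eq_sInf]
  refine Submodule.mem_sInf.2 fun 𝔭 h𝔭 => ?_
  haveI : Ideal.IsPrime 𝔭 := h𝔭
  haveI : IsDomain ((A₀ ⊗[P] CharAlg Et) ⧸ (𝔭 : Ideal (A₀ ⊗[P] CharAlg Et))) := Ideal.Quotient.isDomain _
  let κ := FractionRing ((A₀ ⊗[P] CharAlg Et) ⧸ 𝔭)
  let g : A₀ ⊗[P] CharAlg Et →+* κ := (algebraMap _ κ).comp (Ideal.Quotient.mk 𝔭)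
  let ι : A₀ →+* κ := g.comp Algebra.TensorProduct.includeLeftRingHom
  let lam : κ := g (1 ⊗ₜ AdjoinRoot.root _)
  let M : Matrix m m κ := Et.map (ι.comp (algebraMap P A₀))
  have hM : M * M = M := by
    have := congrArg ι.mapMatrix hE.eq
    rw [map_mul] at this
    have h2 : ι.mapMatrix (Et.map (algebraMap P A₀)) = M := by ext i j; rfl
    rwa [h2] at this
  have hroot : Et.charpoly.eval₂ (ι.comp (algebraMap P A₀)) lam = 0 := by
    let g' : CharAlg Et →+* κ := g.comp Algebra.TensorProduct.includeRight.toRingHom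
    have h1 := congrArg g' (AdjoinRoot.eval₂_root Et.charpoly)
    rw [Polynomial.hom_eval₂, map_zero] at h1
    have hc : g'.comp (AdjoinRoot.of Et.charpoly) = ι.comp (algebraMap P A₀) := by
      ext p
      show g ((1 : A₀) ⊗ₜ[P] algebraMap P (CharAlg Et) p) = g (algebraMap P A₀ p ⊗ₜ (1 : CharAlg Et))
      rw [Algebra.algebraMap_eq_smul_one, Algebra.algebraMap_eq_smul_one, TensorProduct.tmul_smul,
        TensorProduct.smul_tmul']
    rw [hc] at h1
    exact h1
  rw [Polynomial.eval₂_eq_eval_map, ← Matrix.charpoly_map] at hroot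
  haveI : IsDomain κ := IsLocalization.isDomain_localization le_rfl
  have h5 : lam * lam - lam = 0 := eigen_idem M hM hroot
  rw [← map_mul, ← map_sub] at h5
  have h6 := (IsFractionRing.injective ((A₀ ⊗[P] CharAlg Et) ⧸ 𝔭) κ) (h5.trans (map_zero _).symm)
  exact Ideal.Quotient.eq_zero_iff_mem.1 h6

theorem exists_idempotent_point {A₀ : Type v} [CommRing A₀] [Algebra P A₀]
    (hE : IsIdempotentElem (Et.map (algebraMap P A₀))) :
    ∃ e : A₀ ⊗[P] CharAlg Et, IsIdempotentElem e ∧ evQ Et A₀ e = Et.map (algebraMap P A₀) := by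
  let θ : A₀ ⊗[P] CharAlg Et := (1 : A₀) ⊗ₜ AdjoinRoot.root _
  obtain ⟨k, hk⟩ := sq_sub_self_isNilpotent Et hE
  let J : Ideal (A₀ ⊗[P] CharAlg Et) := Ideal.span {θ * θ - θ}
  have hJ : ∀ x ∈ J, IsNilpotent x := by
    intro x hx
    obtain ⟨c, rfl⟩ := Ideal.mem_span_singleton'.1 hx
    exact ⟨k, by rw [mul_pow, hk, mul_zero]⟩
  have hid : IsIdempotentElem (Ideal.Quotient.mk J θ) := by
    show _ = _
    rw [← map_mul, Ideal.Quotient.eq]
    exact Ideal.subset_span rfl
  obtain ⟨e, he, hmk⟩ := exists_isIdempotentElem_eq_of_ker_isNilpotent (Ideal.Quotient.mk J)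
    (fun x hx => hJ x (Ideal.Quotient.eq_zero_iff_mem.1 hx)) _ ⟨θ, rfl⟩ hid
  refine ⟨e, he, ?_⟩
  have hθ : evQ Et A₀ θ = Et.map (algebraMap P A₀) := by rw [evQ_tmul, evB_root, one_smul]
  set F := evQ Et A₀ e with hF
  set G := Et.map (algebraMap P A₀) with hG
  have hFF : F * F = F := by rw [hF, ← map_mul, he.eq]
  have hGG : G * G = G := hE.eq
  have hc : Commute F G := by rw [hF, ← hθ]; exact (Commute.all e θ).map _
  have hn : IsNilpotent (F - G) := by
    rw [hF, ← hθ, ← map_sub]
    exact (hJ _ (Ideal.Quotient.eq.1 hmk)).map _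
  have h3 : (F - G) * (F - G) * (F - G) = F - G := by
    have e1 : (F - G) * (F - G) = F + G - (F * G + F * G) := by
      rw [sub_mul, mul_sub, mul_sub, hFF, hGG, ← hc.eq]; abel
    have e2 : F * G * F = F * G := by rw [mul_assoc, ← hc.eq, ← mul_assoc, hFF]
    have e3 : F * G * G = F * G := by rw [mul_assoc, hGG]
    rw [e1, sub_mul, add_mul, add_mul, mul_sub, mul_sub, mul_sub (F * G), hFF, hGG, ← hc.eq, e2, e3]
    abel
  obtain ⟨r, hr⟩ := hn
  have hodd : ∀ j : ℕ, (F - G) ^ (2 * j + 1) = F - G := by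
    intro j
    induction j with
    | zero => simp
    | succ j ih =>
      rw [show 2 * (j + 1) + 1 = (2 * j + 1) + 2 by ring, pow_add, ih, pow_two, ← mul_assoc, h3]
  rw [← sub_eq_zero, ← hodd r]
  exact pow_eq_zero_of_le (by omega) hr

end

/-- An idempotent matrix over a quotient lifts to an idempotent over an etale neighbourhood. -/
theorem exists_etale_idempotent_lift {P A₀ : Type u} [CommRing P] [CommRing A₀] [Algebra P A₀]
    (hπ : Function.Surjective (algebraMap P A₀)) {m : Type*} [Fintype m] [DecidableEq m]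
    (Et : Matrix m m P) (hE : IsIdempotentElem (Et.map (algebraMap P A₀))) :
    ∃ (P' : Type u) (_ : CommRing P') (_ : Algebra P P'), Algebra.Etale P P' ∧
      ∃ π : P' →ₐ[P] A₀, Function.Surjective π ∧
        ∃ E : Matrix m m P', IsIdempotentElem E ∧ π.mapMatrix E = Et.map (algebraMap P A₀) := by
  classical
  let B := CharAlg Et
  let b : Module.Basis (Fin Et.charpoly.natDegree) P B :=
    AdjoinRoot.powerBasisAux' Et.charpoly_monic
  let Q₀ := MvPolynomial (Fin Et.charpoly.natDegree) P
  let b₀ := b.baseChange Q₀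
  let Z : Q₀ ⊗[P] B := ∑ i, (MvPolynomial.X i : Q₀) ⊗ₜ b i
  let G : Fin Et.charpoly.natDegree → Q₀ := fun k => b₀.repr (Z * Z - Z) k
  -- derivatives
  let Dt : Fin Et.charpoly.natDegree → (Q₀ ⊗[P] B →ₗ[P] Q₀ ⊗[P] B) := fun i =>
    LinearMap.rTensor B (pderiv i).toLinearMap
  have hDt : ∀ i q c, Dt i (q ⊗ₜ c) = pderiv i q ⊗ₜ c := fun i q c => rfl
  have hleib : ∀ i x y, Dt i (x * y) = Dt i x * y + x * Dt i y := by
    intro i x y
    induction x using TensorProduct.induction_on with
    | zero => simp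
    | add x₁ x₂ h₁ h₂ => simp only [add_mul, map_add, h₁, h₂]; abel
    | tmul q c =>
      induction y using TensorProduct.induction_on with
      | zero => simp
      | add y₁ y₂ h₁ h₂ => simp only [mul_add, map_add, h₁, h₂]; abel
      | tmul q' c' =>
        simp only [Algebra.TensorProduct.tmul_mul_tmul, hDt]
        rw [← TensorProduct.add_tmul]
        congr 1
        exact pderiv_mul
  have hrepr : ∀ i x k, b₀.repr (Dt i x) k = pderiv i (b₀.repr x k) := by
    intro i x k
    induction x using TensorProduct.induction_on with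
    | zero => simp
    | add x₁ x₂ h₁ h₂ => simp only [map_add, Finsupp.add_apply, h₁, h₂]
    | tmul q c => simp [b₀, hDt, Module.Basis.baseChange_repr_tmul, Derivation.map_smul]
  have hDZ : ∀ i, Dt i Z = (1 : Q₀) ⊗ₜ b i := by
    intro i
    simp only [Z, map_sum, hDt, pderiv_X, Pi.single_apply]
    rw [Finset.sum_eq_single i (fun j _ hj => by simp [hj]) (by simp)]
    simp
  let U : Q₀ ⊗[P] B := Z + Z - 1
  have hG : ∀ i k, pderiv i (G k) = Algebra.leftMulMatrix b₀ U k i := by
    intro i k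
    rw [Algebra.leftMulMatrix_eq_repr_mul, ← hrepr, map_sub, hleib, hDZ,
      show b₀ i = (1 : Q₀) ⊗ₜ b i by simp [b₀]]
    congr 2
    simp only [U, sub_mul, add_mul, one_mul]
    ring
  -- the quotient
  let P' := Q₀ ⧸ Ideal.span (Set.range G)
  let ψ : Q₀ →ₐ[P] P' := Ideal.Quotient.mkₐ P _
  let b' := b.baseChange P'
  let Ψ := Algebra.TensorProduct.map ψ (AlgHom.id P B)
  have hΨ : ∀ x k, b'.repr (Ψ x) k = ψ (b₀.repr x k) := by
    intro x k
    induction x using TensorProduct.induction_on with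
    | zero => simp
    | add x₁ x₂ h₁ h₂ => simp only [map_add, Finsupp.add_apply, h₁, h₂]
    | tmul q c => simp [Ψ, b', b₀, Module.Basis.baseChange_repr_tmul]
  have hzero : Ψ (Z * Z - Z) = 0 := by
    apply b'.repr.injective
    ext k
    rw [hΨ, map_zero, Finsupp.zero_apply]
    exact Ideal.Quotient.eq_zero_iff_mem.2 (Ideal.subset_span ⟨k, rfl⟩)
  have hz : IsIdempotentElem (Ψ Z) := by
    show _ = _
    rw [← sub_eq_zero, ← map_mul, ← map_sub, hzero]
  have hdet : IsUnit (ψ (Algebra.leftMulMatrix b₀ U).det) := by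
    have h1 : ψ.mapMatrix (Algebra.leftMulMatrix b₀ U) = Algebra.leftMulMatrix b' (Ψ U) := by
      ext1 k i
      rw [AlgHom.mapMatrix_apply, Matrix.map_apply, Algebra.leftMulMatrix_eq_repr_mul,
        Algebra.leftMulMatrix_eq_repr_mul, ← hΨ, map_mul]
      congr 2
      simp [Ψ, b₀, b']
    rw [AlgHom.map_det, h1]
    refine IsUnit.map Matrix.detMonoidHom (IsUnit.map (Algebra.leftMulMatrix b') ?_)
    have : Ψ U * Ψ U = 4 * (Ψ Z * Ψ Z - Ψ Z) + 1 := by
      simp only [U, map_sub, map_add, map_one]; ring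
    rw [hz.eq, sub_self, mul_zero, zero_add] at this
    exact ⟨⟨Ψ U, Ψ U, this, this⟩, rfl⟩
  let pres : Algebra.PreSubmersivePresentation P P' (Fin Et.charpoly.natDegree)
      (Fin Et.charpoly.natDegree) := Algebra.PreSubmersivePresentation.naive id Function.injective_id
  have hjac : IsUnit pres.jacobian := by
    rw [Algebra.PreSubmersivePresentation.jacobian_eq_jacobiMatrix_det]
    have h1 : pres.jacobiMatrix = (Algebra.leftMulMatrix b₀ U).transpose := by
      ext i k : 1
      rw [Algebra.PreSubmersivePresentation.jacobiMatrix_naive]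
      exact hG i k
    have hval : ∀ z, algebraMap pres.Ring P' z = ψ z := fun z => by
      rw [pres.algebraMap_apply]
      exact AlgHom.congr_fun (show aeval pres.val = ψ from MvPolynomial.algHom_ext fun i => by
        rw [aeval_X]
        simp [pres, ψ, Algebra.PreSubmersivePresentation.naive, Algebra.Presentation.naive,
          Algebra.Generators.naive]
        rfl) z
    rw [h1, Matrix.det_transpose, hval]
    exact hdet
  haveI : Algebra.IsStandardSmoothOfRelativeDimension 0 P P' :=
    Algebra.SubmersivePresentation.isStandardSmoothOfRelativeDimension ⟨pres, hjac⟩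
      (by simp [Algebra.Presentation.dimension])
  refine ⟨P', inferInstance, inferInstance,
    Algebra.Etale.iff_isStandardSmoothOfRelativeDimension_zero.2 inferInstance, ?_⟩
  obtain ⟨e, he, hee⟩ := exists_idempotent_point Et hE
  let bA := b.baseChange A₀
  let c : Q₀ →ₐ[P] A₀ := MvPolynomial.aeval fun i => bA.repr e i
  let C := Algebra.TensorProduct.map c (AlgHom.id P B)
  have hC : ∀ x k, bA.repr (C x) k = c (b₀.repr x k) := by
    intro x k
    induction x using TensorProduct.induction_on with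
    | zero => simp
    | add x₁ x₂ h₁ h₂ => simp only [map_add, Finsupp.add_apply, h₁, h₂]
    | tmul q c' => simp [C, bA, b₀, Module.Basis.baseChange_repr_tmul]
  have hCZ : C Z = e := by
    conv_rhs => rw [← bA.sum_repr e]
    simp only [C, Z, map_sum, Algebra.TensorProduct.map_tmul, AlgHom.id_apply, c, MvPolynomial.aeval_X]
    refine Finset.sum_congr rfl fun i _ => ?_
    erw [MvPolynomial.aeval_X]
    simp [bA, TensorProduct.smul_tmul']
  let π : P' →ₐ[P] A₀ := Ideal.Quotient.liftₐ _ c (fun x hx => by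
    refine (Ideal.span_le.2 ?_ : Ideal.span (Set.range G) ≤ RingHom.ker c.toRingHom) hx
    rintro _ ⟨k, rfl⟩
    show c (b₀.repr (Z * Z - Z) k) = 0
    rw [← hC, map_sub, map_mul, hCZ, he.eq, sub_self, map_zero, Finsupp.zero_apply])
  refine ⟨π, fun a => ?_, evQ Et P' (Ψ Z), hz.map _, ?_⟩
  · obtain ⟨p, rfl⟩ := hπ a
    exact ⟨algebraMap P P' p, π.commutes p⟩
  · rw [evQ_natural Et π, ← hee, ← hCZ]
    congr 1
    simp only [Z, map_sum, Ψ, C, Algebra.TensorProduct.map_tmul, AlgHom.id_apply]
    rfl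

end Groth.Agent.Smooth28
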