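import Mathlib.Algebra.MvPolynomial.PDeriv
import Mathlib.RingTheory.Ideal.Operations
import Mathlib.RingTheory.Kaehler.Basic
import Mathlib.Tactic.LinearCombination
import Mathlib.Tactic.Ring

/-!
First order Taylor expansion, partial derivatives of powers of an ideal.
-/

namespace Groth.Agent.Smooth28

open MvPolynomial

variable {R : Type*} [CommRing R] {ι : Type*} [Fintype ι]

theorem aeval_add_of_mul_eq_zero {B : Type*} [CommRing B] [Algebra R B] (y d : ι → B)
    (hd : ∀ i j, d i * d j = 0) (x : MvPolynomial ι R) :
    aeval (fun i => y i + d i) x = aeval y x + ∑ i, aeval y (pderiv i x) * d i := by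
  classical
  induction x using MvPolynomial.induction_on with
  | C r => simp
  | add p q hp hq =>
    simp only [map_add, hp, hq, add_mul, Finset.sum_add_distrib]
    ring
  | mul_X p j hp =>
    simp only [map_mul, aeval_X, hp, pderiv_mul, map_add, add_mul, Finset.sum_add_distrib,
      pderiv_X, Pi.single_apply, mul_ite, mul_one, mul_zero]
    have h1 : (∑ i, aeval y (if i = j then p else 0) * d i) = aeval y p * d j := by
      rw [Finset.sum_eq_single j (fun i _ hi => by simp [hi]) (by simp)]
      simp
    have h2 : (∑ i, aeval y (pderiv i p) * d i) * d j = 0 := by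
      rw [Finset.sum_mul]
      exact Finset.sum_eq_zero fun i _ => by rw [mul_assoc, hd, mul_zero]
    have h3 : (∑ i, aeval y (pderiv i p) * y j * d i) = (∑ i, aeval y (pderiv i p) * d i) * y j := by
      rw [Finset.sum_mul]
      exact Finset.sum_congr rfl fun i _ => by ring
    have h4 : ∀ i, (if j = i then p else 0) = (if i = j then p else 0) := fun i => by
      rcases eq_or_ne i j with rfl | h
      · simp
      · simp [h, Ne.symm h]
    simp only [h4, h1, h3]
    linear_combination h2

omit [Fintype ι] in
theorem pderiv_mem_of_mem_sq {I : Ideal (MvPolynomial ι R)} {x : MvPolynomial ι R}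
    (hx : x ∈ I ^ 2) (i : ι) : pderiv i x ∈ I := by
  rw [pow_two] at hx
  refine Submodule.mul_induction_on hx ?_ ?_
  · intro a ha b hb
    rw [pderiv_mul]
    exact add_mem (I.mul_mem_left _ hb) (I.mul_mem_right _ ha)
  · intro a b ha hb
    rw [map_add]
    exact add_mem ha hb

theorem derivation_aeval {A : Type*} [CommRing A] [Algebra R A] {M : Type*} [AddCommGroup M]
    [Module A M] [Module R M] [IsScalarTower R A M] (δ : Derivation R A M) (v : ι → A)
    (x : MvPolynomial ι R) : δ (aeval v x) = ∑ i, aeval v (pderiv i x) • δ (v i) := by
  classical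
  induction x using MvPolynomial.induction_on with
  | C r => simp
  | add p q hp hq => simp only [map_add, hp, hq, add_smul, Finset.sum_add_distrib]
  | mul_X p j hp =>
    simp only [map_mul, aeval_X, Derivation.leibniz, hp, pderiv_mul, map_add, add_smul,
      Finset.sum_add_distrib, pderiv_X, Pi.single_apply, Finset.smul_sum]
    congr 1
    · rw [Finset.sum_eq_single j (fun i _ hi => by simp [Ne.symm hi]) (by simp)]
      simp
    · exact Finset.sum_congr rfl fun i _ => by rw [smul_smul, smul_eq_mul, map_mul, aeval_X]

end Groth.Agent.Smooth28
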