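import Groth.Agent.Smooth28.Det
import Groth.Agent.Smooth28.Taylor
import Groth.Prelude.Def_Smoothing
import Mathlib.RingTheory.Smooth.StandardSmooth
import Mathlib.RingTheory.Localization.Away.Basic

/-!
Localizations at elementary standard elements are standard smooth.
-/

namespace Groth.Agent.Smooth28

open MvPolynomial Algebra

universe u

variable {R : Type u} [CommRing R] {A : Type u} [CommRing A] [Algebra R A]

/-- An element killing the tail and congruent to a power of `a'`, times `a'`. -/
theorem exists_killer {n : ℕ} {φ : MvPolynomial (Fin n) R →ₐ[R] A}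
    {J : Ideal (MvPolynomial (Fin n) R)} (hfg : (RingHom.ker φ.toRingHom).FG)
    (a' : MvPolynomial (Fin n) R)
    (h : ∀ x, φ x = 0 → a' * x ∈ J ⊔ RingHom.ker φ.toRingHom ^ 2) :
    ∃ (g : MvPolynomial (Fin n) R) (d : ℕ),
      φ g = φ a' ^ (d + 1) ∧ ∀ x, φ x = 0 → g * x ∈ J := by
  obtain ⟨g, d, hgd, hg⟩ := exists_sub_pow_mem_and_mul_mem hfg a'
    (J := J) (Q := RingHom.ker φ.toRingHom) fun x hx => by
      rw [← pow_two]; exact h x hx
  refine ⟨a' * g, d, ?_, fun x hx => ?_⟩
  · have : φ (g - a' ^ d) = 0 := hgd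
    rw [map_sub, sub_eq_zero, map_pow] at this
    rw [map_mul, this, pow_succ, mul_comm]
  · rw [mul_assoc]
    exact J.mul_mem_left _ (hg x hx)

theorem isStandardSmooth_of_data {n m c : ℕ} (φ : MvPolynomial (Fin n) R →ₐ[R] A)
    (hφ : Function.Surjective φ) (f : Fin m → MvPolynomial (Fin n) R)
    (hker : RingHom.ker φ.toRingHom = Ideal.span (Set.range f))
    (rows : Fin c → Fin m) (cols : Fin c → Fin n) (hcols : Function.Injective cols) (a : A)
    (hdet : φ (Smoothing.jacobianMinor f rows cols) ∣ a)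
    (a' : MvPolynomial (Fin n) R) (ha' : φ a' = a)
    (htail : ∀ x, φ x = 0 →
      a' * x ∈ Ideal.span (Set.range (f ∘ rows)) ⊔ RingHom.ker φ.toRingHom ^ 2)
    (T : Type u) [CommRing T] [Algebra R T] [Algebra A T] [IsScalarTower R A T]
    [IsLocalization.Away a T] : Algebra.IsStandardSmooth R T := by
  classical
  set v : Fin c → MvPolynomial (Fin n) R := f ∘ rows with hv
  obtain ⟨g, d, hg, hgJ⟩ := exists_killer (J := Ideal.span (Set.range v))
    (by rw [hker]; exact ⟨Finset.univ.image f, by simp⟩) a' htail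
  rw [ha'] at hg
  have hvker : ∀ x ∈ Ideal.span (Set.range v), φ x = 0 := by
    intro x hx
    show x ∈ RingHom.ker φ.toRingHom
    rw [hker]
    exact Ideal.span_mono (Set.range_comp_subset_range rows f) hx
  let S0 := MvPolynomial (Fin n) R ⧸ Ideal.span (Set.range v)
  let ψ : S0 →ₐ[R] A := Ideal.Quotient.liftₐ _ φ hvker
  have hψ : ∀ x, ψ (Ideal.Quotient.mk _ x) = φ x := fun x => rfl
  letI : Algebra S0 T := ((algebraMap A T).comp ψ.toRingHom).toAlgebra
  have halg : ∀ x, algebraMap S0 T (Ideal.Quotient.mk _ x) = algebraMap A T (φ x) := fun x => rfl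
  haveI : IsScalarTower R S0 T := IsScalarTower.of_algebraMap_eq (R := R) (S := S0) (A := T) fun r => by
    rw [IsScalarTower.algebraMap_apply R A T, ← ψ.commutes r]
    rfl
  let q : S0 := Ideal.Quotient.mk _ g
  haveI : IsLocalization.Away q T := by
    have hu : IsUnit (algebraMap S0 T q) := by
      rw [halg, hg, map_pow]
      exact (IsLocalization.Away.algebraMap_isUnit a).pow _
    refine IsLocalization.Away.mk q hu (fun z => ?_) fun x y hxy => ?_
    · obtain ⟨k, x, hx⟩ := IsLocalization.Away.surj a z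
      obtain ⟨x', rfl⟩ := hφ x
      refine ⟨k, Ideal.Quotient.mk _ (x' * a' ^ (d * k)), ?_⟩
      rw [halg, halg, hg, map_pow, map_mul φ, map_mul, ← hx, map_pow φ, ha', map_pow, ← pow_mul]
      ring
    · obtain ⟨x, rfl⟩ := Ideal.Quotient.mk_surjective x
      obtain ⟨y, rfl⟩ := Ideal.Quotient.mk_surjective y
      rw [halg, halg, IsLocalization.eq_iff_exists (Submonoid.powers a)] at hxy
      obtain ⟨⟨_, k, rfl⟩, hk⟩ := hxy
      refine ⟨k + 1, ?_⟩
      rw [← map_pow, ← map_mul, ← map_mul, Ideal.Quotient.eq]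
      have h0 : φ (g ^ k * (x - y)) = 0 := by
        rw [map_mul, map_pow, hg, map_sub, ← pow_mul, add_mul, one_mul, pow_add, mul_assoc,
          mul_sub (a ^ k), show a ^ k * φ x = a ^ k * φ y from hk, sub_self, mul_zero]
      have := hgJ _ h0
      convert this using 1
      ring
  let P0 : PreSubmersivePresentation R S0 (Fin n) (Fin c) :=
    PreSubmersivePresentation.naive cols hcols
  let P1 := SubmersivePresentation.localizationAway T q
  let P2 := P1.toPreSubmersivePresentation.comp P0
  have hjac : IsUnit P2.jacobian := by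
    rw [PreSubmersivePresentation.comp_jacobian_eq_jacobian_smul_jacobian, Algebra.smul_def,
      IsUnit.mul_iff]
    refine ⟨?_, P1.jacobian_isUnit⟩
    have h0 : P0.jacobiMatrix =
        (Matrix.of fun j k : Fin c => pderiv (cols k) (f (rows j))).transpose := by
      ext i j : 1
      rw [PreSubmersivePresentation.jacobiMatrix_naive]
      rfl
    have h1 : algebraMap S0 T P0.jacobian =
        algebraMap A T (φ (Smoothing.jacobianMinor f rows cols)) := by
      rw [PreSubmersivePresentation.jacobian_eq_jacobiMatrix_det, h0, Matrix.det_transpose]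
      have hval : ∀ z, algebraMap P0.Ring S0 z = Ideal.Quotient.mk _ z := fun z => by
        rw [P0.algebraMap_apply]
        exact AlgHom.congr_fun (show aeval P0.val = Ideal.Quotient.mkₐ R _ from
          MvPolynomial.algHom_ext fun i => by rw [aeval_X]; simp [P0, PreSubmersivePresentation.naive,
            Presentation.naive, Generators.naive]; rfl) z
      rw [hval, halg]
      rfl
    rw [h1]
    exact isUnit_of_dvd_unit (map_dvd _ hdet) (IsLocalization.Away.algebraMap_isUnit a)
  exact SubmersivePresentation.isStandardSmooth ⟨P2, hjac⟩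

theorem htail_of_killsTail (P : Smoothing.MarkedPresentation R A) {a : A}
    (h : Smoothing.KillsTail P a) {a' : MvPolynomial (Fin P.n) R} (ha' : P.hom a' = a) :
    ∀ x, P.hom x = 0 → a' * x ∈ Ideal.span (Set.range (P.rel ∘ Fin.castLE P.hcm)) ⊔
      RingHom.ker P.hom.toRingHom ^ 2 := by
  intro x hx
  have hx' : x ∈ Ideal.span (Set.range P.rel) :=
    P.ker_eq ▸ (show x ∈ RingHom.ker P.hom.toRingHom from hx)
  clear hx
  induction hx' using Submodule.span_induction with
  | zero => simp
  | add y z _ _ hy hz => rw [mul_add]; exact add_mem hy hz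
  | smul r y _ hy => rw [smul_eq_mul, mul_left_comm]; exact Ideal.mul_mem_left _ r hy
  | mem y hy =>
    obtain ⟨j, rfl⟩ := hy
    by_cases hj : (j : ℕ) < P.c
    · exact Ideal.mem_sup_left (Ideal.mul_mem_left _ _ (Ideal.subset_span ⟨⟨j, hj⟩, rfl⟩))
    · have h1 := h a' ha' j (not_lt.1 hj)
      rw [← P.ker_eq] at h1
      refine (sup_le (le_trans (Ideal.span_mono ?_) le_sup_left) le_sup_right :
        _ ≤ Ideal.span (Set.range (P.rel ∘ Fin.castLE P.hcm)) ⊔ RingHom.ker P.hom.toRingHom ^ 2) h1
      rintro _ ⟨i, hi, rfl⟩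
      exact ⟨⟨i, hi⟩, rfl⟩

end Groth.Agent.Smooth28
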