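import Groth.Agent.Smooth28.Split
import Groth.Agent.Smooth28.Elem
import Mathlib.RingTheory.Smooth.Basic
import Mathlib.RingTheory.FinitePresentation
import Mathlib.LinearAlgebra.Matrix.NonsingularInverse

/-!
A smooth algebra is a retract of a standard smooth one.
-/

namespace Groth.Agent.Smooth28

open MvPolynomial Matrix

universe u

/-- A retract of a formally smooth algebra is formally smooth. -/
theorem formallySmooth_of_retract {R P C : Type u} [CommRing R] [CommRing P] [CommRing C] [Algebra R P]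
    [Algebra R C] [Algebra.FormallySmooth R P] (mk : P →ₐ[R] C) (s : C →ₐ[R] P)
    (h : mk.comp s = AlgHom.id R C) : Algebra.FormallySmooth R C := by
  refine Algebra.FormallySmooth.of_comp_surjective fun {B} _ _ I hI g => ?_
  refine ⟨(Algebra.FormallySmooth.lift I ⟨2, hI⟩ (g.comp mk)).comp s, AlgHom.ext fun x => ?_⟩
  exact (Algebra.FormallySmooth.mk_lift I ⟨2, hI⟩ (g.comp mk) (s x)).trans
    (congrArg g (AlgHom.congr_fun h x))

theorem exists_standardSmooth_retract {R A : Type u} [CommRing R] [CommRing A] [Algebra R A]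
    [Algebra.Smooth R A] :
    ∃ (B : Type u) (_ : CommRing B) (_ : Algebra R B) (_ : Algebra A B) (_ : IsScalarTower R A B),
      Algebra.Smooth A B ∧ Nonempty (B →ₐ[A] A) ∧ Algebra.IsStandardSmooth R B := by
  classical
  obtain ⟨n, φ, hφ, hfg⟩ := (inferInstance : Algebra.FinitePresentation R A).out
  obtain ⟨m, f, hf⟩ := Submodule.fg_iff_exists_fin_generating_family.1 hfg
  replace hf : RingHom.ker φ.toRingHom = Ideal.span (Set.range f) := hf.symm
  haveI : IsLocalization.Away (1 : A) A :=
    IsLocalization.away_of_isUnit_of_bijective A isUnit_one Function.bijective_id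
  obtain ⟨k, h, hh, H⟩ := exists_split_of_formallySmooth (S := A) φ hφ hfg 1 1 (map_one φ)
  simp only [one_pow, one_mul] at H
  let M : Matrix (Fin n) (Fin n) A := Matrix.of fun i j => φ (pderiv j (h i))
  have hM : M * M = M := by
    ext i j
    have h1 : φ (pderiv j (h i - ∑ l, pderiv l (h i) * h l)) = 0 :=
      pderiv_mem_of_mem_sq (H _ (hh i)) j
    simp only [map_sub, map_sum, pderiv_mul, map_add, map_mul, hh, mul_zero, zero_add,
      sub_eq_zero] at h1
    simp only [M, Matrix.mul_apply, Matrix.of_apply, ← h1]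
  -- the algebra
  let rel : Fin n → MvPolynomial (Fin n) A := fun i => X i - ∑ l, C (M i l) * X l
  let S := MvPolynomial (Fin n) A ⧸ Ideal.span (Set.range rel)
  let mk : MvPolynomial (Fin n) A →ₐ[A] S := Ideal.Quotient.mkₐ A _
  have hrel : ∀ i, mk (rel i) = 0 := fun i =>
    Ideal.Quotient.eq_zero_iff_mem.2 (Ideal.subset_span ⟨i, rfl⟩)
  let e : MvPolynomial (Fin n) A →ₐ[A] MvPolynomial (Fin n) A := aeval fun i => ∑ l, C (M i l) * X l
  have he : ∀ x ∈ Ideal.span (Set.range rel), e x = 0 := by
    intro x hx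
    refine (Ideal.span_le.2 ?_ : Ideal.span (Set.range rel) ≤ RingHom.ker e.toRingHom) hx
    rintro _ ⟨i, rfl⟩
    show e (rel i) = 0
    simp only [e, rel, map_sub, map_sum, map_mul, aeval_X, aeval_C, algebraMap_eq, sub_eq_zero]
    simp only [Finset.mul_sum, ← mul_assoc, ← map_mul]
    conv_rhs => rw [Finset.sum_comm]
    refine Finset.sum_congr rfl fun l _ => ?_
    rw [← Finset.sum_mul, ← map_sum, show ∑ x, M i x * M x l = M i l from congrFun (congrFun hM i) l]
  haveI : Algebra.FormallySmooth A S := by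
    refine formallySmooth_of_retract mk (Ideal.Quotient.liftₐ _ e he) ?_
    refine Ideal.Quotient.algHom_ext _ (MvPolynomial.algHom_ext fun i => ?_)
    show mk (e (X i)) = mk (X i)
    rw [eq_comm, ← sub_eq_zero, ← map_sub, show e (X i) = ∑ l, C (M i l) * X l from aeval_X _ _]
    exact hrel i
  haveI : Algebra.FinitePresentation A S :=
    Algebra.FinitePresentation.quotient (Submodule.fg_span (Set.finite_range _))
  -- its presentation over the base
  let P := MvPolynomial (Fin (n + n)) R
  let zv : Fin n → P := fun i => X (Fin.castAdd n i)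
  let yv : Fin n → P := fun i => X (Fin.natAdd n i)
  let ι : MvPolynomial (Fin n) R →ₐ[R] P := aeval fun i => zv i - yv i
  let Φ : P →ₐ[R] S := aeval (Fin.append (fun i => algebraMap A S (φ (X i)) + mk (X i)) fun i => mk (X i))
  have hΦy : ∀ i, Φ (yv i) = mk (X i) := fun i => (aeval_X _ _).trans (Fin.append_right _ _ i)
  have hΦz : ∀ i, Φ (zv i) = algebraMap A S (φ (X i)) + mk (X i) := fun i => (aeval_X _ _).trans (Fin.append_left _ _ i)
  have hΦι : ∀ p, Φ (ι p) = algebraMap A S (φ p) := by
    intro p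
    have : Φ.comp ι = (IsScalarTower.toAlgHom R A S).comp φ :=
      MvPolynomial.algHom_ext fun i => by simp [ι, hΦy, hΦz]
    exact AlgHom.congr_fun this p
  have hΦs : Function.Surjective Φ := by
    intro s
    obtain ⟨q, rfl⟩ := Ideal.Quotient.mk_surjective s
    induction q using MvPolynomial.induction_on with
    | C a =>
      obtain ⟨p, rfl⟩ := hφ a
      exact ⟨ι p, hΦι p⟩
    | add p q hp hq =>
      obtain ⟨a, ha⟩ := hp
      obtain ⟨b, hb⟩ := hq
      exact ⟨a + b, by rw [map_add, map_add, ha, hb]⟩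
    | mul_X p i hp =>
      obtain ⟨a, ha⟩ := hp
      exact ⟨a * yv i, by rw [map_mul, map_mul, ha, hΦy]; rfl⟩
  let r : Fin n → P := fun i => ι (h i) + (yv i - ∑ l, ι (pderiv l (h i)) * yv l)
  have hΦr : ∀ i, Φ (r i) = 0 := fun i => by
    have := hrel i
    simp only [rel, map_sub, map_sum, map_mul] at this
    simp only [r, map_add, map_sub, map_sum, map_mul, hΦι, hΦy, hh, map_zero, zero_add]
    exact this
  let F : Fin (n + m) → P := Fin.append r fun j => ι (f j)
  let rows : Fin n → Fin (n + m) := Fin.castAdd m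
  let cols : Fin n → Fin (n + n) := Fin.natAdd n
  have hFrows : F ∘ rows = r := by
    funext i; simp [F, rows]
  have hrF : ∀ i, r i ∈ Ideal.span (Set.range F) := fun i =>
    Ideal.subset_span ⟨rows i, congrFun hFrows i⟩
  have hιf : ∀ x, φ x = 0 → ι x ∈ Ideal.span (Set.range F) := by
    intro x hx
    have h1 := Ideal.mem_map_of_mem ι (show x ∈ Ideal.span (Set.range f) from hf ▸ hx)
    rw [Ideal.map_span] at h1
    refine Ideal.span_le.2 ?_ h1
    rintro _ ⟨_, ⟨j, rfl⟩, rfl⟩
    exact Ideal.subset_span ⟨Fin.natAdd n j, by simp [F]⟩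
  have hΦF : ∀ x ∈ Ideal.span (Set.range F), Φ x = 0 := by
    intro x hx
    refine (Ideal.span_le.2 ?_ : Ideal.span (Set.range F) ≤ RingHom.ker Φ.toRingHom) hx
    rintro _ ⟨j, rfl⟩
    show Φ (F j) = 0
    induction j using Fin.addCases with
    | left i => simp [F, hΦr]
    | right j =>
      have : φ (f j) = 0 := show f j ∈ RingHom.ker φ.toRingHom from hf ▸ Ideal.subset_span ⟨j, rfl⟩
      simp [F, hΦι, this]
  have hker : RingHom.ker Φ.toRingHom = Ideal.span (Set.range F) := by
    refine le_antisymm (fun x hx => ?_) hΦF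
    let K := Ideal.span (Set.range F)
    let σ : A →ₐ[R] P ⧸ K := AlgHom.liftOfSurjective φ hφ ((Ideal.Quotient.mkₐ R K).comp ι)
      fun p hp => Ideal.Quotient.eq_zero_iff_mem.2 (hιf p hp)
    have hσ : ∀ p, σ (φ p) = Ideal.Quotient.mk K (ι p) := fun p =>
      AlgHom.liftOfSurjective_apply φ hφ ((Ideal.Quotient.mkₐ R K).comp ι) _ p
    let τ : MvPolynomial (Fin n) A →+* P ⧸ K :=
      MvPolynomial.eval₂Hom σ.toRingHom fun i => Ideal.Quotient.mk K (yv i)
    have hτ : ∀ z ∈ Ideal.span (Set.range rel), τ z = 0 := by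
      intro z hz
      refine (Ideal.span_le.2 ?_ : Ideal.span (Set.range rel) ≤ RingHom.ker τ) hz
      rintro _ ⟨i, rfl⟩
      show τ (rel i) = 0
      simp only [τ, rel, map_sub, map_sum, map_mul, eval₂Hom_C, eval₂Hom_X', M, Matrix.of_apply]
      simp only [AlgHom.toRingHom_eq_coe, RingHom.coe_coe, hσ, ← map_mul, ← map_sum, ← map_sub]
      rw [Ideal.Quotient.eq_zero_iff_mem, show yv i - ∑ l, ι (pderiv l (h i)) * yv l = r i - ι (h i) by
        simp [r]]
      exact sub_mem (hrF i) (hιf _ (hh i))
    let τ' : S →+* P ⧸ K := Ideal.Quotient.lift _ τ hτ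
    have hτA : ∀ a, τ' (algebraMap A S a) = σ a := fun a => eval₂Hom_C _ _ a
    have hτy : ∀ i, τ' (mk (X i)) = Ideal.Quotient.mk K (yv i) := fun i => eval₂Hom_X' _ _ i
    have hcomp : τ'.comp Φ.toRingHom = Ideal.Quotient.mk K := by
      refine MvPolynomial.ringHom_ext (fun a => ?_) fun j => ?_
      · show τ' (Φ (C a)) = _
        rw [show Φ (C a) = algebraMap A S (algebraMap R A a) by
          rw [← algebraMap_eq, AlgHom.commutes, IsScalarTower.algebraMap_apply R A S],
          hτA, AlgHom.commutes]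
        rfl
      · show τ' (Φ (X j)) = _
        induction j using Fin.addCases with
        | left i =>
          rw [show (X (Fin.castAdd n i) : P) = zv i from rfl, hΦz, map_add, hτA, hσ, hτy,
            show ι (X i) = zv i - yv i from aeval_X _ _, map_sub, sub_add_cancel]
        | right i => rw [show (X (Fin.natAdd n i) : P) = yv i from rfl, hΦy, hτy]
    rw [← Ideal.Quotient.eq_zero_iff_mem]
    have := RingHom.congr_fun hcomp x
    rw [← this]
    show τ' (Φ x) = 0
    rw [show Φ x = 0 from hx, map_zero]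
  -- the retraction
  let π0' : MvPolynomial (Fin n) A →ₐ[A] A := aeval fun _ => 0
  have hπ0 : ∀ z ∈ Ideal.span (Set.range rel), π0' z = 0 := by
    intro z hz
    refine (Ideal.span_le.2 ?_ : Ideal.span (Set.range rel) ≤ RingHom.ker π0'.toRingHom) hz
    rintro _ ⟨i, rfl⟩
    show π0' (rel i) = 0
    simp [π0', rel]
  let π0 : S →ₐ[A] A := Ideal.Quotient.liftₐ _ π0' hπ0
  let Ψ : P →ₐ[R] A := (π0.restrictScalars R).comp Φ
  have hΨy : ∀ i, Ψ (yv i) = 0 := fun i => by
    show π0 (Φ (yv i)) = 0
    rw [hΦy]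
    exact aeval_X _ _
  have hΨι : ∀ p, Ψ (ι p) = φ p := fun p => by
    show π0 (Φ (ι p)) = φ p
    rw [hΦι]
    exact π0.commutes _
  -- determinant trick
  let Q := RingHom.ker Ψ.toRingHom
  let I₀ : Ideal P := (RingHom.ker φ.toRingHom).map ι
  have hI₀fg : I₀.FG := Ideal.FG.map hfg _
  have hI₀Q : I₀ ≤ Q := Ideal.map_le_iff_le_comap.2 fun x hx => (hΨι x).trans hx
  let J := Ideal.span (Set.range r)
  have hstep : ∀ x ∈ I₀, (1 : P) * x ∈ J ⊔ Q * I₀ := by
    have hhi : ∀ i, ι (h i) ∈ J ⊔ Q * I₀ := by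
      intro i
      have hsq : ι (h i - ∑ l, pderiv l (h i) * h l) ∈ Q * I₀ := by
        have := Ideal.mem_map_of_mem ι (H _ (hh i))
        rw [Ideal.map_pow, pow_two] at this
        exact Ideal.mul_mono hI₀Q le_rfl this
      have h2 : ∑ l, ι (pderiv l (h i)) * r l ∈ J :=
        Submodule.sum_mem _ fun l _ => J.mul_mem_left _ (Ideal.subset_span ⟨l, rfl⟩)
      have h3 : ∑ k, (ι (pderiv k (h i)) - ∑ l, ι (pderiv l (h i)) * ι (pderiv k (h l))) * yv k ∈ Q * I₀ := by
        refine Submodule.sum_mem _ fun k _ => ?_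
        rw [mul_comm (_ - _) (yv k)]
        refine Ideal.mul_mem_mul (hΨy k) ?_
        simp only [← map_mul, ← map_sum, ← map_sub]
        refine Ideal.mem_map_of_mem ι ?_
        show φ _ = 0
        rw [map_sub, map_sum, sub_eq_zero]
        simp only [map_mul]
        exact (congrFun (congrFun hM i) k).symm
      have : ι (h i) = ι (h i - ∑ l, pderiv l (h i) * h l) + ∑ l, ι (pderiv l (h i)) * r l -
          ∑ k, (ι (pderiv k (h i)) - ∑ l, ι (pderiv l (h i)) * ι (pderiv k (h l))) * yv k := by
        have hswap : ∑ x, ι (pderiv x (h i)) * ∑ l, ι (pderiv l (h x)) * yv l =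
            ∑ x, (∑ l, ι (pderiv l (h i)) * ι (pderiv x (h l))) * yv x := by
          rw [Finset.sum_congr rfl fun x _ => Finset.mul_sum Finset.univ
              (fun l => ι (pderiv l (h x)) * yv l) (ι (pderiv x (h i))),
            Finset.sum_congr rfl fun x _ => Finset.sum_mul Finset.univ
              (fun l => ι (pderiv l (h i)) * ι (pderiv x (h l))) (yv x)]
          rw [Finset.sum_comm]
          exact Finset.sum_congr rfl fun x _ => Finset.sum_congr rfl fun l _ => (mul_assoc _ _ _).symm
        simp only [r, map_sub, map_sum, map_mul, mul_add, mul_sub, Finset.sum_add_distrib,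
          Finset.sum_sub_distrib, sub_mul, hswap]
        ring
      rw [this]
      exact sub_mem (add_mem (Ideal.mem_sup_right hsq) (Ideal.mem_sup_left h2)) (Ideal.mem_sup_right h3)
    intro x hx
    rw [one_mul]
    refine (Ideal.map_le_iff_le_comap.2 fun p hp => ?_ : I₀ ≤ J ⊔ Q * I₀) hx
    rw [Ideal.mem_comap, ← sub_add_cancel p (∑ l, pderiv l p * h l), map_add]
    refine add_mem (Ideal.mem_sup_right ?_) ?_
    · have := Ideal.mem_map_of_mem ι (H _ hp)
      rw [Ideal.map_pow, pow_two] at this
      exact Ideal.mul_mono hI₀Q le_rfl this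
    · rw [map_sum]
      refine Submodule.sum_mem _ fun l _ => ?_
      rw [map_mul]
      exact Ideal.mul_mem_left _ _ (hhi l)
  obtain ⟨g, d, hg, hgI⟩ := exists_sub_pow_mem_and_mul_mem hI₀fg 1 hstep
  rw [one_pow] at hg
  have hΨg : Ψ g = 1 := sub_eq_zero.1 (by rw [← map_one Ψ, ← map_sub]; exact hg)
  let a' : P := g * Smoothing.jacobianMinor F rows cols
  let a : S := Φ a'
  -- the minor at the origin
  have hdet : IsUnit (Ψ (Smoothing.jacobianMinor F rows cols)) := by
    have hne : ∀ b k : Fin n, Fin.castAdd n b ≠ Fin.natAdd n k := fun b k => by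
      simp only [ne_eq, Fin.ext_iff, Fin.val_castAdd, Fin.val_natAdd]
      omega
    have hd : ∀ (p : MvPolynomial (Fin n) R) (k : Fin n),
        Ψ (pderiv (Fin.natAdd n k) (ι p)) = -φ (pderiv k p) := by
      intro p k
      rw [show ι p = aeval (fun i => zv i - yv i) p from rfl, derivation_aeval, map_sum,
        Finset.sum_eq_single k (fun b _ hb => ?_) (by simp)]
      · rw [smul_eq_mul, map_mul, show Ψ (aeval (fun i => zv i - yv i) (pderiv k p)) = φ (pderiv k p) from
          hΨι _, map_sub, pderiv_X_of_ne (hne k k), pderiv_X_self, zero_sub, map_neg, map_one,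
          mul_neg_one]
      · rw [map_sub, pderiv_X_of_ne (hne b k), pderiv_X_of_ne ((Fin.natAdd_injective n n).ne hb),
          sub_zero, smul_zero, map_zero]
    rw [Smoothing.jacobianMinor, AlgHom.map_det]
    have h1 : Ψ.mapMatrix (Matrix.of fun j k : Fin n => pderiv (cols k) (F (rows j))) = 1 - M - M := by
      ext i k
      rw [AlgHom.mapMatrix_apply, Matrix.map_apply, Matrix.of_apply,
        show F (rows i) = r i from congrFun hFrows i]
      simp only [r, cols, map_add, map_sub, map_sum, pderiv_mul, Derivation.leibniz, smul_eq_mul,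
        hd, map_mul, hΨy, zero_mul, add_zero, mul_zero, hΨι, Matrix.sub_apply, M, Matrix.of_apply]
      simp [yv, pderiv_X, Pi.single_apply, Matrix.one_apply, apply_ite (φ : _ → A), eq_comm]
      ring
    rw [h1]
    refine IsUnit.map Matrix.detMonoidHom ⟨⟨1 - M - M, 1 - M - M, ?_, ?_⟩, rfl⟩ <;>
    · simp only [Matrix.sub_mul, Matrix.mul_sub, Matrix.mul_one, Matrix.one_mul, hM]
      abel
  have ha : IsUnit (π0 a) := by
    show IsUnit (Ψ (g * _))
    rw [map_mul, hΨg, one_mul]
    exact hdet
  let T := Localization.Away a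
  haveI : Algebra.IsStandardSmooth R T := by
    refine isStandardSmooth_of_data Φ hΦs F hker rows cols (Fin.natAdd_injective _ _) a
      ⟨Φ g, by show Φ (g * _) = _; rw [map_mul, mul_comm]⟩ a' rfl ?_ T
    intro x hx
    refine Ideal.mem_sup_left ?_
    rw [hFrows]
    have hx' : x ∈ Ideal.span (Set.range F) := hker ▸ (show x ∈ RingHom.ker Φ.toRingHom from hx)
    have hle : Ideal.span (Set.range F) ≤ J ⊔ I₀ := by
      refine Ideal.span_le.2 ?_
      rintro _ ⟨j, rfl⟩
      induction j using Fin.addCases with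
      | left i =>
        rw [show F (Fin.castAdd m i) = r i from congrFun hFrows i]
        exact Ideal.mem_sup_left (Ideal.subset_span ⟨i, rfl⟩)
      | right j =>
        refine Ideal.mem_sup_right ?_
        rw [show F (Fin.natAdd n j) = ι (f j) by simp [F]]
        exact Ideal.mem_map_of_mem ι (hf ▸ Ideal.subset_span ⟨j, rfl⟩)
    obtain ⟨u, hu, v, hv, rfl⟩ := Submodule.mem_sup.1 (hle hx')
    rw [show a' * (u + v) = a' * u + Smoothing.jacobianMinor F rows cols * (g * v) by
      simp only [a']; ring]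
    exact add_mem (J.mul_mem_left _ hu) (J.mul_mem_left _ (hgI v hv))
  haveI : Algebra.FormallySmooth S T := Algebra.FormallySmooth.of_isLocalization (Submonoid.powers a)
  haveI : Algebra.FinitePresentation S T := IsLocalization.Away.finitePresentation a
  haveI : Algebra.Smooth A T :=
    ⟨Algebra.FormallySmooth.comp A S T, Algebra.FinitePresentation.trans A S T⟩
  have hu : ∀ y : Submonoid.powers a, IsUnit (π0 y) := by
    rintro ⟨_, j, rfl⟩
    rw [map_pow]
    exact ha.pow j
  exact ⟨T, inferInstance, inferInstance, inferInstance, inferInstance, inferInstance,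
    ⟨IsLocalization.liftAlgHom (f := π0) hu⟩, inferInstance⟩

end Groth.Agent.Smooth28
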