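import Groth.Agent.Smooth28.LiftingSmooth

/-!
The lifting lemma.
-/

namespace Groth.Agent.Smooth28

open MvPolynomial

universe u

theorem exists_quotient_lift {R P C D : Type*} [CommRing R] [CommRing P] [CommRing C] [CommRing D]
    [Algebra R P] [Algebra R C] [Algebra R D] (π : R) (Φ : P →ₐ[R] C) (hΦ : Function.Surjective Φ)
    (ι : P →ₐ[R] D) {m : ℕ} (f : Fin m → P)
    (hker : ∀ x, Φ x = 0 → ∃ (b : Fin m → P) (h : P), x = ∑ j, b j * f j + algebraMap R P (π ^ 2) * h)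
    (hf : ∀ j, ι (f j) ∈ Ideal.span {algebraMap R D π}) :
    ∃ ψ : C →ₐ[R] D ⧸ Ideal.span {algebraMap R D π},
      ∀ p, ψ (Φ p) = Ideal.Quotient.mk _ (ι p) := by
  refine ⟨AlgHom.liftOfSurjective Φ hΦ ((Ideal.Quotient.mkₐ R _).comp ι) ?_, fun p =>
    AlgHom.liftOfSurjective_apply Φ hΦ _ _ p⟩
  intro x hx
  obtain ⟨b, h, rfl⟩ := hker x (RingHom.mem_ker.1 hx)
  refine RingHom.mem_ker.2 (Ideal.Quotient.eq_zero_iff_mem.2 ?_)
  show ι (∑ j, b j * f j + algebraMap R P (π ^ 2) * h) ∈ _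
  rw [map_add, map_sum, map_mul, AlgHom.commutes, pow_two, map_mul, mul_assoc]
  refine add_mem (sum_mem fun j _ => ?_) (Ideal.mul_mem_right _ _ (Ideal.mem_span_singleton_self _))
  rw [map_mul]
  exact Ideal.mul_mem_left _ _ (hf j)

theorem lift_compat {R Λ P C D : Type*} [CommRing R] [CommRing Λ] [CommRing P] [CommRing C]
    [CommRing D] [Algebra R Λ] [Algebra R P] [Algebra R C] [Algebra R D] (π : R) (Φ : P →ₐ[R] C)
    (hΦ : Function.Surjective Φ) (ι : P →ₐ[R] D) (δ : D →ₐ[R] Λ) (α : P →ₐ[R] Λ)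
    (hα : ∀ p, δ (ι p) = α p) (g : C →ₐ[R] Λ ⧸ Ideal.span {algebraMap R Λ (π ^ 2)})
    (hg : ∀ p, Ideal.Quotient.mk (Ideal.span {algebraMap R Λ (π ^ 2)}) (α p) = g (Φ p))
    (ψ : C →ₐ[R] D ⧸ Ideal.span {algebraMap R D π}) (hψ : ∀ p, ψ (Φ p) = Ideal.Quotient.mk _ (ι p))
    (c : C) (d : D) (v : Λ) (hd : Ideal.Quotient.mk (Ideal.span {algebraMap R D π}) d = ψ c)
    (hv : Ideal.Quotient.mk (Ideal.span {algebraMap R Λ (π ^ 2)}) v = g c) :
    δ d - v ∈ Ideal.span {algebraMap R Λ π} := by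
  obtain ⟨p, rfl⟩ := hΦ c
  rw [hψ] at hd
  obtain ⟨e, he⟩ := Ideal.mem_span_singleton'.1 (Ideal.Quotient.eq.1 hd)
  rw [← hg, Ideal.Quotient.eq] at hv
  obtain ⟨e', he'⟩ := Ideal.mem_span_singleton'.1 hv
  have h1 : δ d - δ (ι p) = δ e * algebraMap R Λ π := by
    rw [← map_sub, ← he, map_mul, AlgHom.commutes]
  rw [hα] at h1
  refine Ideal.mem_span_singleton'.2 ⟨δ e - e' * algebraMap R Λ π, ?_⟩
  rw [map_pow] at he'
  linear_combination -h1 - he'

set_option maxHeartbeats 1000000 in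
theorem exists_lifting {R Λ C : Type u} [CommRing R] [IsNoetherianRing R] [CommRing Λ]
    [Algebra R Λ] (π : R) (hR : ∀ r : R, π ^ 2 * r = 0 → π * r = 0)
    (hΛ : ∀ x : Λ, π ^ 2 • x = 0 → π • x = 0) [CommRing C] [Algebra R C]
    [Algebra (R ⧸ Ideal.span {π ^ 2}) C] [IsScalarTower R (R ⧸ Ideal.span {π ^ 2}) C]
    [Algebra.FinitePresentation (R ⧸ Ideal.span {π ^ 2}) C]
    (g : C →ₐ[R] Λ ⧸ Ideal.span {algebraMap R Λ (π ^ 2)}) :
    ∃ (D : Type u) (_ : CommRing D) (_ : Algebra R D), Algebra.FinitePresentation R D ∧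
      ∃ (δ : D →ₐ[R] Λ) (ψ : C →ₐ[R] D ⧸ Ideal.span {algebraMap R D π}),
        (∀ (c : C) (d : D) (l : Λ), Ideal.Quotient.mk (Ideal.span {algebraMap R D π}) d = ψ c →
          Ideal.Quotient.mk (Ideal.span {algebraMap R Λ (π ^ 2)}) l = g c →
            δ d - l ∈ Ideal.span {algebraMap R Λ π}) ∧
        (∀ (Q : Ideal D) [Q.IsPrime], algebraMap R D π ∉ Q → Algebra.IsSmoothAt R Q) ∧
        (∀ (Q : Ideal (D ⧸ Ideal.span {algebraMap R D π})) [Q.IsPrime],
          Algebra.IsSmoothAt (R ⧸ Ideal.span {π ^ 2}) (Q.comap ψ) →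
            Algebra.IsSmoothAt R (Q.comap (Ideal.Quotient.mk (Ideal.span {algebraMap R D π})))) := by
  classical
  let Rb := R ⧸ Ideal.span {π ^ 2}
  obtain ⟨n, φ, hφ, hfg⟩ := (inferInstance : Algebra.FinitePresentation Rb C).out
  obtain ⟨m, fb, hfb⟩ := Submodule.fg_iff_exists_fin_generating_family.1 hfg
  replace hfb : RingHom.ker φ.toRingHom = Ideal.span (Set.range fb) := hfb.symm
  let mR : MvPolynomial (Fin n) R →+* MvPolynomial (Fin n) Rb := MvPolynomial.map (algebraMap R Rb)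
  have hmR : Function.Surjective mR := MvPolynomial.map_surjective _ Ideal.Quotient.mk_surjective
  choose f hf using fun j => hmR (fb j)
  let Φ : MvPolynomial (Fin n) R →ₐ[R] C :=
    (φ.restrictScalars R).comp (MvPolynomial.mapAlgHom (Algebra.ofId R Rb))
  have hΦ : ∀ x, Φ x = φ (mR x) := fun x => rfl
  have hΦs : Function.Surjective Φ := hφ.comp hmR
  have hfb0 : ∀ j, φ (fb j) = 0 := fun j =>
    show fb j ∈ RingHom.ker φ.toRingHom from hfb ▸ Ideal.subset_span ⟨j, rfl⟩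
  have hmker : ∀ x, mR x = 0 → ∃ h, x = MvPolynomial.C (π ^ 2) * h := by
    intro x hx
    have h1 : x ∈ RingHom.ker mR := hx
    rw [MvPolynomial.ker_map] at h1
    rw [show RingHom.ker (algebraMap R Rb) = Ideal.span {π ^ 2} from Ideal.mk_ker, Ideal.map_span,
      Set.image_singleton] at h1
    obtain ⟨h, rfl⟩ := Ideal.mem_span_singleton'.1 h1
    exact ⟨h, mul_comm _ _⟩
  have hkerΦ : ∀ x, Φ x = 0 → ∃ (b : Fin m → MvPolynomial (Fin n) R) (h : MvPolynomial (Fin n) R),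
      x = ∑ j, b j * f j + MvPolynomial.C (π ^ 2) * h := by
    intro x hx
    rw [hΦ] at hx
    obtain ⟨b, hb⟩ := (Submodule.mem_span_range_iff_exists_fun _).1
      (show mR x ∈ Ideal.span (Set.range fb) from hfb ▸ hx)
    choose b' hb' using fun j => hmR (b j)
    obtain ⟨h, hh⟩ := hmker (x - ∑ j, b' j * f j) (by
      rw [map_sub, map_sum, sub_eq_zero, ← hb]
      simp only [map_mul, hb', hf, smul_eq_mul])
    exact ⟨b', h, by rw [← hh]; ring⟩
  -- the point
  choose lam hlam using fun i => Ideal.Quotient.mk_surjective (g (Φ (X i)))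
  have hlamP : ∀ p, Ideal.Quotient.mk (Ideal.span {algebraMap R Λ (π ^ 2)}) (aeval lam p) = g (Φ p) := by
    intro p
    have : (Ideal.Quotient.mkₐ R _).comp (aeval lam) = g.comp Φ :=
      MvPolynomial.algHom_ext fun i => by simp [hlam]
    exact AlgHom.congr_fun this p
  have hμ : ∀ j, ∃ μ, aeval lam (f j) = algebraMap R Λ (π ^ 2) * μ := fun j => by
    have h := hlamP (f j)
    rw [hΦ, hf, hfb0, map_zero, Ideal.Quotient.eq_zero_iff_mem, Ideal.mem_span_singleton'] at h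
    obtain ⟨μ, hμ⟩ := h
    exact ⟨μ, by rw [← hμ, mul_comm]⟩
  choose μ hμ using hμ
  let ιx : (MvPolynomial (Fin n) R) →ₐ[R] (MvPolynomial (Fin (n + m)) R) := rename (Fin.castAdd m)
  let zv : Fin m → (MvPolynomial (Fin (n + m)) R) := fun j => X (Fin.natAdd n j)
  have hιC : ∀ r : R, ιx (MvPolynomial.C r) = MvPolynomial.C r := fun r => rename_C _ _
  let mkD : (MvPolynomial (Fin (n + m)) R) →ₐ[R] ((MvPolynomial (Fin (n + m)) R) ⧸ liftIdeal π f) := Ideal.Quotient.mkₐ R _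
  -- the map to Λ
  let δ' : (MvPolynomial (Fin (n + m)) R) →ₐ[R] Λ := aeval (Fin.append lam fun j => algebraMap R Λ π * μ j)
  have hδx : ∀ p, δ' (ιx p) = aeval lam p := fun p => by
    have : δ'.comp ιx = aeval lam := MvPolynomial.algHom_ext fun i => by
      rw [AlgHom.comp_apply, show ιx (X i) = X (Fin.castAdd m i) from rename_X _ _, aeval_X, aeval_X]
      exact Fin.append_left _ _ i
    exact AlgHom.congr_fun this p
  have hδz : ∀ j, δ' (zv j) = algebraMap R Λ π * μ j := fun j =>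
    (aeval_X _ _).trans (Fin.append_right _ _ j)
  have hδC : δ' (MvPolynomial.C π) = algebraMap R Λ π := algHom_C δ' π
  have hδK : ∀ x ∈ liftIdeal π f, δ' x = 0 := by
    intro x hx
    refine (liftIdeal_le (I := RingHom.ker δ'.toRingHom) (fun j => ?_) fun r h hr => ?_) hx
    · show δ' (ιx (f j) - MvPolynomial.C π * zv j) = 0
      simp only [map_sub, map_mul, hδx, hδz, hδC, hμ, map_pow]
      ring
    · show δ' (liftGen π r h) = 0
      show δ' (∑ j, ιx (r j) * zv j - MvPolynomial.C π * ιx h) = 0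
      simp only [map_sub, map_sum, map_mul, hδx, hδz, hδC]
      have h1 : π ^ 2 • (∑ j, aeval lam (r j) * μ j - aeval lam h) = 0 := by
        have h2 := congrArg (aeval (R := R) lam) hr
        simp only [map_sum, map_mul, hμ, aeval_C, map_pow] at h2
        rw [Algebra.smul_def, map_pow, mul_sub, sub_eq_zero, ← h2, Finset.mul_sum]
        exact Finset.sum_congr rfl fun j _ => mul_left_comm _ _ _
      have h3 := hΛ _ h1
      rw [Algebra.smul_def, mul_sub, Finset.mul_sum] at h3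
      rw [← h3]
      congr 1
      exact Finset.sum_congr rfl fun j _ => mul_left_comm _ _ _
  let δ : ((MvPolynomial (Fin (n + m)) R) ⧸ liftIdeal π f) →ₐ[R] Λ := Ideal.Quotient.liftₐ (liftIdeal π f) δ' hδK
  -- the map from C
  have hfπ : ∀ j, (mkD.comp ιx) (f j) ∈ Ideal.span {algebraMap R ((MvPolynomial (Fin (n + m)) R) ⧸ liftIdeal π f) π} := fun j => by
    have h2 : mkD (ιx (f j) - MvPolynomial.C π * zv j) = 0 :=
      Ideal.Quotient.eq_zero_iff_mem.2 (liftRel_mem π f j)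
    rw [map_sub, sub_eq_zero, map_mul, algHom_C] at h2
    exact (h2.symm ▸ Ideal.mul_mem_right _ _ (Ideal.mem_span_singleton_self _) : mkD (ιx (f j)) ∈ _)
  obtain ⟨ψ, hψ⟩ := exists_quotient_lift π Φ hΦs (mkD.comp ιx) f hkerΦ hfπ
  refine ⟨((MvPolynomial (Fin (n + m)) R) ⧸ liftIdeal π f), inferInstance, inferInstance, inferInstance, δ, ψ, ?_, ?_, ?_⟩
  · exact fun c d v hd hv => lift_compat π Φ hΦs (mkD.comp ιx) δ (aeval lam) hδx g hlamP ψ hψ c d v hd hv
  · intro Q _ hπQ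
    exact lift_smooth_away_pi π f Q hπQ
  intro Qb _ hP
  set P := Qb.comap ψ with hPdef
  haveI : P.IsPrime := Ideal.IsPrime.comap _
  haveI := hP
  obtain ⟨Gb, c, rows, cols, hnot, hGb⟩ := exists_standard_data fb φ hφ hfb P
  obtain ⟨G, hG⟩ := hmR Gb
  let Δ := Smoothing.jacobianMinor f rows cols
  have hΔ : mR Δ = Smoothing.jacobianMinor fb rows cols := by
    simp only [Δ, Smoothing.jacobianMinor, RingHom.map_det]
    congr 1
    ext j k : 1
    simp only [RingHom.mapMatrix_apply, Matrix.map_apply, Matrix.of_apply, mR, ← pderiv_map]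
    rw [show MvPolynomial.map (algebraMap R Rb) (f (rows j)) = fb (rows j) from hf _]
  have hcoef : ∀ j, ∃ (a : Fin c → MvPolynomial (Fin n) R) (h : MvPolynomial (Fin n) R),
      G * f j - ∑ k, a k * f (rows k) = MvPolynomial.C (π ^ 2) * h ∧
      ∀ k₀, rows k₀ = j → (∀ k, a k = if k = k₀ then G else 0) ∧ h = 0 := by
    intro j
    by_cases hj : ∃ k₀, rows k₀ = j
    · obtain ⟨k₀, rfl⟩ := hj
      refine ⟨fun k => if k = k₀ then G else 0, 0, by simp, fun k₁ hk₁ => ?_⟩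
      obtain rfl := rows.injective hk₁
      exact ⟨fun k => rfl, rfl⟩
    · obtain ⟨b, hb⟩ := (Submodule.mem_span_range_iff_exists_fun _).1 (hGb _ (hfb0 j))
      choose b' hb' using fun k => hmR (b k)
      obtain ⟨h, hh⟩ := hmker (G * f j - ∑ k, b' k * f (rows k)) (by
        rw [map_sub, map_mul, map_sum, hG, hf, sub_eq_zero, ← hb]
        simp only [map_mul, hb', hf, smul_eq_mul, Function.comp_apply])
      exact ⟨b', h, hh, fun k₀ hk₀ => absurd ⟨k₀, hk₀⟩ hj⟩
  choose a ha hah harows using hcoef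
  refine lift_smooth_at π hR f rows cols G a ha hah harows _ (fun hmem => hnot ?_) (fun hmem => hnot ?_)
  · have h2 : ψ (Φ G) ∈ Qb := by rw [hψ]; exact hmem
    have h3 : Φ G ∈ P := h2
    rw [hΦ, hG] at h3
    exact Ideal.mul_mem_right _ _ h3
  · have h2 : ψ (Φ Δ) ∈ Qb := by rw [hψ]; exact hmem
    have h3 : Φ Δ ∈ P := h2
    rw [hΦ, hΔ] at h3
    exact Ideal.mul_mem_left _ _ h3

end Groth.Agent.Smooth28
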