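import Groth.Agent.Smooth28.DesingRel
import Groth.Agent.Smooth28.LiftingLemma

/-!
Lifting and desingularization combined.
-/

namespace Groth.Agent.Smooth28

universe u

/-- If the annihilators of `π` and `π²` agree, a power of `π` kills nothing new. -/
theorem pow_smul_eq_zero_imp {R M : Type*} [CommRing R] [AddCommGroup M] [Module R M] {π : R}
    (h : ∀ x : M, π ^ 2 • x = 0 → π • x = 0) : ∀ (k : ℕ) (x : M), π ^ (k + 1) • x = 0 → π • x = 0 := by
  intro k
  induction k with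
  | zero => intro x hx; simpa using hx
  | succ k ih =>
    intro x hx
    refine h x ?_
    rw [pow_two, mul_smul]
    exact ih (π • x) (by rwa [smul_smul, ← pow_succ])

theorem exists_lift_desingularize {R Λ A C : Type u} [CommRing R] [IsNoetherianRing R] [CommRing Λ]
    [Algebra R Λ] (π : R) (hR : ∀ r : R, π ^ 2 * r = 0 → π * r = 0)
    (hΛ : ∀ x : Λ, π ^ 2 • x = 0 → π • x = 0) [CommRing A] [Algebra R A]
    [Algebra.FinitePresentation R A] (φ : A →ₐ[R] Λ)
    (hπ : Smoothing.IsStrictlyStandard R A (algebraMap R A π))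
    [CommRing C] [Algebra R C] [Algebra (R ⧸ Ideal.span {π ^ 8}) C]
    [IsScalarTower R (R ⧸ Ideal.span {π ^ 8}) C]
    [Algebra.FinitePresentation (R ⧸ Ideal.span {π ^ 8}) C]
    (γ : A →ₐ[R] C) (g : C →ₐ[R] Λ ⧸ Ideal.span {algebraMap R Λ (π ^ 8)})
    (hfac : ∀ a : A, g (γ a) = Ideal.Quotient.mk (Ideal.span {algebraMap R Λ (π ^ 8)}) (φ a)) :
    ∃ (B : Type u) (_ : CommRing B) (_ : Algebra R B), Algebra.FinitePresentation R B ∧
      ∃ (α : A →ₐ[R] B) (β : B →ₐ[R] Λ), β.comp α = φ ∧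
        (∀ (Q : Ideal B) [Q.IsPrime], algebraMap R B π ∉ Q → Algebra.IsSmoothAt R Q) ∧
        (Smoothing.singularIdeal (R ⧸ Ideal.span {π ^ 8}) C).map g ≤
          ((Smoothing.singularIdeal R B).map β).radical.map
            (Ideal.Quotient.mk (Ideal.span {algebraMap R Λ (π ^ 8)})) := by
  have he : (π ^ 4) ^ 2 = π ^ 8 := by ring
  have hR4 : ∀ r : R, (π ^ 4) ^ 2 * r = 0 → π ^ 4 * r = 0 := fun r hr => by
    have h1 := pow_smul_eq_zero_imp (π := π) (M := R) (fun x hx => hR x hx) 7 r (by rw [smul_eq_mul]; linear_combination hr)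
    rw [smul_eq_mul] at h1
    rw [pow_succ, mul_assoc, h1, mul_zero]
  have hΛ4 : ∀ x : Λ, (π ^ 4) ^ 2 • x = 0 → π ^ 4 • x = 0 := fun x hx => by
    have h1 := pow_smul_eq_zero_imp hΛ 7 x (by rwa [← pow_mul] at hx)
    rw [pow_succ, mul_smul, h1, smul_zero]
  have hI : Ideal.span {(π ^ 4) ^ 2} = Ideal.span {π ^ 8} := by rw [he]
  have hJ : Ideal.span {algebraMap R Λ (π ^ 8)} = Ideal.span {algebraMap R Λ ((π ^ 4) ^ 2)} := by
    rw [he]
  letI : Algebra (R ⧸ Ideal.span {(π ^ 4) ^ 2}) C :=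
    ((algebraMap (R ⧸ Ideal.span {π ^ 8}) C).comp (Ideal.Quotient.factor hI.le)).toAlgebra
  letI : Algebra (R ⧸ Ideal.span {(π ^ 4) ^ 2}) (R ⧸ Ideal.span {π ^ 8}) :=
    (Ideal.Quotient.factor hI.le).toAlgebra
  haveI : IsScalarTower (R ⧸ Ideal.span {(π ^ 4) ^ 2}) (R ⧸ Ideal.span {π ^ 8}) C :=
    IsScalarTower.of_algebraMap_eq fun _ => rfl
  haveI : IsScalarTower R (R ⧸ Ideal.span {(π ^ 4) ^ 2}) C :=
    IsScalarTower.of_algebraMap_eq fun r => by
      show algebraMap R C r = algebraMap (R ⧸ Ideal.span {π ^ 8}) C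
        (Ideal.Quotient.factor hI.le (Ideal.Quotient.mk _ r))
      rw [Ideal.Quotient.factor_mk, IsScalarTower.algebraMap_apply R (R ⧸ Ideal.span {π ^ 8}) C]
      rfl
  haveI : Algebra.FinitePresentation (R ⧸ Ideal.span {(π ^ 4) ^ 2}) (R ⧸ Ideal.span {π ^ 8}) :=
    Algebra.FinitePresentation.of_surjective (f := Algebra.ofId _ _)
      (Ideal.Quotient.factor_surjective hI.le) (IsNoetherian.noetherian _)
  haveI : Algebra.FinitePresentation (R ⧸ Ideal.span {(π ^ 4) ^ 2}) C :=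
    Algebra.FinitePresentation.trans _ (R ⧸ Ideal.span {π ^ 8}) C
  let g' : C →ₐ[R] Λ ⧸ Ideal.span {algebraMap R Λ ((π ^ 4) ^ 2)} :=
    (Ideal.quotientEquivAlgOfEq R hJ).toAlgHom.comp g
  obtain ⟨D, _, _, hfpD, δ, ψ, hcompat, hsm1, hsm2⟩ := exists_lifting (π ^ 4) hR4 hΛ4 g'
  haveI := hfpD
  have hg' : ∀ (c : C) (l : Λ), Ideal.Quotient.mk (Ideal.span {algebraMap R Λ (π ^ 8)}) l = g c →
      Ideal.Quotient.mk (Ideal.span {algebraMap R Λ ((π ^ 4) ^ 2)}) l = g' c := fun c l hl => by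
    simp only [g', AlgHom.comp_apply, ← hl]
    rfl
  obtain ⟨B, _, _, _, _, hfpB, α, β, hαβ, hβδ, hs1, hs2⟩ :=
    exists_desingularize_rel π hR hΛ φ δ hπ (ψ.comp γ) fun a d hd =>
      hcompat (γ a) d (φ a) hd (hg' _ _ (hfac a).symm)
  have hπD : algebraMap R D π ∈ Smoothing.singularIdeal R D := by
    rw [Smoothing.singularIdeal, PrimeSpectrum.mem_vanishingIdeal]
    intro p hp
    by_contra hπp
    refine hp (hsm1 p.asIdeal ?_)
    rw [map_pow]
    exact fun h => hπp (p.isPrime.mem_of_pow_mem _ h)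
  have hπB : algebraMap R B π ∈ Smoothing.singularIdeal R B := by
    rw [IsScalarTower.algebraMap_apply R D B]
    exact hs2 (Ideal.mem_map_of_mem _ hπD)
  refine ⟨B, inferInstance, inferInstance, hfpB, α, β, hαβ, fun Q _ hQ => ?_, ?_⟩
  · by_contra hns
    exact hQ ((PrimeSpectrum.mem_vanishingIdeal _ _).1 hπB ⟨Q, inferInstance⟩ hns)
  refine Ideal.map_le_iff_le_comap.2 fun c hc => ?_
  rw [Ideal.mem_comap]
  obtain ⟨l, hl⟩ := Ideal.Quotient.mk_surjective (g c)
  obtain ⟨d, hd⟩ := Ideal.Quotient.mk_surjective (ψ c)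
  have hdS : d ∈ Smoothing.singularIdeal R D := by
    rw [Smoothing.singularIdeal, PrimeSpectrum.mem_vanishingIdeal]
    intro p hp
    have hπp : algebraMap R D π ∈ p.asIdeal := (PrimeSpectrum.mem_vanishingIdeal _ _).1 hπD p hp
    let Qb : Ideal (D ⧸ Ideal.span {algebraMap R D (π ^ 4)}) :=
      p.asIdeal.map (Ideal.Quotient.mk _)
    have hker : RingHom.ker (Ideal.Quotient.mk (Ideal.span {algebraMap R D (π ^ 4)})) ≤ p.asIdeal := by
      rw [Ideal.mk_ker, Ideal.span_singleton_le_iff_mem, map_pow]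
      exact Ideal.pow_mem_of_mem _ hπp 4 (by norm_num)
    haveI : Qb.IsPrime := Ideal.map_isPrime_of_surjective Ideal.Quotient.mk_surjective hker
    have hcomap : Qb.comap (Ideal.Quotient.mk _) = p.asIdeal := by
      rw [Ideal.comap_map_of_surjective _ Ideal.Quotient.mk_surjective]
      exact sup_eq_left.2 (by rw [← RingHom.ker_eq_comap_bot]; exact hker)
    by_contra hdp
    refine hp ?_
    haveI : (Qb.comap ψ).IsPrime := Ideal.IsPrime.comap _
    have hsmC : Algebra.IsSmoothAt (R ⧸ Ideal.span {(π ^ 4) ^ 2}) (Qb.comap ψ) := by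
      have h8 : Algebra.IsSmoothAt (R ⧸ Ideal.span {π ^ 8}) (Qb.comap ψ) := by
        by_contra hns
        have h1 : c ∈ Qb.comap ψ :=
          (PrimeSpectrum.mem_vanishingIdeal _ _).1 hc ⟨Qb.comap ψ, ‹_›⟩ hns
        have h2 : Ideal.Quotient.mk _ d ∈ Qb := hd ▸ h1
        exact hdp (hcomap ▸ h2)
      haveI := h8
      let S := Localization.AtPrime (Qb.comap ψ)
      haveI : Algebra.FormallySmooth (R ⧸ Ideal.span {π ^ 8}) S := h8
      haveI : Algebra.FormallyEtale (R ⧸ Ideal.span {(π ^ 4) ^ 2}) (R ⧸ Ideal.span {π ^ 8}) :=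
        Algebra.FormallyEtale.of_equiv
          (AlgEquiv.ofBijective (Algebra.ofId (R ⧸ Ideal.span {(π ^ 4) ^ 2}) (R ⧸ Ideal.span {π ^ 8}))
            (Ideal.quotEquivOfEq hI).bijective)
      haveI : IsScalarTower (R ⧸ Ideal.span {(π ^ 4) ^ 2}) (R ⧸ Ideal.span {π ^ 8}) S :=
        IsScalarTower.of_algebraMap_eq fun y => by
          rw [IsScalarTower.algebraMap_apply (R ⧸ Ideal.span {(π ^ 4) ^ 2}) C S,
            IsScalarTower.algebraMap_apply (R ⧸ Ideal.span {π ^ 8}) C S]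
          rfl
      exact Algebra.FormallySmooth.comp _ (R ⧸ Ideal.span {π ^ 8}) S
    have h3 := hsm2 Qb hsmC
    simp only [hcomap] at h3
    exact h3
  have h1 : δ d ∈ (Smoothing.singularIdeal R B).map β := by
    rw [← hβδ]
    exact Ideal.mem_map_of_mem β (hs2 (Ideal.mem_map_of_mem _ hdS))
  have h2 : algebraMap R Λ (π ^ 4) ∈ (Smoothing.singularIdeal R B).map β := by
    rw [← β.commutes, map_pow]
    exact Ideal.mem_map_of_mem β (Ideal.pow_mem_of_mem _ hπB 4 (by norm_num))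
  have h3 : δ d - l ∈ (Smoothing.singularIdeal R B).map β :=
    (Ideal.span_singleton_le_iff_mem _).2 h2 (hcompat c d l hd (hg' c l hl))
  rw [← hl]
  refine Ideal.mem_map_of_mem _ (Ideal.le_radical ?_)
  simpa using sub_mem h1 h3

end Groth.Agent.Smooth28
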