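import Groth.Agent.Smooth28.Lift
import Groth.Prelude.Def_Smoothing
import Mathlib.RingTheory.Flat.EquationalCriterion
import Mathlib.RingTheory.Flat.Stability
import Mathlib.RingTheory.Smooth.Basic

/-!
Ind-smoothness and square-zero deformations.
-/

namespace Groth.Agent.Smooth28

open MvPolynomial TensorProduct

universe u

variable {R Λ : Type u} [CommRing R] [CommRing Λ] [Algebra R Λ]

/-- Maps from finitely presented algebras factor through smooth algebras modulo the ideal. -/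
def LiftFactor (R Λ : Type u) [CommRing R] [CommRing Λ] [Algebra R Λ] (I : Ideal R) : Prop :=
  ∀ (C : Type u) [CommRing C] [Algebra R C], Algebra.FinitePresentation R C → ∀ φ : C →ₐ[R] Λ,
    ∃ (B : Type u) (_ : CommRing B) (_ : Algebra R B), Algebra.Smooth R B ∧
      ∃ (β : B →ₐ[R] Λ) (g : C →ₐ[R] B ⧸ I.map (algebraMap R B)),
        ∀ c b, g c = Ideal.Quotient.mk _ b → β b - φ c ∈ I.map (algebraMap R Λ)

theorem map_mem_map {B : Type u} [CommRing B] [Algebra R B] {I : Ideal R} (f : B →ₐ[R] Λ) {x : B}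
    (hx : x ∈ I.map (algebraMap R B)) : f x ∈ I.map (algebraMap R Λ) := by
  have := Ideal.mem_map_of_mem f.toRingHom hx
  rwa [Ideal.map_map, show f.toRingHom.comp (algebraMap R B) = algebraMap R Λ from f.comp_algebraMap]
    at this

theorem mul_eq_zero_of_mem_map {I : Ideal R} (hI : I ^ 2 = ⊥) {x y : Λ}
    (hx : x ∈ I.map (algebraMap R Λ)) (hy : y ∈ I.map (algebraMap R Λ)) : x * y = 0 := by
  have := Ideal.mul_mem_mul hx hy
  rw [← Ideal.map_mul, ← pow_two, hI, Ideal.map_bot] at this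
  exact this

theorem smul_eq_zero_of_mem_map {I : Ideal R} (hI : I ^ 2 = ⊥) {r : R} (hr : r ∈ I) {x : Λ}
    (hx : x ∈ I.map (algebraMap R Λ)) : algebraMap R Λ r * x = 0 :=
  mul_eq_zero_of_mem_map hI (Ideal.mem_map_of_mem _ hr) hx

theorem exists_sum_of_mem_map {I : Ideal R} {x : Λ} (hx : x ∈ I.map (algebraMap R Λ)) :
    ∃ (t : ℕ) (p : Fin t → R) (l : Fin t → Λ), (∀ k, p k ∈ I) ∧ x = ∑ k, algebraMap R Λ (p k) * l k := by
  induction hx using Submodule.span_induction with
  | mem y hy =>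
    obtain ⟨r, hr, rfl⟩ := hy
    exact ⟨1, fun _ => r, fun _ => 1, fun _ => hr, by simp⟩
  | zero => exact ⟨0, Fin.elim0, Fin.elim0, fun k => k.elim0, by simp⟩
  | add y z _ _ hy hz =>
    obtain ⟨t, p, l, hp, rfl⟩ := hy
    obtain ⟨t', p', l', hp', rfl⟩ := hz
    refine ⟨t + t', Fin.append p p', Fin.append l l', fun k => ?_, ?_⟩
    · induction k using Fin.addCases with
      | left k => simpa using hp k
      | right k => simpa using hp' k
    · simp [Fin.sum_univ_add]
  | smul r y _ hy =>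
    obtain ⟨t, p, l, hp, rfl⟩ := hy
    exact ⟨t, p, fun k => r * l k, hp, by simp [Finset.mul_sum, mul_left_comm]⟩

/-- Evaluation of polynomials with coefficients in an algebra. -/
noncomputable def evalAt {B : Type u} [CommRing B] [Algebra R B] {T : Type*} (β : B →ₐ[R] Λ) (v : T → Λ) :
    MvPolynomial T B →ₐ[R] Λ where
  toRingHom := MvPolynomial.eval₂Hom β.toRingHom v
  commutes' r := by
    rw [IsScalarTower.algebraMap_apply R B (MvPolynomial T B)]
    simp

@[simp] theorem evalAt_C {B : Type u} [CommRing B] [Algebra R B] {T : Type*} (β : B →ₐ[R] Λ) (v : T → Λ)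
    (b : B) : evalAt β v (C b) = β b :=
  MvPolynomial.eval₂Hom_C _ _ b

@[simp] theorem evalAt_X {B : Type u} [CommRing B] [Algebra R B] {T : Type*} (β : B →ₐ[R] Λ) (v : T → Λ)
    (x : T) : evalAt β v (X x) = v x :=
  MvPolynomial.eval₂Hom_X' _ _ x

/-- Ind-smoothness of a reduction gives factorizations modulo the ideal. -/
theorem liftFactor_of_indSmooth {R₀ Λ₀ : Type u} [CommRing R₀] [CommRing Λ₀] [Algebra R R₀]
    [Algebra R₀ Λ₀] [Algebra R Λ₀] [IsScalarTower R R₀ Λ₀] (hR : Function.Surjective (algebraMap R R₀))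
    (q : Λ →ₐ[R] Λ₀) (hq : Function.Surjective q)
    (hqker : ∀ x, q x = 0 → x ∈ (RingHom.ker (algebraMap R R₀)).map (algebraMap R Λ))
    (hI : RingHom.ker (algebraMap R R₀) ^ 2 = ⊥) (h : Smoothing.IndSmooth R₀ Λ₀) :
    LiftFactor R Λ (RingHom.ker (algebraMap R R₀)) := by
  intro C _ _ hC φ
  set I := RingHom.ker (algebraMap R R₀) with hIdef
  let φ₀ : R₀ ⊗[R] C →ₐ[R₀] Λ₀ :=
    Algebra.TensorProduct.lift (Algebra.ofId R₀ Λ₀) (q.comp φ) fun _ _ => Commute.all _ _
  obtain ⟨B₀, _, _, hB₀, gb, hb, hgh⟩ := h (R₀ ⊗[R] C) inferInstance φ₀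
  letI : Algebra R B₀ := ((algebraMap R₀ B₀).comp (algebraMap R R₀)).toAlgebra
  haveI : IsScalarTower R R₀ B₀ := IsScalarTower.of_algebraMap_eq' rfl
  obtain ⟨B, _, _, hB, π, hπ, hker⟩ := exists_smooth_lift (R := R) (A₀ := B₀) hR
  haveI := hB
  have hnil : IsNilpotent (RingHom.ker (q : Λ →+* Λ₀)) := by
    refine ⟨2, ?_⟩
    rw [pow_two, Ideal.zero_eq_bot, eq_bot_iff, Ideal.mul_le]
    exact fun x hx y hy => mul_eq_zero_of_mem_map hI (hqker x hx) (hqker y hy)
  let β : B →ₐ[R] Λ := Algebra.FormallySmooth.liftOfSurjective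
    ((hb.restrictScalars R).comp π) q hq hnil
  have hβ : ∀ b, q (β b) = hb (π b) := fun b => Algebra.FormallySmooth.liftOfSurjective_apply _ _ _ _ b
  let e : (B ⧸ I.map (algebraMap R B)) →ₐ[R] B₀ :=
    Ideal.Quotient.liftₐ _ π fun x hx => show x ∈ RingHom.ker π.toRingHom from hker ▸ hx
  have he : Function.Bijective e := by
    refine ⟨?_, fun a => (hπ a).elim fun x hx => ⟨Ideal.Quotient.mk _ x, hx⟩⟩
    intro x y hxy
    obtain ⟨x, rfl⟩ := Ideal.Quotient.mk_surjective x
    obtain ⟨y, rfl⟩ := Ideal.Quotient.mk_surjective y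
    rw [Ideal.Quotient.eq, ← hker]
    show π (x - y) = 0
    rw [map_sub, sub_eq_zero]
    exact hxy
  let g : C →ₐ[R] B ⧸ I.map (algebraMap R B) :=
    (AlgEquiv.ofBijective e he).symm.toAlgHom.comp
      ((gb.restrictScalars R).comp Algebra.TensorProduct.includeRight)
  refine ⟨B, _, _, hB, β, g, fun c b hcb => hqker _ ?_⟩
  have h1 : π b = gb (1 ⊗ₜ c) := by
    have := congrArg e hcb
    rw [show e (g c) = gb (1 ⊗ₜ c) from (AlgEquiv.ofBijective e he).apply_symm_apply _] at this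
    exact this.symm
  have h2 : hb (gb (1 ⊗ₜ c)) = q (φ c) := by
    rw [← AlgHom.comp_apply, hgh]
    simp [φ₀]
  rw [map_sub, hβ, h1, h2, sub_self]

/-- Lifting once. -/
theorem lift_once {I : Ideal R} (hI : I ^ 2 = ⊥) (h : LiftFactor R Λ I) {A : Type u} [CommRing A]
    [Algebra R A] [Algebra.FinitePresentation R A] (φ : A →ₐ[R] Λ) :
    ∃ (B : Type u) (_ : CommRing B) (_ : Algebra R B), Algebra.Smooth R B ∧
      ∃ J : Ideal B, J ≤ I.map (algebraMap R B) ∧ J.FG ∧
        ∃ (g : A →ₐ[R] B ⧸ J) (k : (B ⧸ J) →ₐ[R] Λ), k.comp g = φ := by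
  classical
  obtain ⟨n, a, ha, s, hs⟩ := (inferInstance : Algebra.FinitePresentation R A).out
  obtain ⟨B, _, _, hB, β, g, hg⟩ := h A inferInstance φ
  haveI := hB
  choose b hb using fun i => Ideal.Quotient.mk_surjective (g (a (X i)))
  choose t p lam hp hsum using fun i => exists_sum_of_mem_map
    (show φ (a (X i)) - β (b i) ∈ I.map (algebraMap R Λ) from by
      rw [← neg_sub]; exact (Ideal.neg_mem_iff _).2 (hg _ _ (hb i).symm))
  let T := Σ i, Fin (t i)
  let B' := MvPolynomial T B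
  haveI : Algebra.Smooth B B' := {}
  haveI : Algebra.Smooth R B' := Algebra.Smooth.comp R B B'
  let β' : B' →ₐ[R] Λ := evalAt β fun x => lam x.1 x.2
  let c : Fin n → B' := fun i => ∑ k, algebraMap R B' (p i k) * X (⟨i, k⟩ : T)
  let θ : MvPolynomial (Fin n) R →ₐ[R] B' := aeval fun i => C (b i) + c i
  have hβθ : β'.comp θ = φ.comp a := by
    refine MvPolynomial.algHom_ext fun i => ?_
    simp only [AlgHom.comp_apply, θ, c, aeval_X, map_add, map_sum, map_mul, AlgHom.commutes]
    show evalAt β (fun x : T => lam x.1 x.2) (C (b i)) + ∑ k, algebraMap R Λ (p i k) *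
      evalAt β (fun x : T => lam x.1 x.2) (X (⟨i, k⟩ : T)) = _
    simp only [evalAt_C, evalAt_X, ← hsum i]
    exact add_sub_cancel _ _
  let J : Ideal B' := Ideal.span (θ '' (s : Set (MvPolynomial (Fin n) R)))
  have hs0 : ∀ x ∈ s, a x = 0 := fun x hx =>
    show x ∈ RingHom.ker a.toRingHom from hs ▸ Submodule.subset_span hx
  have hJ : J ≤ I.map (algebraMap R B') := by
    refine Ideal.span_le.2 ?_
    rintro _ ⟨x, hx, rfl⟩
    have h1 : aeval b x ∈ I.map (algebraMap R B) := by
      rw [← Ideal.Quotient.eq_zero_iff_mem]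
      have : (Ideal.Quotient.mkₐ R (I.map (algebraMap R B))).comp (aeval b) = g.comp a :=
        MvPolynomial.algHom_ext fun i => by simp [hb]
      exact (AlgHom.congr_fun this x).trans (by simp [hs0 x hx])
    have h2 : (Ideal.Quotient.mkₐ R (I.map (algebraMap R B'))).comp θ =
        (Ideal.Quotient.mkₐ R (I.map (algebraMap R B'))).comp
          ((IsScalarTower.toAlgHom R B B').comp (aeval b)) := by
      refine MvPolynomial.algHom_ext fun i => ?_
      simp only [AlgHom.comp_apply, θ, aeval_X, Ideal.Quotient.mkₐ_eq_mk, Ideal.Quotient.eq]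
      rw [show IsScalarTower.toAlgHom R B B' (b i) = C (b i) from rfl, add_sub_cancel_left]
      exact Submodule.sum_mem _ fun k _ => Ideal.mul_mem_right _ _ (Ideal.mem_map_of_mem _ (hp i k))
    rw [SetLike.mem_coe, ← Ideal.Quotient.eq_zero_iff_mem]
    refine (AlgHom.congr_fun h2 x).trans (Ideal.Quotient.eq_zero_iff_mem.2 ?_)
    exact map_mem_map (IsScalarTower.toAlgHom R B B') h1
  have hJk : ∀ x ∈ J, β' x = 0 := by
    intro x hx
    refine (Ideal.span_le.2 ?_ : J ≤ RingHom.ker β'.toRingHom) hx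
    rintro _ ⟨x, hx, rfl⟩
    show β'.comp θ x = 0
    rw [hβθ, AlgHom.comp_apply, hs0 x hx, map_zero]
  have hkerθ : ∀ x, a x = 0 → Ideal.Quotient.mkₐ R J (θ x) = 0 := by
    intro x hx
    have : x ∈ Ideal.span (s : Set (MvPolynomial (Fin n) R)) := hs.symm ▸ hx
    refine Ideal.Quotient.eq_zero_iff_mem.2 ?_
    have := Ideal.mem_map_of_mem θ this
    rwa [Ideal.map_span] at this
  let g' : A →ₐ[R] B' ⧸ J := AlgHom.liftOfSurjective a ha ((Ideal.Quotient.mkₐ R J).comp θ) hkerθ
  let k : (B' ⧸ J) →ₐ[R] Λ := Ideal.Quotient.liftₐ J β' hJk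
  refine ⟨B', inferInstance, inferInstance, inferInstance, J, hJ,
    Submodule.fg_span (s.finite_toSet.image _), g', k, ?_⟩
  ext x
  obtain ⟨x, rfl⟩ := ha x
  simp only [AlgHom.comp_apply]
  rw [show g' (a x) = Ideal.Quotient.mkₐ R J (θ x) from AlgHom.liftOfSurjective_apply a ha ((Ideal.Quotient.mkₐ R J).comp θ) hkerθ x]
  exact AlgHom.congr_fun hβθ x

/-- Lifting twice. -/
theorem lift_twice [Module.Flat R Λ] {I : Ideal R} (hI : I ^ 2 = ⊥) (h : LiftFactor R Λ I)
    {B : Type u} [CommRing B] [Algebra R B] [Algebra.Smooth R B] (φ : B →ₐ[R] Λ) (J : Ideal B)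
    (hJ : J ≤ I.map (algebraMap R B)) (hJfg : J.FG) (hφJ : ∀ x ∈ J, φ x = 0) :
    ∃ (B' : Type u) (_ : CommRing B') (_ : Algebra R B'), Algebra.Smooth R B' ∧
      ∃ (α : B →ₐ[R] B') (β : B' →ₐ[R] Λ), (∀ x ∈ J, α x = 0) ∧
        ∀ b : B, β (α b) - φ b ∈ I.map (algebraMap R Λ) := by
  classical
  obtain ⟨L, j, hj⟩ := Submodule.fg_iff_exists_fin_generating_family.1 hJfg
  have hjJ : ∀ l, j l ∈ J := fun l => hj ▸ Submodule.subset_span ⟨l, rfl⟩
  choose t p bb hp hsum using fun l => exists_sum_of_mem_map (hJ (hjJ l))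
  have hrel : ∀ l, ∑ k, p l k • φ (bb l k) = 0 := fun l => by
    have := hφJ _ (hjJ l)
    rw [hsum l] at this
    simpa [Algebra.smul_def] using this
  choose s a y hy ha using fun l => Module.Flat.isTrivialRelation_of_sum_smul_eq_zero (hrel l)
  let T := Σ l, Fin (s l)
  let rels : Set (MvPolynomial T B) :=
    Set.range fun x : Σ l, Fin (t l) =>
      C (bb x.1 x.2) - ∑ i, algebraMap R (MvPolynomial T B) (a x.1 x.2 i) * X (⟨x.1, i⟩ : T)
  let C0 := MvPolynomial T B ⧸ Ideal.span rels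
  haveI : Algebra.FinitePresentation R (MvPolynomial T B) :=
    Algebra.FinitePresentation.trans R B _
  haveI : Algebra.FinitePresentation R C0 :=
    Algebra.FinitePresentation.quotient (Submodule.fg_span (Set.finite_range _))
  let ψ : MvPolynomial T B →ₐ[R] Λ := evalAt φ fun x => y x.1 x.2
  have hψC : ∀ x, ψ (C x) = φ x := fun x => by simp [ψ]
  have hψ0 : ∀ x ∈ Ideal.span rels, ψ x = 0 := by
    intro x hx
    refine (Ideal.span_le.2 ?_ : Ideal.span rels ≤ RingHom.ker ψ.toRingHom) hx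
    rintro _ ⟨⟨l, k⟩, rfl⟩
    show ψ (_ - _) = 0
    rw [map_sub, hψC, map_sum, sub_eq_zero, show φ (bb l k) = _ from hy l k]
    refine Finset.sum_congr rfl fun i _ => ?_
    rw [map_mul, AlgHom.commutes, Algebra.smul_def]
    simp [ψ]
  obtain ⟨D, _, _, hD, β, g, hg⟩ :=
    h C0 inferInstance (Ideal.Quotient.liftₐ (Ideal.span rels) ψ hψ0)
  haveI := hD
  have hnil : IsNilpotent (I.map (algebraMap R D)) := by
    refine ⟨2, ?_⟩
    rw [← Ideal.map_pow, hI, Ideal.map_bot, Ideal.zero_eq_bot]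
  let mkC : MvPolynomial T B →ₐ[R] C0 := Ideal.Quotient.mkₐ R _
  let α : B →ₐ[R] D := Algebra.FormallySmooth.lift (I.map (algebraMap R D)) hnil
    (g.comp (mkC.comp (IsScalarTower.toAlgHom R B _)))
  have hα : ∀ b, Ideal.Quotient.mk _ (α b) = g (mkC (C b)) := fun b =>
    Algebra.FormallySmooth.mk_lift _ hnil _ b
  refine ⟨D, _, _, hD, α, β, fun x hx => ?_, fun b => ?_⟩
  · refine (show J ≤ RingHom.ker α.toRingHom from hj ▸ Submodule.span_le.2 ?_) hx
    rintro _ ⟨l, rfl⟩
    show α (j l) = 0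
    choose d hd using fun i => Ideal.Quotient.mk_surjective (g (mkC (X (⟨l, i⟩ : T))))
    have h1 : ∀ k, α (bb l k) - ∑ i, algebraMap R D (a l k i) * d i ∈ I.map (algebraMap R D) := by
      intro k
      rw [← Ideal.Quotient.eq, hα, map_sum]
      have h0 : mkC (C (bb l k)) = ∑ i, algebraMap R C0 (a l k i) * mkC (X (⟨l, i⟩ : T)) := by
        have : mkC (C (bb l k) - ∑ i, algebraMap R (MvPolynomial T B) (a l k i) * X (⟨l, i⟩ : T)) = 0 :=
          Ideal.Quotient.eq_zero_iff_mem.2 (Ideal.subset_span ⟨⟨l, k⟩, rfl⟩)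
        simpa only [map_sub, map_sum, map_mul, AlgHom.commutes, sub_eq_zero] using this
      rw [h0, map_sum]
      exact Finset.sum_congr rfl fun i _ => by
        rw [map_mul, map_mul, AlgHom.commutes, hd i]; rfl
    have h2 : ∀ k, algebraMap R D (p l k) * α (bb l k) =
        algebraMap R D (p l k) * ∑ i, algebraMap R D (a l k i) * d i := fun k => by
      rw [← sub_eq_zero, ← mul_sub]
      exact smul_eq_zero_of_mem_map hI (hp l k) (h1 k)
    rw [hsum l, map_sum]
    refine (Finset.sum_congr rfl fun k _ =>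
      (show α (algebraMap R B (p l k) * bb l k) = ∑ i, algebraMap R D (p l k * a l k i) * d i by
        rw [map_mul, AlgHom.commutes, h2 k, Finset.mul_sum]
        exact Finset.sum_congr rfl fun i _ => by rw [map_mul, mul_assoc])).trans ?_
    rw [Finset.sum_comm]
    refine Finset.sum_eq_zero fun i _ => ?_
    rw [← Finset.sum_mul, ← map_sum, ha l i, map_zero, zero_mul]
  · have := hg (mkC (C b)) (α b) (hα b).symm
    rwa [show (Ideal.Quotient.liftₐ (Ideal.span rels) ψ hψ0) (mkC (C b)) = φ b from hψC b] at this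

/-- A flat square-zero deformation of an ind-smooth algebra is ind-smooth. -/
theorem indSmooth_of_liftFactor [Module.Flat R Λ] {I : Ideal R} (hI : I ^ 2 = ⊥)
    (h : LiftFactor R Λ I) : Smoothing.IndSmooth R Λ := by
  intro A _ _ hA φ
  classical
  obtain ⟨B, _, _, hB, J, hJ, hJfg, g, k, hk⟩ := lift_once hI h φ
  haveI := hB
  let φB : B →ₐ[R] Λ := k.comp (Ideal.Quotient.mkₐ R J)
  have hφJ : ∀ x ∈ J, φB x = 0 := fun x hx => by
    simp [φB, Ideal.Quotient.eq_zero_iff_mem.2 hx]
  obtain ⟨B', _, _, hB', α, β, hαJ, hαβ⟩ := lift_twice hI h φB J hJ hJfg hφJ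
  haveI := hB'
  let ψ : B →ₐ[R] Λ := β.comp α
  letI : Algebra B Λ := ψ.toRingHom.toAlgebra
  haveI : IsScalarTower R B Λ := IsScalarTower.of_algebraMap_eq fun r => (ψ.commutes r).symm
  have hdiff : ∀ b, φB b - ψ b ∈ I.map (algebraMap R Λ) := fun b => by
    rw [← neg_sub]; exact (Ideal.neg_mem_iff _).2 (hαβ b)
  let δ : Derivation R B Λ := Derivation.mk' (φB.toLinearMap - ψ.toLinearMap) fun x y => by
    simp only [LinearMap.sub_apply, AlgHom.toLinearMap_apply, map_mul, Algebra.smul_def,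
      show ∀ z, algebraMap B Λ z = ψ z from fun _ => rfl]
    linear_combination mul_eq_zero_of_mem_map hI (hdiff x) (hdiff y)
  have hδ : ∀ b, δ b = φB b - ψ b := fun b => rfl
  obtain ⟨N, ω, hω⟩ := Module.Finite.exists_fin (R := B) (M := Ω[B⁄R])
  let pr : (Fin N → B) →ₗ[B] Ω[B⁄R] := Fintype.linearCombination B ω
  have hpr : Function.Surjective pr := by
    rw [← LinearMap.range_eq_top, ← hω]
    exact Fintype.range_linearCombination _ _
  obtain ⟨sec, hsec⟩ := Module.projective_lifting_property pr LinearMap.id hpr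
  let ds : Fin N → Derivation R B B := fun i =>
    ((LinearMap.proj i).comp sec).compDer (KaehlerDifferential.D R B)
  have hds : ∀ b, KaehlerDifferential.D R B b = ∑ i, ds i b • ω i := fun b => by
    have := LinearMap.congr_fun hsec (KaehlerDifferential.D R B b)
    simpa [pr, Fintype.linearCombination_apply, ds] using this.symm
  have hmem : ∀ w : Ω[B⁄R], δ.liftKaehlerDifferential w ∈ I.map (algebraMap R Λ) := by
    intro w
    have hw : w ∈ Submodule.span B (Set.range (KaehlerDifferential.D R B)) := by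
      rw [KaehlerDifferential.span_range_derivation]; trivial
    induction hw using Submodule.span_induction with
    | mem x hx =>
      obtain ⟨b, rfl⟩ := hx
      rw [Derivation.liftKaehlerDifferential_comp_D, hδ]
      exact hdiff b
    | zero => simp
    | add x y _ _ hx hy => rw [map_add]; exact add_mem hx hy
    | smul r x _ hx =>
      rw [map_smul, Algebra.smul_def]
      exact Ideal.mul_mem_left _ _ hx
  choose t p lam hp hsum using fun i => exists_sum_of_mem_map (hmem (ω i))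
  let T := Σ i, Fin (t i)
  let B'' := MvPolynomial T B'
  haveI : Algebra.Smooth B' B'' := {}
  haveI : Algebra.Smooth R B'' := Algebra.Smooth.comp R B' B''
  let c : Fin N → B'' := fun i => ∑ k, algebraMap R B'' (p i k) * X (⟨i, k⟩ : T)
  have hc : ∀ i, c i ∈ I.map (algebraMap R B'') := fun i =>
    Submodule.sum_mem _ fun k _ => Ideal.mul_mem_right _ _ (Ideal.mem_map_of_mem _ (hp i k))
  let α₁ : B →ₐ[R] B'' := (IsScalarTower.toAlgHom R B' B'').comp α
  let α' : B →ₐ[R] B'' := AlgHom.ofLinearMap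
    (α₁.toLinearMap + ∑ i, (LinearMap.mulRight R (c i)).comp (α₁.toLinearMap.comp (ds i).toLinearMap))
    (by simp) fun x y => by
      simp only [LinearMap.add_apply, LinearMap.coe_sum, Finset.sum_apply, LinearMap.comp_apply,
        AlgHom.toLinearMap_apply, Derivation.coeFn_coe, Derivation.leibniz, smul_eq_mul, map_add,
        map_mul, LinearMap.mulRight_apply, add_mul, Finset.sum_add_distrib, mul_add]
      have hz : (∑ i, α₁ (ds i x) * c i) * ∑ i, α₁ (ds i y) * c i = 0 :=
        mul_eq_zero_of_mem_map hI (Submodule.sum_mem _ fun i _ => Ideal.mul_mem_left _ _ (hc i))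
          (Submodule.sum_mem _ fun i _ => Ideal.mul_mem_left _ _ (hc i))
      simp only [mul_assoc, ← Finset.mul_sum]
      linear_combination -hz
  have hα' : ∀ b, α' b = α₁ b + ∑ i, α₁ (ds i b) * c i := fun b => by
    simp [α', LinearMap.coe_sum, Finset.sum_apply]
  let β' : B'' →ₐ[R] Λ := evalAt β fun x => lam x.1 x.2
  have hβC : ∀ z, β' (C z) = β z := fun z => evalAt_C _ _ z
  have hβX : ∀ (i : Fin N) (k : Fin (t i)), β' (X (⟨i, k⟩ : T)) = lam i k := fun i k => evalAt_X _ _ _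
  have hβc : ∀ i, β' (c i) = δ.liftKaehlerDifferential (ω i) := fun i => by
    rw [hsum i]
    simp only [c, map_sum, map_mul, AlgHom.commutes, hβX]
  have hcomp : ∀ b, β' (α' b) = φB b := by
    intro b
    rw [hα', map_add, map_sum]
    simp only [map_mul, hβc, α₁, AlgHom.comp_apply, show ∀ z, IsScalarTower.toAlgHom R B' B'' z = C z
      from fun _ => rfl, hβC]
    have := congrArg δ.liftKaehlerDifferential (hds b)
    rw [Derivation.liftKaehlerDifferential_comp_D, map_sum] at this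
    simp only [map_smul, Algebra.smul_def, hδ] at this
    rw [show (∑ i, β (α (ds i b)) * δ.liftKaehlerDifferential (ω i)) = φB b - ψ b from this.symm]
    exact add_sub_cancel _ _
  have hJ' : ∀ x ∈ J, α' x = 0 := by
    intro x hx
    rw [hα', show α₁ x = 0 by simp [α₁, hαJ x hx], zero_add]
    refine Finset.sum_eq_zero fun i _ => ?_
    refine mul_eq_zero_of_mem_map hI (map_mem_map α₁ ?_) (hc i)
    obtain ⟨t', p', l', hp', rfl⟩ := exists_sum_of_mem_map (hJ hx)
    simp only [map_sum, Derivation.leibniz, Derivation.map_algebraMap, smul_zero, add_zero,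
      smul_eq_mul, mul_zero]
    exact Submodule.sum_mem _ fun k _ => Ideal.mul_mem_right _ _ (Ideal.mem_map_of_mem _ (hp' k))
  refine ⟨B'', inferInstance, inferInstance, inferInstance,
    (Ideal.Quotient.liftₐ J α' hJ').comp g, β', ?_⟩
  rw [← hk, ← AlgHom.comp_assoc]
  congr 1
  refine Ideal.Quotient.algHom_ext _ (AlgHom.ext fun b => ?_)
  exact hcomp b

/-- A flat nilpotent deformation of an ind-smooth algebra is ind-smooth. -/
theorem indSmooth_of_nilpotent (N : ℕ) : ∀ (R Λ R₀ Λ₀ : Type u) [CommRing R] [CommRing Λ]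
    [CommRing R₀] [CommRing Λ₀] [Algebra R Λ] [Algebra R R₀] [Algebra R₀ Λ₀] [Algebra R Λ₀]
    [IsScalarTower R R₀ Λ₀] [Module.Flat R Λ],
    Function.Surjective (algebraMap R R₀) → ∀ q : Λ →ₐ[R] Λ₀, Function.Surjective q →
    (∀ x, q x = 0 → x ∈ (RingHom.ker (algebraMap R R₀)).map (algebraMap R Λ)) →
    RingHom.ker (algebraMap R R₀) ^ 2 ^ N = ⊥ → Smoothing.IndSmooth R₀ Λ₀ →
    Smoothing.IndSmooth R Λ := by
  induction N with
  | zero =>
    intro R Λ R₀ Λ₀ _ _ _ _ _ _ _ _ _ _ hR q hq hqker hI h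
    have hI' : RingHom.ker (algebraMap R R₀) ^ 2 = ⊥ := by
      rw [pow_zero, pow_one] at hI
      rw [hI, pow_two, Ideal.mul_bot]
    exact indSmooth_of_liftFactor hI' (liftFactor_of_indSmooth hR q hq hqker hI' h)
  | succ N ih =>
    intro R Λ R₀ Λ₀ _ _ _ _ _ _ _ _ _ _ hR q hq hqker hI h
    set I := RingHom.ker (algebraMap R R₀) with hIdef
    let R₁ := R ⧸ I ^ 2
    letI : Algebra R₁ R₀ := (Ideal.Quotient.lift (I ^ 2) (algebraMap R R₀)
      fun x hx => Ideal.pow_le_self two_ne_zero hx).toAlgebra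
    haveI : IsScalarTower R R₁ R₀ := IsScalarTower.of_algebraMap_eq' rfl
    letI : Algebra R₁ Λ₀ := ((algebraMap R₀ Λ₀).comp (algebraMap R₁ R₀)).toAlgebra
    haveI : IsScalarTower R₁ R₀ Λ₀ := IsScalarTower.of_algebraMap_eq' rfl
    haveI : IsScalarTower R R₁ Λ₀ := IsScalarTower.of_algebraMap_eq fun r => by
      show algebraMap R Λ₀ r = algebraMap R₀ Λ₀ (algebraMap R R₀ r)
      exact IsScalarTower.algebraMap_apply R R₀ Λ₀ r
    have hR₁ : Function.Surjective (algebraMap R₁ R₀) := fun x =>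
      (hR x).elim fun r hr => ⟨Ideal.Quotient.mk _ r, hr⟩
    have hsurj : Function.Surjective (Algebra.TensorProduct.includeRight : Λ →ₐ[R] R₁ ⊗[R] Λ) := by
      intro z
      induction z using TensorProduct.induction_on with
      | zero => exact ⟨0, map_zero _⟩
      | tmul r l =>
        obtain ⟨r, rfl⟩ := Ideal.Quotient.mk_surjective r
        refine ⟨r • l, ?_⟩
        show (1 : R₁) ⊗ₜ[R] (r • l) = _
        rw [TensorProduct.tmul_smul, TensorProduct.smul_tmul', Algebra.smul_def, mul_one]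
        rfl
      | add x y hx hy =>
        obtain ⟨x, rfl⟩ := hx
        obtain ⟨y, rfl⟩ := hy
        exact ⟨x + y, map_add _ _ _⟩
    have hker₁ : RingHom.ker (algebraMap R R₁) = I ^ 2 := Ideal.mk_ker
    let q₁ : R₁ ⊗[R] Λ →ₐ[R₁] Λ₀ :=
      Algebra.TensorProduct.lift (Algebra.ofId R₁ Λ₀) q fun _ _ => Commute.all _ _
    have hq₁ : ∀ l, q₁ (1 ⊗ₜ l) = q l := fun l => by simp [q₁]
    have hkerI : RingHom.ker (algebraMap R₁ R₀) = I.map (algebraMap R R₁) := by
      refine le_antisymm (fun x hx => ?_) (Ideal.map_le_iff_le_comap.2 fun r hr => hr)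
      obtain ⟨r, rfl⟩ := Ideal.Quotient.mk_surjective x
      exact Ideal.mem_map_of_mem _ hx
    have hsq : RingHom.ker (algebraMap R₁ R₀) ^ 2 = ⊥ := by
      rw [hkerI, ← Ideal.map_pow, Ideal.map_eq_bot_iff_le_ker, hker₁]
    have h₁ : Smoothing.IndSmooth R₁ (R₁ ⊗[R] Λ) := by
      refine indSmooth_of_liftFactor hsq (liftFactor_of_indSmooth hR₁ q₁ ?_ ?_ hsq h)
      · intro x
        obtain ⟨l, rfl⟩ := hq x
        exact ⟨_, hq₁ l⟩
      · intro x hx
        obtain ⟨l, rfl⟩ := hsurj x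
        have hl := Ideal.mem_map_of_mem
          (Algebra.TensorProduct.includeRight : Λ →ₐ[R] R₁ ⊗[R] Λ).toRingHom
          (hqker l ((hq₁ l).symm.trans hx))
        rw [Ideal.map_map] at hl
        rw [show (Algebra.TensorProduct.includeRight : Λ →ₐ[R] R₁ ⊗[R] Λ).toRingHom.comp (algebraMap R Λ) =
          algebraMap R (R₁ ⊗[R] Λ) from
          (Algebra.TensorProduct.includeRight : Λ →ₐ[R] R₁ ⊗[R] Λ).comp_algebraMap] at hl
        rw [hkerI, Ideal.map_map, ← IsScalarTower.algebraMap_eq]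
        exact hl
    refine ih R Λ R₁ (R₁ ⊗[R] Λ) Ideal.Quotient.mk_surjective Algebra.TensorProduct.includeRight hsurj
      (fun x hx => ?_) (by rw [hker₁, ← pow_mul, ← pow_succ']; exact hI) h₁
    rw [hker₁]
    let K := (I ^ 2).map (algebraMap R Λ)
    letI : Algebra R₁ (Λ ⧸ K) := inferInstanceAs (Algebra (R ⧸ I ^ 2) (Λ ⧸ (I ^ 2).map (algebraMap R Λ)))
    haveI : IsScalarTower R R₁ (Λ ⧸ K) := IsScalarTower.of_algebraMap_eq fun r => rfl
    let e : R₁ ⊗[R] Λ →ₐ[R₁] Λ ⧸ K :=
      Algebra.TensorProduct.lift (Algebra.ofId R₁ _) (Ideal.Quotient.mkₐ R K) fun _ _ => Commute.all _ _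
    have := congrArg e hx
    rw [map_zero, show e (Algebra.TensorProduct.includeRight x) = Ideal.Quotient.mk K x by simp [e],
      Ideal.Quotient.eq_zero_iff_mem] at this
    exact this

end Groth.Agent.Smooth28
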