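import Groth.Agent.Smooth28.Retract
import Groth.Agent.Smooth28.Taylor
import Groth.Prelude.Def_Smoothing
import Mathlib.RingTheory.MvPolynomial.Localization
import Mathlib.RingTheory.Localization.BaseChange
import Mathlib.LinearAlgebra.Matrix.SchurComplement
import Mathlib.Logic.Equiv.Fintype
import Mathlib.RingTheory.Smooth.StandardSmooth

/-!
Smooth factorizations over a localization of the base give elementary standard elements from the
multiplicative set.
-/

namespace Groth.Agent.Smooth28

open TensorProduct MvPolynomial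

universe u

theorem exists_elementary_standard_of_data {R A Λ Rs C : Type u} [CommRing R] [CommRing A] [Algebra R A]
    [Algebra.FinitePresentation R A] [CommRing Λ] [Algebra R Λ] (φ : A →ₐ[R] Λ) (S : Submonoid R)
    [CommRing Rs] [Algebra R Rs] [IsLocalization S Rs] [CommRing C] [Algebra Rs C]
    (g : Rs ⊗[R] A →ₐ[Rs] C) (h : C →ₐ[Rs] Rs ⊗[R] Λ)
    (hgh : h.comp g = Algebra.TensorProduct.map (AlgHom.id Rs Rs) φ)
    {n c : ℕ} (r : Fin c → MvPolynomial (Fin n) Rs) (cols : Fin c → Fin n)
    (hcols : Function.Injective cols) (val : Fin n → C)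
    (hsurj : Function.Surjective (aeval (R := Rs) val))
    (hker : RingHom.ker (aeval (R := Rs) val).toRingHom = Ideal.span (Set.range r))
    (hjac : IsUnit (Matrix.of fun j k => aeval (R := Rs) val (pderiv (cols k) (r j))).det) :
    ∃ (B : Type u) (_ : CommRing B) (_ : Algebra R B) (α : A →ₐ[R] B) (β : B →ₐ[R] Λ),
      β.comp α = φ ∧ ∃ s ∈ S, Smoothing.IsElementaryStandard R B (algebraMap R B s) := by
  classical
  letI : Algebra R C := ((algebraMap Rs C).comp (algebraMap R Rs)).toAlgebra
  haveI : IsScalarTower R Rs C := IsScalarTower.of_algebraMap_eq' rfl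
  let mkΛ : Λ →ₐ[R] Rs ⊗[R] Λ := Algebra.TensorProduct.includeRight
  haveI hloc : IsLocalizedModule S (TensorProduct.mk R Rs Λ 1) := inferInstance
  have hsurΛ : ∀ z : Rs ⊗[R] Λ, ∃ t ∈ S, ∃ l, algebraMap R (Rs ⊗[R] Λ) t * z = mkΛ l := by
    intro z
    obtain ⟨⟨l, t⟩, hl⟩ := IsLocalizedModule.surj S (TensorProduct.mk R Rs Λ 1) z
    exact ⟨t, t.2, l, by rw [← Algebra.smul_def]; exact hl⟩
  have hzeroΛ : ∀ l, mkΛ l = 0 → ∃ t ∈ S, algebraMap R Λ t * l = 0 := by
    intro l hl
    obtain ⟨t, ht⟩ := IsLocalizedModule.exists_of_eq (S := S) (f := TensorProduct.mk R Rs Λ 1)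
      (x₁ := l) (x₂ := 0) (hl.trans (map_zero _).symm)
    refine ⟨t, t.2, ?_⟩
    rw [← Algebra.smul_def]
    exact ht.trans (smul_zero _)
  -- rescaling the variables
  choose t₀ ht₀ l₀ hl₀ using fun i => hsurΛ (h (val i))
  let t : R := ∏ i, t₀ i
  have htS : t ∈ S := prod_mem fun i _ => ht₀ i
  let lam : Fin n → Λ := fun i => algebraMap R Λ (∏ k ∈ Finset.univ.erase i, t₀ k) * l₀ i
  obtain ⟨u, hu⟩ := (IsLocalization.map_units Rs ⟨t, htS⟩).exists_left_inv
  let ψ : MvPolynomial (Fin n) Rs →ₐ[Rs] C := aeval fun i => algebraMap R C t * val i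
  let e : MvPolynomial (Fin n) Rs →ₐ[Rs] MvPolynomial (Fin n) Rs := aeval fun i => MvPolynomial.C u * X i
  let e' : MvPolynomial (Fin n) Rs →ₐ[Rs] MvPolynomial (Fin n) Rs :=
    aeval fun i => MvPolynomial.C (algebraMap R Rs t) * X i
  have hψe : ψ.comp e = aeval val := MvPolynomial.algHom_ext fun i => by
    simp only [AlgHom.comp_apply, ψ, e, aeval_X, map_mul, aeval_C]
    rw [← mul_assoc, IsScalarTower.algebraMap_apply R Rs C, ← map_mul, hu, map_one, one_mul]
  have hee : ∀ q, e (e' q) = q := by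
    intro q
    have : e.comp e' = AlgHom.id Rs _ := MvPolynomial.algHom_ext fun i => by
      simp only [AlgHom.comp_apply, e, e', aeval_X, map_mul, aeval_C, algebraMap_eq, AlgHom.id_apply]
      rw [← mul_assoc, ← map_mul, mul_comm, mul_comm _ u, hu, map_one, mul_one]
    exact AlgHom.congr_fun this q
  have hψker : ∀ q, ψ q = 0 → q ∈ Ideal.span (Set.range fun j => e (r j)) := by
    intro q hq
    have h1 : e' q ∈ Ideal.span (Set.range r) := by
      rw [← hker]
      show aeval val (e' q) = 0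
      rw [← hψe, AlgHom.comp_apply, hee, hq]
    have h2 := Ideal.mem_map_of_mem e h1
    rw [Ideal.map_span, ← Set.range_comp, hee] at h2
    exact h2
  have hψr : ∀ j, ψ (e (r j)) = 0 := fun j => by
    rw [← AlgHom.comp_apply, hψe]
    exact (hker ▸ Ideal.subset_span ⟨j, rfl⟩ : r j ∈ RingHom.ker (aeval (R := Rs) val).toRingHom)
  have hψjac : IsUnit (Matrix.of fun j k => ψ (pderiv (cols k) (e (r j)))).det := by
    have hd : ∀ j k, ψ (pderiv (cols k) (e (r j))) =
        algebraMap Rs C u * aeval val (pderiv (cols k) (r j)) := by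
      intro j k
      rw [show e (r j) = aeval (fun i => MvPolynomial.C u * X i) (r j) from rfl, derivation_aeval,
        map_sum, Finset.sum_eq_single (cols k) (fun i _ hi => by
          rw [pderiv_C_mul, pderiv_X_of_ne hi, mul_zero, smul_zero, map_zero]) (by simp),
        pderiv_C_mul, pderiv_X_self, mul_one, smul_eq_mul, map_mul, mul_comm, ← hψe]
      simp only [AlgHom.comp_apply, ψ, aeval_C]
      rfl
    simp only [hd]
    rw [show (Matrix.of fun j k => algebraMap Rs C u * aeval (R := Rs) val (pderiv (cols k) (r j))) =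
      algebraMap Rs C u • Matrix.of (fun j k => aeval (R := Rs) val (pderiv (cols k) (r j))) from rfl,
      Matrix.det_smul]
    exact ((IsUnit.of_mul_eq_one _ hu).map (algebraMap Rs C)).pow _ |>.mul hjac
  -- polynomial descent
  letI : Algebra (MvPolynomial (Fin n) R) (MvPolynomial (Fin n) Rs) := MvPolynomial.algebraMvPolynomial
  haveI : IsLocalization (S.map (MvPolynomial.C (σ := Fin n))) (MvPolynomial (Fin n) Rs) :=
    MvPolynomial.isLocalization S Rs
  let mR : MvPolynomial (Fin n) R →+* MvPolynomial (Fin n) Rs := MvPolynomial.map (algebraMap R Rs)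
  have hdesc : ∀ p : MvPolynomial (Fin n) Rs, ∃ s ∈ S, ∃ q, mR q = MvPolynomial.C (algebraMap R Rs s) * p := by
    intro p
    obtain ⟨⟨q, ⟨_, s, hs, rfl⟩⟩, hq⟩ :=
      IsLocalization.surj (S.map (MvPolynomial.C (σ := Fin n))) p
    refine ⟨s, hs, q, ?_⟩
    have h := hq.symm
    simp only [MvPolynomial.algebraMap_def, map_C] at h
    rw [h, mul_comm]
  have hzeroR : ∀ q, mR q = 0 → ∃ s ∈ S, MvPolynomial.C s * q = 0 := by
    intro q hq
    obtain ⟨⟨_, s, hs, rfl⟩, h⟩ :=
      (IsLocalization.map_eq_zero_iff (S.map (MvPolynomial.C (σ := Fin n))) (MvPolynomial (Fin n) Rs) q).1 hq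
    exact ⟨s, hs, h⟩
  let ψ₀ : MvPolynomial (Fin n) R →ₐ[R] C := aeval fun i => algebraMap R C t * val i
  have hψ₀ : ∀ q, ψ (mR q) = ψ₀ q := fun q => aeval_map_algebraMap _ _ q
  have hlam : ∀ i, h (algebraMap R C t * val i) = mkΛ (lam i) := fun i => by
    rw [map_mul, IsScalarTower.algebraMap_apply R Rs C, AlgHom.commutes,
      ← IsScalarTower.algebraMap_apply R Rs (Rs ⊗[R] Λ),
      show t = (∏ k ∈ Finset.univ.erase i, t₀ k) * t₀ i from
        (Finset.prod_erase_mul _ _ (Finset.mem_univ i)).symm, map_mul, mul_assoc, hl₀ i, map_mul mkΛ]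
    congr 1
    exact (mkΛ.commutes _).symm
  have hhψ : ∀ q, h (ψ₀ q) = mkΛ (aeval lam q) := fun q => by
    have : (h.restrictScalars R).comp ψ₀ = mkΛ.comp (aeval lam) := MvPolynomial.algHom_ext fun i => by
      simp only [AlgHom.comp_apply, ψ₀, aeval_X]
      exact hlam i
    exact AlgHom.congr_fun this q
  choose σ hσ q₀ hq₀ using fun j => hdesc (e (r j))
  have hq0 : ∀ j, mkΛ (aeval lam (q₀ j)) = 0 := fun j => by
    rw [← hhψ, ← hψ₀, hq₀, map_mul, hψr, mul_zero, map_zero]
  choose τ hτ hτ0 using fun j => hzeroΛ _ (hq0 j)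
  let F : Fin c → MvPolynomial (Fin n) R := fun j => MvPolynomial.C (τ j) * q₀ j
  have hFmap : ∀ j, mR (F j) = MvPolynomial.C (algebraMap R Rs (τ j * σ j)) * e (r j) := fun j => by
    simp only [F, mR, map_mul, map_C]
    rw [show MvPolynomial.map (algebraMap R Rs) (q₀ j) = _ from hq₀ j]
    ring
  have hFlam : ∀ j, aeval lam (F j) = 0 := fun j => by simp [F, hτ0 j]
  have hFψ : ∀ j, ψ₀ (F j) = 0 := fun j => by rw [← hψ₀, hFmap, map_mul, hψr, mul_zero]
  have hkerF : ∀ q, ψ₀ q = 0 → ∃ s ∈ S, MvPolynomial.C s * q ∈ Ideal.span (Set.range F) := by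
    intro q hq
    rw [← hψ₀] at hq
    obtain ⟨a, ha⟩ := (Submodule.mem_span_range_iff_exists_fun _).1 (hψker _ hq)
    simp only [smul_eq_mul] at ha
    choose sa hsa qa hqa using fun j => hdesc (a j)
    let P : R := (∏ j, sa j) * ∏ j, τ j * σ j
    have hP : P ∈ S :=
      S.mul_mem (prod_mem fun j _ => hsa j) (prod_mem fun j _ => S.mul_mem (hτ j) (hσ j))
    let b : Fin c → MvPolynomial (Fin n) R := fun j =>
      MvPolynomial.C ((∏ k ∈ Finset.univ.erase j, sa k) * ∏ k ∈ Finset.univ.erase j, τ k * σ k) * qa j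
    have h0 : mR (MvPolynomial.C P * q - ∑ j, b j * F j) = 0 := by
      rw [map_sub, map_mul, map_sum, ← ha, Finset.mul_sum, sub_eq_zero]
      refine Finset.sum_congr rfl fun j _ => ?_
      have e1 : (∏ k, sa k) = (∏ k ∈ Finset.univ.erase j, sa k) * sa j :=
        (Finset.prod_erase_mul _ _ (Finset.mem_univ j)).symm
      have e2 : (∏ k, τ k * σ k) = (∏ k ∈ Finset.univ.erase j, τ k * σ k) * (τ j * σ j) :=
        (Finset.prod_erase_mul _ _ (Finset.mem_univ j)).symm
      rw [map_mul mR (b j), hFmap]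
      simp only [b, P, e1, e2, mR, map_mul, map_C]
      rw [show MvPolynomial.map (algebraMap R Rs) (qa j) = _ from hqa j]
      ring
    obtain ⟨s, hs, hs0⟩ := hzeroR _ h0
    refine ⟨s * P, S.mul_mem hs hP, ?_⟩
    rw [map_mul, mul_assoc, show MvPolynomial.C P * q =
      (MvPolynomial.C P * q - ∑ j, b j * F j) + ∑ j, b j * F j by ring, mul_add, hs0, zero_add]
    exact Ideal.mul_mem_left _ _ (Submodule.sum_mem _ fun j _ =>
      Ideal.mul_mem_left _ _ (Ideal.subset_span ⟨j, rfl⟩))
  -- the algebra A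
  obtain ⟨m, ρA, hρA, hρfg⟩ := (inferInstance : Algebra.FinitePresentation R A).out
  obtain ⟨l, gA, hgA⟩ := Submodule.fg_iff_exists_fin_generating_family.1 hρfg
  let gk : Fin m → C := fun k => g (1 ⊗ₜ ρA (X k))
  have hψsurj : Function.Surjective ψ := fun x => (hsurj x).elim fun p hp =>
    ⟨e p, by rw [← AlgHom.comp_apply, hψe, hp]⟩
  choose ek hek using fun k => hψsurj (gk k)
  choose s₁ hs₁ p₁ hp₁ using fun k => hdesc (ek k)
  have hsk : ∀ k, ψ₀ (p₁ k) = algebraMap R C (s₁ k) * gk k := fun k => by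
    rw [← hψ₀, hp₁, map_mul, hek]
    simp only [ψ, aeval_C]
    rfl
  have hΛk : ∀ k, mkΛ (algebraMap R Λ (s₁ k) * φ (ρA (X k)) - aeval lam (p₁ k)) = 0 := fun k => by
    rw [map_sub, map_mul, AlgHom.commutes, ← hhψ, hsk, map_mul,
      IsScalarTower.algebraMap_apply R Rs C, AlgHom.commutes, ← IsScalarTower.algebraMap_apply R Rs,
      show h (gk k) = mkΛ (φ (ρA (X k))) from AlgHom.congr_fun hgh _, sub_self]
  choose s₂ hs₂ hs₂0 using fun k => hzeroΛ _ (hΛk k)
  let iX : MvPolynomial (Fin n) R →ₐ[R] MvPolynomial (Fin n ⊕ Fin m) R := rename Sum.inl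
  let iY : MvPolynomial (Fin m) R →ₐ[R] MvPolynomial (Fin n ⊕ Fin m) R := rename Sum.inr
  let G : Fin m → MvPolynomial (Fin n ⊕ Fin m) R := fun k =>
    MvPolynomial.C (s₂ k) * (MvPolynomial.C (s₁ k) * X (Sum.inr k) - iX (p₁ k))
  let Φ : MvPolynomial (Fin n ⊕ Fin m) R →ₐ[R] C :=
    aeval (Sum.elim (fun i => algebraMap R C t * val i) gk)
  let βe : MvPolynomial (Fin n ⊕ Fin m) R →ₐ[R] Λ := aeval (Sum.elim lam fun k => φ (ρA (X k)))
  have hΦX : ∀ p, Φ (iX p) = ψ₀ p := fun p => by
    simp only [Φ, iX, ψ₀, aeval_rename, Sum.elim_comp_inl]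
  have hΦG : ∀ k, Φ (G k) = 0 := fun k => by
    simp only [G, map_mul, map_sub, hΦX, hsk]
    simp [Φ, gk]
  have hβG : ∀ k, βe (G k) = 0 := fun k => by
    simp only [G, map_mul, map_sub]
    simpa [βe, iX, aeval_rename] using hs₂0 k
  let lead : Fin c ⊕ Fin m → MvPolynomial (Fin n ⊕ Fin m) R := Sum.elim (fun j => iX (F j)) G
  have hΦl : ∀ i, Φ (lead i) = 0 := by rintro (j | k); exacts [(hΦX _).trans (hFψ j), hΦG k]
  have helim : ∀ q, ∃ s ∈ S, ∃ q', MvPolynomial.C s * q - iX q' ∈ Ideal.span (Set.range lead) := by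
    intro q
    induction q using MvPolynomial.induction_on with
    | C a => exact ⟨1, S.one_mem, MvPolynomial.C a, by simp [iX]⟩
    | add a b ha hb =>
      obtain ⟨sa, hsa, a', ha'⟩ := ha
      obtain ⟨sb, hsb, b', hb'⟩ := hb
      refine ⟨sa * sb, S.mul_mem hsa hsb, MvPolynomial.C sb * a' + MvPolynomial.C sa * b', ?_⟩
      have := add_mem (Ideal.mul_mem_left _ (MvPolynomial.C sb) ha') (Ideal.mul_mem_left _ (MvPolynomial.C sa) hb')
      convert this using 1
      simp only [map_mul, map_add, iX, rename_C]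
      ring
    | mul_X a i ha =>
      obtain ⟨sa, hsa, a', ha'⟩ := ha
      rcases i with i | k
      · refine ⟨sa, hsa, a' * X i, ?_⟩
        have := Ideal.mul_mem_right (X (Sum.inl i)) _ ha'
        convert this using 1
        simp only [map_mul, iX, rename_X]
        ring
      · refine ⟨s₂ k * s₁ k * sa, S.mul_mem (S.mul_mem (hs₂ k) (hs₁ k)) hsa,
          MvPolynomial.C (s₂ k) * a' * p₁ k, ?_⟩
        have := add_mem (Ideal.mul_mem_left _ (MvPolynomial.C (s₂ k * s₁ k) * X (Sum.inr k)) ha')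
          (Ideal.mul_mem_left _ (iX a') (Ideal.subset_span ⟨Sum.inr k, rfl⟩ : G k ∈ Ideal.span (Set.range lead)))
        convert this using 1
        simp only [G, map_mul, iX, rename_C]
        ring
  have hkerΦ : ∀ q, Φ q = 0 → ∃ s ∈ S, MvPolynomial.C s * q ∈ Ideal.span (Set.range lead) := by
    intro q hq
    obtain ⟨s, hs, q', hq'⟩ := helim q
    have hz : ψ₀ q' = 0 := by
      have h0 : ∀ x ∈ Ideal.span (Set.range lead), Φ x = 0 := fun x hx =>
        (Ideal.span_le.2 (by rintro _ ⟨i, rfl⟩; exact hΦl i) :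
          Ideal.span (Set.range lead) ≤ RingHom.ker Φ.toRingHom) hx
      have := h0 _ hq'
      rwa [map_sub, map_mul, hq, mul_zero, zero_sub, neg_eq_zero, hΦX] at this
    obtain ⟨s', hs', hq''⟩ := hkerF q' hz
    refine ⟨s' * s, S.mul_mem hs' hs, ?_⟩
    have h1 := Ideal.mem_map_of_mem iX hq''
    rw [Ideal.map_span, ← Set.range_comp, map_mul, show iX (MvPolynomial.C s') = MvPolynomial.C s' from
      rename_C _ _] at h1
    have h2 : Ideal.span (Set.range (iX ∘ F)) ≤ Ideal.span (Set.range lead) :=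
      Ideal.span_mono (by rintro _ ⟨j, rfl⟩; exact ⟨Sum.inl j, rfl⟩)
    have := add_mem (Ideal.mul_mem_left _ (MvPolynomial.C s') hq') (h2 h1)
    convert this using 1
    rw [map_mul]
    ring
  -- the indexing
  let cols' : Fin c ⊕ Fin m → Fin n ⊕ Fin m := Sum.map cols id
  have hcols' : Function.Injective cols' := hcols.sumMap Function.injective_id
  have hcn : c + m ≤ n + m := by
    have := Fintype.card_le_of_injective cols hcols
    simp only [Fintype.card_fin] at this
    omega
  let e0 : Fin (n + m) ≃ Fin n ⊕ Fin m := finSumFinEquiv.symm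
  let tgt : Fin (c + m) → Fin (n + m) := fun k => e0.symm (cols' (finSumFinEquiv.symm k))
  have htgt : Function.Injective tgt :=
    e0.symm.injective.comp (hcols'.comp finSumFinEquiv.symm.injective)
  let perm : Equiv.Perm (Fin (n + m)) := Equiv.extendSubtype
    ((Equiv.ofInjective _ (Fin.castLE_injective hcn)).symm.trans (Equiv.ofInjective tgt htgt))
  let π : Fin (n + m) ≃ Fin n ⊕ Fin m := perm.trans e0
  have hπ : ∀ k, π (Fin.castLE hcn k) = cols' (finSumFinEquiv.symm k) := by
    intro k
    have : perm (Fin.castLE hcn k) = tgt k := by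
      simp only [perm]
      rw [Equiv.extendSubtype_apply_of_mem _ _ (Set.mem_range_self k), Equiv.trans_apply,
        Equiv.ofInjective_symm_apply (Fin.castLE_injective hcn)]
      rfl
    show e0 (perm _) = _
    rw [this]
    exact e0.apply_symm_apply _
  let rl : Fin (c + m + l) → MvPolynomial (Fin (n + m)) R :=
    Fin.append (fun k => rename π.symm (lead (finSumFinEquiv.symm k))) fun i => rename π.symm (iY (gA i))
  let Kd : Ideal (MvPolynomial (Fin (n + m)) R) := Ideal.span (Set.range rl)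
  let B := MvPolynomial (Fin (n + m)) R ⧸ Kd
  let hom : MvPolynomial (Fin (n + m)) R →ₐ[R] B := Ideal.Quotient.mkₐ R Kd
  let α' : MvPolynomial (Fin m) R →ₐ[R] B := hom.comp ((rename π.symm).comp iY)
  have hα' : ∀ p, ρA p = 0 → α' p = 0 := by
    intro p hp
    have hp' : p ∈ Ideal.span (Set.range gA) := by
      rw [show Ideal.span (Set.range gA) = RingHom.ker ρA.toRingHom from hgA]; exact hp
    have : Ideal.span (Set.range gA) ≤ RingHom.ker α'.toRingHom := Ideal.span_le.2 (by
      rintro _ ⟨i, rfl⟩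
      exact Ideal.Quotient.eq_zero_iff_mem.2 (Ideal.subset_span ⟨Fin.natAdd _ i, Fin.append_right _ _ i⟩))
    exact this hp'
  let α : A →ₐ[R] B := AlgHom.liftOfSurjective ρA hρA α' hα'
  have hβY : ∀ p, βe (iY p) = φ (ρA p) := fun p => by
    have : βe.comp iY = φ.comp ρA := MvPolynomial.algHom_ext fun i => by simp [βe, iY]
    exact AlgHom.congr_fun this p
  have hΦY : ∀ p, Φ (iY p) = g (1 ⊗ₜ ρA p) := fun p => by
    have : Φ.comp iY = (g.restrictScalars R).comp (Algebra.TensorProduct.includeRight.comp ρA) :=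
      MvPolynomial.algHom_ext fun i => by simp [Φ, iY, gk]
    exact AlgHom.congr_fun this p
  have hgA0 : ∀ i, ρA (gA i) = 0 := fun i =>
    show gA i ∈ RingHom.ker ρA.toRingHom from hgA ▸ Submodule.subset_span ⟨i, rfl⟩
  let rπ : MvPolynomial (Fin (n + m)) R →ₐ[R] MvPolynomial (Fin n ⊕ Fin m) R := rename π
  let β' : MvPolynomial (Fin (n + m)) R →ₐ[R] Λ := βe.comp rπ
  have hren : ∀ p, rπ (rename π.symm p) = p := fun p => by
    simp only [rπ, rename_rename, Equiv.self_comp_symm, rename_id_apply]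
  have hrenβ : ∀ p, β' (rename π.symm p) = βe p := fun p => congrArg βe (hren p)
  have hβK : ∀ x ∈ Kd, β' x = 0 := fun x hx => by
    refine (Ideal.span_le.2 ?_ : Kd ≤ RingHom.ker β'.toRingHom) hx
    rintro _ ⟨i, rfl⟩
    show β' (rl i) = 0
    induction i using Fin.addCases with
    | left k =>
      simp only [rl, Fin.append_left, hrenβ]
      rcases finSumFinEquiv.symm k with j | j
      · simp only [lead, Sum.elim_inl]
        simpa [βe, iX, aeval_rename] using hFlam j
      · exact hβG j
    | right i =>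
      simp only [rl, Fin.append_right, hrenβ, hβY, hgA0, map_zero]
  let β : B →ₐ[R] Λ := Ideal.Quotient.liftₐ Kd β' hβK
  have hαβ : β.comp α = φ := by
    refine AlgHom.ext fun x => ?_
    obtain ⟨p, rfl⟩ := hρA x
    rw [AlgHom.comp_apply, show α (ρA p) = α' p from AlgHom.liftOfSurjective_apply ρA hρA α' hα' p]
    show β' (rename π.symm (iY p)) = _
    rw [hrenβ, hβY]
  refine ⟨B, inferInstance, inferInstance, α, β, hαβ, ?_⟩
  let MP : Smoothing.MarkedPresentation R B :=
    { n := n + m, m := c + m + l, c := c + m, hcn := hcn, hcm := Nat.le_add_right _ _,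
      rel := rl, hom := hom, surj := Ideal.Quotient.mk_surjective, ker_eq := Ideal.mk_ker }
  let minor := Smoothing.jacobianMinor rl (Fin.castLE MP.hcm) (Fin.castLE MP.hcn)
  have hlead : ∀ k : Fin (c + m), rl (Fin.castLE MP.hcm k) = rename π.symm (lead (finSumFinEquiv.symm k)) :=
    fun k => Fin.append_left _ _ k
  have hunitΦ : IsUnit (Φ (rename π minor)) := by
    rw [show rename π minor = (rename π).toRingHom minor from rfl]
    simp only [minor, Smoothing.jacobianMinor, RingHom.map_det]
    rw [show Φ ((rename π).toRingHom.mapMatrix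
      (Matrix.of fun j k : Fin (c + m) => pderiv (Fin.castLE MP.hcn k) (rl (Fin.castLE MP.hcm j)))).det =
      (Φ.toRingHom.mapMatrix ((rename π).toRingHom.mapMatrix
      (Matrix.of fun j k : Fin (c + m) => pderiv (Fin.castLE MP.hcn k) (rl (Fin.castLE MP.hcm j))))).det from
        RingHom.map_det Φ.toRingHom _]
    let blk : Matrix (Fin c ⊕ Fin m) (Fin c ⊕ Fin m) C := Matrix.of fun j k => Φ (pderiv (cols' k) (lead j))
    have hblk : Φ.toRingHom.mapMatrix ((rename π).toRingHom.mapMatrix
        (Matrix.of fun j k : Fin (c + m) => pderiv (Fin.castLE MP.hcn k) (rl (Fin.castLE MP.hcm j)))) =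
        blk.submatrix finSumFinEquiv.symm finSumFinEquiv.symm := by
      ext j k
      simp only [RingHom.mapMatrix_apply, Matrix.map_apply, Matrix.of_apply, hlead, blk, Matrix.submatrix_apply]
      show Φ (rename π (pderiv (Fin.castLE MP.hcn k) (rename π.symm (lead (finSumFinEquiv.symm j))))) = _
      rw [← pderiv_rename π.injective, show rename π (rename π.symm (lead (finSumFinEquiv.symm j))) = _ from hren _]
      exact congrArg (fun i => Φ (pderiv i (lead (finSumFinEquiv.symm j)))) (hπ k)
    rw [hblk, Matrix.det_submatrix_equiv_self, ← Matrix.fromBlocks_toBlocks blk]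
    have hnoY : ∀ (p : MvPolynomial (Fin n) R) (k : Fin m), pderiv (Sum.inr k) (iX p) = 0 := fun p k =>
      pderiv_eq_zero_of_notMem_vars fun hmem => by
        have := vars_rename Sum.inl p hmem
        simp at this
    have h12 : blk.toBlocks₁₂ = 0 := by
      ext j k
      show Φ (pderiv (Sum.inr k) (iX (F j))) = 0
      rw [hnoY, map_zero]
    rw [h12, Matrix.det_fromBlocks_zero₁₂]
    refine IsUnit.mul ?_ ?_
    · have : blk.toBlocks₁₁ = Matrix.of fun j k =>
          algebraMap R C (τ j * σ j) * ψ (pderiv (cols k) (e (r j))) := by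
        ext j k
        show Φ (pderiv (Sum.inl (cols k)) (rename Sum.inl (F j))) = _
        rw [pderiv_rename Sum.inl_injective, show rename Sum.inl (pderiv (cols k) (F j)) = iX _ from rfl,
          hΦX, ← hψ₀]
        simp only [mR, ← pderiv_map]
        rw [show MvPolynomial.map (algebraMap R Rs) (F j) = _ from hFmap j, pderiv_C_mul, map_mul]
        simp only [ψ, aeval_C, Matrix.of_apply]
        rfl
      have hd : blk.toBlocks₁₁ = Matrix.diagonal (fun j => algebraMap R C (τ j * σ j)) *
          Matrix.of fun j k => ψ (pderiv (cols k) (e (r j))) := by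
        rw [this]
        ext j k
        simp [Matrix.diagonal_mul]
      rw [hd, Matrix.det_mul, Matrix.det_diagonal]
      exact (IsUnit.prod_iff.2 fun j _ => by
        rw [IsScalarTower.algebraMap_apply R Rs C]
        exact (IsLocalization.map_units Rs ⟨τ j * σ j, S.mul_mem (hτ j) (hσ j)⟩).map _).mul hψjac
    · have : blk.toBlocks₂₂ = Matrix.diagonal fun k => algebraMap R C (s₂ k * s₁ k) := by
        ext j k
        show Φ (pderiv (Sum.inr k) (G j)) = _
        simp only [G, pderiv_C_mul, map_sub, hnoY, sub_zero, map_mul]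
        rcases eq_or_ne j k with rfl | hjk
        · simp [Φ]
        · rw [pderiv_X_of_ne (Sum.inr_injective.ne hjk), map_zero, mul_zero, mul_zero,
            Matrix.diagonal_apply_ne _ hjk]
      rw [this, Matrix.det_diagonal]
      exact IsUnit.prod_iff.2 fun k _ => by
        rw [IsScalarTower.algebraMap_apply R Rs C]
        exact (IsLocalization.map_units Rs ⟨s₂ k * s₁ k, S.mul_mem (hs₂ k) (hs₁ k)⟩).map _
  -- the element of the multiplicative set
  obtain ⟨w, hw⟩ := hunitΦ.exists_left_inv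
  have hΦdesc : ∀ x : C, ∃ s ∈ S, ∃ q, Φ q = algebraMap R C s * x := by
    intro x
    obtain ⟨p, rfl⟩ := hψsurj x
    obtain ⟨s, hs, q, hq⟩ := hdesc p
    refine ⟨s, hs, iX q, ?_⟩
    rw [hΦX, ← hψ₀, hq, map_mul]
    simp only [ψ, aeval_C]
    rfl
  obtain ⟨sw, hsw, qw, hqw⟩ := hΦdesc w
  obtain ⟨s0, hs0, hm⟩ := hkerΦ (qw * rename π minor - MvPolynomial.C sw) (by
    rw [map_sub, map_mul, hqw, mul_assoc, hw, mul_one]
    simp [Φ])
  choose st hst hstail using fun i => hkerΦ (iY (gA i)) (by rw [hΦY, hgA0, TensorProduct.tmul_zero, map_zero])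
  let s := s0 * sw * ∏ i, st i
  have hs : s ∈ S := S.mul_mem (S.mul_mem hs0 hsw) (prod_mem fun i _ => hst i)
  have htr : ∀ x, x ∈ Ideal.span (Set.range lead) →
      rename π.symm x ∈ Ideal.span (rl '' {j | (j : ℕ) < c + m}) := by
    intro x hx
    have h1 := Ideal.mem_map_of_mem (rename π.symm) hx
    rw [Ideal.map_span] at h1
    refine Ideal.span_mono ?_ h1
    rintro _ ⟨_, ⟨i, rfl⟩, rfl⟩
    refine ⟨Fin.castLE MP.hcm (finSumFinEquiv i), (finSumFinEquiv i).isLt, ?_⟩
    rw [hlead, Equiv.symm_apply_apply]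
  refine ⟨s, hs, MP, ⟨hom (rename π.symm qw) * algebraMap R B (s0 * ∏ i, st i), ?_⟩, ?_⟩
  · have h1 : hom (rename π.symm (MvPolynomial.C s0 * (qw * rename π minor - MvPolynomial.C sw))) = 0 :=
      Ideal.Quotient.eq_zero_iff_mem.2 (Ideal.span_mono (Set.image_subset_range _ _) (htr _ hm))
    have hback : rename π.symm (rename π minor) = minor := by
      rw [rename_rename, Equiv.symm_comp_self, rename_id_apply]
    simp only [map_mul, map_sub, rename_C, hback, ← algebraMap_eq, AlgHom.commutes] at h1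
    show algebraMap R B s = hom (rename π.symm qw) * algebraMap R B (s0 * ∏ i, st i) * hom minor
    simp only [s, map_mul]
    linear_combination (-(algebraMap R B (∏ i, st i))) * h1
  · intro a' ha' j hj
    obtain ⟨i, rfl⟩ : ∃ i, j = Fin.natAdd (c + m) i := by
      induction j using Fin.addCases with
      | left k => exact absurd hj (not_le.2 k.isLt)
      | right i => exact ⟨i, rfl⟩
    have hdiff : a' - MvPolynomial.C s ∈ Ideal.span (Set.range rl) :=
      Ideal.Quotient.eq.1 (ha'.trans (hom.commutes s).symm)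
    rw [show a' * MP.rel (Fin.natAdd (c + m) i) = (a' - MvPolynomial.C s) * rl (Fin.natAdd (c + m) i) +
      MvPolynomial.C s * rl (Fin.natAdd (c + m) i) by ring]
    refine add_mem (Ideal.mem_sup_right ?_) (Ideal.mem_sup_left ?_)
    · show _ ∈ Ideal.span (Set.range rl) ^ 2
      rw [pow_two]
      exact Ideal.mul_mem_mul hdiff (Ideal.subset_span ⟨_, rfl⟩)
    · have h1 := htr _ (hstail i)
      rw [map_mul, rename_C, show rename π.symm (iY (gA i)) = rl (Fin.natAdd (c + m) i) by simp only [rl, Fin.append_right]] at h1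
      rw [show s = (s0 * sw * ∏ k ∈ Finset.univ.erase i, st k) * st i by
        simp only [s]; rw [mul_assoc _ (Finset.prod _ _) (st i), Finset.prod_erase_mul _ _ (Finset.mem_univ i)],
        map_mul, mul_assoc]
      exact Ideal.mul_mem_left _ _ h1

theorem exists_elementary_standard_of_smooth {R A Λ Rs B' : Type u} [CommRing R] [CommRing A] [Algebra R A]
    [Algebra.FinitePresentation R A] [CommRing Λ] [Algebra R Λ] (φ : A →ₐ[R] Λ) (S : Submonoid R)
    [CommRing Rs] [Algebra R Rs] [IsLocalization S Rs] [CommRing B'] [Algebra Rs B']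
    [Algebra.Smooth Rs B'] (g : Rs ⊗[R] A →ₐ[Rs] B') (h : B' →ₐ[Rs] Rs ⊗[R] Λ)
    (hgh : h.comp g = Algebra.TensorProduct.map (AlgHom.id Rs Rs) φ) :
    ∃ (B : Type u) (_ : CommRing B) (_ : Algebra R B) (α : A →ₐ[R] B) (β : B →ₐ[R] Λ),
      β.comp α = φ ∧ ∃ s ∈ S, Smoothing.IsElementaryStandard R B (algebraMap R B s) := by
  classical
  obtain ⟨C, _, _, _, _, _, ⟨ρ⟩, hstd⟩ := exists_standardSmooth_retract (R := Rs) (A := B')
  obtain ⟨ι, σ, _, _, ⟨P⟩⟩ := hstd.out
  let eι := Finite.equivFin ι
  let eσ := Finite.equivFin σ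
  refine exists_elementary_standard_of_data φ S ((IsScalarTower.toAlgHom Rs B' C).comp g)
    (h.comp (ρ.restrictScalars Rs)) ?_ (fun j => rename eι (P.relation (eσ.symm j)))
    (fun j => eι (P.map (eσ.symm j))) (eι.injective.comp (P.map_inj.comp eσ.symm.injective))
    (fun i => P.val (eι.symm i)) ?_ ?_ ?_
  · rw [← hgh]
    ext x
    simp
  · intro x
    obtain ⟨p, hp⟩ := P.aeval_val_surjective x
    exact ⟨rename eι p, by rw [aeval_rename]; simpa [Function.comp_def] using hp⟩
  · have hcomp : (aeval (R := Rs) fun i => P.val (eι.symm i)) =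
        (aeval (R := Rs) P.val).comp (rename eι.symm) :=
      MvPolynomial.algHom_ext fun i => by simp
    refine le_antisymm (fun x hx => ?_) (Ideal.span_le.2 ?_)
    · have h1 : rename eι.symm x ∈ P.toGenerators.ker := by
        rw [Algebra.Generators.ker_eq_ker_aeval_val]
        show aeval P.val (rename eι.symm x) = 0
        rw [← AlgHom.comp_apply, ← hcomp]
        exact hx
      rw [← P.span_range_relation_eq_ker] at h1
      have h2 := Ideal.mem_map_of_mem (rename eι) h1
      rw [Ideal.map_span, rename_rename, Equiv.self_comp_symm, rename_id_apply] at h2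
      refine Ideal.span_mono ?_ h2
      rintro _ ⟨_, ⟨j, rfl⟩, rfl⟩
      exact ⟨eσ j, by simp⟩
    · rintro _ ⟨j, rfl⟩
      show aeval (fun i => P.val (eι.symm i)) (rename eι (P.relation (eσ.symm j))) = 0
      rw [aeval_rename]
      simpa [Function.comp_def] using P.aeval_val_relation (eσ.symm j)
  · have := Fintype.ofFinite σ
    have hj := P.jacobian_isUnit
    rw [Algebra.PreSubmersivePresentation.jacobian_eq_jacobiMatrix_det, P.algebraMap_apply,
      show aeval P.val P.jacobiMatrix.det = ((aeval P.val).mapMatrix P.jacobiMatrix).det from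
        AlgHom.map_det _ _] at hj
    have h1 : (Matrix.of fun j k => aeval (R := Rs) (fun i => P.val (eι.symm i))
        (pderiv (eι (P.map (eσ.symm k))) (rename eι (P.relation (eσ.symm j))))) =
        ((aeval P.val).mapMatrix P.jacobiMatrix).transpose.submatrix eσ.symm eσ.symm := by
      ext j k
      simp only [Matrix.of_apply, Matrix.submatrix_apply, Matrix.transpose_apply, AlgHom.mapMatrix_apply, Matrix.map_apply,
        Algebra.PreSubmersivePresentation.jacobiMatrix_apply, pderiv_rename eι.injective, aeval_rename]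
      simp [Function.comp_def]
    rw [h1, Matrix.det_submatrix_equiv_self, Matrix.det_transpose]
    exact hj

end Groth.Agent.Smooth28
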