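import Groth.Agent.Smooth28.Omega
import Groth.Agent.Smooth28.Det
import Groth.Prelude.Def_Smoothing
import Mathlib.LinearAlgebra.Prod

/-!
Consequences of being strictly standard.
-/

namespace Groth.Agent.Smooth28

open MvPolynomial KaehlerDifferential Matrix

universe u

variable {R : Type u} [CommRing R] {A : Type u} [CommRing A] [Algebra R A]

/-- The leading Jacobian matrix with values in `A`. -/
noncomputable def leadMatrix (P : Smoothing.MarkedPresentation R A) :
    Matrix (Fin P.c) (Fin P.n) A :=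
  Matrix.of fun j i => P.hom (pderiv i (P.rel (Fin.castLE P.hcm j)))

theorem hom_jacobianMinor {n m c : ℕ} (f : Fin m → MvPolynomial (Fin n) R)
    (φ : MvPolynomial (Fin n) R →ₐ[R] A) (rows : Fin c → Fin m) (cols : Fin c → Fin n) :
    φ (Smoothing.jacobianMinor f rows cols) =
      ((Matrix.of fun (j : Fin c) (i : Fin n) => φ (pderiv i (f (rows j)))).submatrix id cols).det := by
  rw [Smoothing.jacobianMinor, AlgHom.map_det]
  rfl

theorem rel_mem (P : Smoothing.MarkedPresentation R A) (j : Fin P.m) : P.hom (P.rel j) = 0 :=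
  show P.rel j ∈ RingHom.ker P.hom.toRingHom from P.ker_eq ▸ Ideal.subset_span ⟨j, rfl⟩

theorem exists_tail_combination (P : Smoothing.MarkedPresentation R A) {a : A}
    (h : Smoothing.KillsTail P a) {a' : MvPolynomial (Fin P.n) R} (ha' : P.hom a' = a)
    (j : Fin P.m) (hj : P.c ≤ (j : ℕ)) :
    ∃ r : Fin P.c → MvPolynomial (Fin P.n) R,
      a' * P.rel j - ∑ k, r k * P.rel (Fin.castLE P.hcm k) ∈ RingHom.ker P.hom.toRingHom ^ 2 := by
  have h1 := h a' ha' j hj
  rw [← P.ker_eq] at h1
  obtain ⟨x, hx, y, hy, hxy⟩ := Submodule.mem_sup.1 h1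
  have himg : P.rel '' {j' : Fin P.m | (j' : ℕ) < P.c} =
      Set.range fun k => P.rel (Fin.castLE P.hcm k) := by
    ext z
    constructor
    · rintro ⟨i, hi, rfl⟩; exact ⟨⟨i, hi⟩, rfl⟩
    · rintro ⟨k, rfl⟩; exact ⟨Fin.castLE P.hcm k, k.2, rfl⟩
  rw [himg] at hx
  obtain ⟨r, hr⟩ := (Submodule.mem_span_range_iff_exists_fun _).1 hx
  refine ⟨r, ?_⟩
  have : a' * P.rel j - ∑ k, r k * P.rel (Fin.castLE P.hcm k) = y := by
    rw [← hxy, ← hr]
    simp [smul_eq_mul]
  rw [this]
  exact hy

theorem hasSplit_sq (P : Smoothing.MarkedPresentation R A) {a : A}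
    (hmin : a ∈ Ideal.span (Set.range fun cols : Fin P.c → Fin P.n =>
        P.hom (Smoothing.jacobianMinor P.rel (Fin.castLE P.hcm) cols)))
    (htail : Smoothing.KillsTail P a) {a' : MvPolynomial (Fin P.n) R} (ha' : P.hom a' = a) :
    HasSplit P.hom (a' ^ 2) := by
  classical
  have hmin' : a ∈ Ideal.span (Set.range fun cols : Fin P.c → Fin P.n =>
      ((leadMatrix P).submatrix id cols).det) := by
    simpa only [hom_jacobianMinor] using! hmin
  obtain ⟨N, hN⟩ := exists_mul_eq_smul_one (leadMatrix P) hmin'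
  choose N' hN' using fun i k => P.surj (N i k)
  let f : Fin P.c → MvPolynomial (Fin P.n) R := fun k => P.rel (Fin.castLE P.hcm k)
  let h : Fin P.n → MvPolynomial (Fin P.n) R := fun i => a' * ∑ k, N' i k * f k
  let e : MvPolynomial (Fin P.n) R → MvPolynomial (Fin P.n) R := fun x =>
    a' ^ 2 * x - ∑ i, pderiv i x * h i
  have he : ∀ x y, e (x + y) = e x + e y := fun x y => by
    simp only [e, map_add, add_mul, Finset.sum_add_distrib, mul_add]; ring
  have hh : ∀ i, P.hom (h i) = 0 := fun i => by simp [h, f, rel_mem]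
  have hlead : ∀ k, e (f k) ∈ RingHom.ker P.hom.toRingHom ^ 2 := by
    intro k
    have h0 : e (f k) = a' * ∑ l, ((if k = l then a' else 0) -
        ∑ i, pderiv i (f k) * N' i l) * f l := by
      simp only [e, h, sub_mul, Finset.sum_sub_distrib, ite_mul, zero_mul, Finset.sum_ite_eq,
        Finset.mem_univ, if_true, mul_sub, Finset.mul_sum, Finset.sum_mul]
      rw [Finset.sum_comm (γ := Fin P.c)]
      congr 1
      · ring
      · exact Finset.sum_congr rfl fun i _ => Finset.sum_congr rfl fun l _ => by ring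
    rw [h0]
    refine Ideal.mul_mem_left _ _ (Submodule.sum_mem _ fun l _ => mem_sq_of_zero ?_ (rel_mem P _))
    have := congrFun (congrFun hN k) l
    simp only [Matrix.mul_apply, leadMatrix, Matrix.of_apply, Matrix.smul_apply, Matrix.one_apply,
      smul_eq_mul, mul_ite, mul_one, mul_zero] at this
    simp only [map_sub, map_sum, map_mul, hN', f]
    rw [this]
    split_ifs <;> simp [ha']
  refine split_of_generators P.hom _ h hh (Set.range P.rel) P.ker_eq ?_
  rintro _ ⟨j, rfl⟩
  by_cases hj : (j : ℕ) < P.c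
  · exact hlead ⟨j, hj⟩
  obtain ⟨r, hr⟩ := exists_tail_combination P htail ha' j (not_lt.1 hj)
  obtain ⟨q, hq, hqeq⟩ : ∃ q, q ∈ RingHom.ker P.hom.toRingHom ^ 2 ∧
      a' * P.rel j = (∑ k, r k * f k) + q := ⟨_, hr, by simp [f]⟩
  have hd : ∀ i, a' * pderiv i (P.rel j) - ∑ k, r k * pderiv i (f k) ∈
      RingHom.ker P.hom.toRingHom := by
    intro i
    have h1 := pderiv_mem_of_mem_sq hq i
    have h2 : a' * pderiv i (P.rel j) - ∑ k, r k * pderiv i (f k) =
        pderiv i q - pderiv i a' * P.rel j + ∑ k, pderiv i (r k) * f k := by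
      have h3 := congrArg (pderiv i) hqeq
      simp only [map_add, map_sum, pderiv_mul, Finset.sum_add_distrib] at h3
      linear_combination h3
    rw [h2]
    exact add_mem (sub_mem h1 (Ideal.mul_mem_left _ _ (rel_mem P j)))
      (Submodule.sum_mem _ fun k _ => Ideal.mul_mem_left _ _ (rel_mem P _))
  show e (P.rel j) ∈ _
  let g : Fin P.n → MvPolynomial (Fin P.n) R := fun i => ∑ k, N' i k * f k
  have hval : e (P.rel j) = a' * q + ∑ k, r k * (a' * f k - ∑ i, pderiv i (f k) * g i) -
      ∑ i, (a' * pderiv i (P.rel j) - ∑ k, r k * pderiv i (f k)) * g i := by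
    simp only [e, h, mul_sub, sub_mul, Finset.sum_sub_distrib, Finset.mul_sum, Finset.sum_mul, ← mul_assoc]
    have e1 : ∑ k, r k * a' * f k = a' * ∑ k, r k * f k := by
      rw [Finset.mul_sum]; exact Finset.sum_congr rfl fun k _ => by ring
    have e2 : ∑ k, ∑ i, r k * pderiv i (f k) * g i = ∑ i, ∑ k, r k * pderiv i (f k) * g i :=
      Finset.sum_comm
    have e3 : ∑ i, a' * pderiv i (P.rel j) * g i =
        ∑ i, ∑ k, pderiv i (P.rel j) * a' * N' i k * f k := by
      refine Finset.sum_congr rfl fun i _ => ?_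
      simp only [g, Finset.mul_sum]
      exact Finset.sum_congr rfl fun k _ => by ring
    linear_combination a' * hqeq - e1 + e2 + e3
  rw [hval]
  refine sub_mem (add_mem (Ideal.mul_mem_left _ _ hq) (Submodule.sum_mem _ fun k _ => ?_))
    (Submodule.sum_mem _ fun i _ => mem_sq_of_zero (hd i) (by simp [g, f, rel_mem]))
  refine Ideal.mul_mem_left _ _ ?_
  have h0 : a' * f k - ∑ i, pderiv i (f k) * g i = ∑ l, ((if k = l then a' else 0) -
      ∑ i, pderiv i (f k) * N' i l) * f l := by
    simp only [g, sub_mul, Finset.sum_sub_distrib, ite_mul, zero_mul, Finset.sum_ite_eq,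
      Finset.mem_univ, if_true, Finset.sum_mul, Finset.mul_sum, mul_assoc]
    rw [Finset.sum_comm]
  rw [h0]
  refine Submodule.sum_mem _ fun l _ => mem_sq_of_zero ?_ (rel_mem P _)
  have := congrFun (congrFun hN k) l
  simp only [Matrix.mul_apply, leadMatrix, Matrix.of_apply, Matrix.smul_apply, Matrix.one_apply,
    smul_eq_mul, mul_ite, mul_one, mul_zero] at this
  simp only [map_sub, map_sum, map_mul, hN', f]
  rw [this]
  split_ifs <;> simp [ha']

theorem formallySmooth_away_of_isStrictlyStandard {a : A} (ha : Smoothing.IsStrictlyStandard R A a)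
    (S : Type u) [CommRing S] [Algebra R S] [Algebra A S] [IsScalarTower R A S]
    [IsLocalization.Away a S] : Algebra.FormallySmooth R S := by
  obtain ⟨P, hmin, htail⟩ := ha
  obtain ⟨a', ha'⟩ := P.surj a
  exact formallySmooth_of_split P.hom P.surj a (a' ^ 2) 2 (by rw [map_pow, ha'])
    (hasSplit_sq P hmin htail ha')

theorem stablyFree_away_of_isStrictlyStandard {a : A} (ha : Smoothing.IsStrictlyStandard R A a)
    (S : Type u) [CommRing S] [Algebra R S] [Algebra A S] [IsScalarTower R A S]
    [IsLocalization.Away a S] :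
    ∃ p q : ℕ, Nonempty ((Ω[S⁄R] × (Fin p → S)) ≃ₗ[S] (Fin q → S)) := by
  classical
  obtain ⟨P, hmin, htail⟩ := ha
  obtain ⟨a', ha'⟩ := P.surj a
  obtain ⟨ρ, hρK, hρ⟩ := exists_projection (S := S) P.surj a P.rel P.ker_eq (a' ^ 2) 2
    (by rw [map_pow, ha']) (hasSplit_sq P hmin htail ha')
  set K := LinearMap.ker (toOmega S P.hom) with hK
  let L : (Fin P.c → S) →ₗ[S] (Fin P.n → S) :=
    Fintype.linearCombination S fun k => jacRow S P.hom (P.rel (Fin.castLE P.hcm k))
  have hinj : Function.Injective L := by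
    have hmin' : a ∈ Ideal.span (Set.range fun cols : Fin P.c → Fin P.n =>
        ((leadMatrix P).submatrix id cols).det) := by
      simpa only [hom_jacobianMinor] using! hmin
    obtain ⟨N, hN⟩ := exists_mul_eq_smul_one (leadMatrix P) hmin'
    rw [injective_iff_map_eq_zero]
    intro x hx
    funext l
    have h0 : ∀ i, ∑ k, x k * algebraMap A S (leadMatrix P k i) = 0 := fun i => by
      have := congrFun hx i
      simpa [L, Fintype.linearCombination_apply, jacRow, leadMatrix] using this
    have h1 : ∀ k, algebraMap A S ((leadMatrix P * N) k l) = if k = l then algebraMap A S a else 0 :=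
      fun k => by
        rw [hN, Matrix.smul_apply, Matrix.one_apply]
        split_ifs <;> simp
    apply (IsLocalization.Away.algebraMap_isUnit a (S := S)).mul_left_cancel
    rw [Pi.zero_apply, mul_zero]
    calc algebraMap A S a * x l = ∑ k, x k * algebraMap A S ((leadMatrix P * N) k l) := by
          simp [h1, mul_comm]
      _ = ∑ i, (∑ k, x k * algebraMap A S (leadMatrix P k i)) * algebraMap A S (N i l) := by
          simp only [Matrix.mul_apply, map_sum, map_mul, Finset.mul_sum, Finset.sum_mul]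
          rw [Finset.sum_comm]
          simp only [mul_assoc]
      _ = 0 := by simp [h0]
  have hrange : LinearMap.range L = K := by
    refine le_antisymm ?_ ?_
    · rintro _ ⟨x, rfl⟩
      rw [Fintype.linearCombination_apply]
      refine Submodule.sum_mem _ fun k _ => Submodule.smul_mem _ _ ?_
      show toOmega S P.hom _ = 0
      rw [toOmega_jacRow, rel_mem, map_zero, map_zero]
    · rw [hK, ker_toOmega S P.surj (Submonoid.powers a) P.rel P.ker_eq, Submodule.span_le]
      rintro _ ⟨j, rfl⟩
      by_cases hj : (j : ℕ) < P.c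
      · exact ⟨Pi.single ⟨j, hj⟩ 1, by simp [L]⟩
      obtain ⟨r, hr⟩ := exists_tail_combination P htail ha' j (not_lt.1 hj)
      have h0 := jacRow_eq_zero_of_sq S P.hom hr
      rw [jacRow_sub, jacRow_mul S P.hom (rel_mem P j), jacRow_sum, sub_eq_zero, ha'] at h0
      obtain ⟨w, hw⟩ := (IsLocalization.Away.algebraMap_isUnit a (S := S)).exists_left_inv
      refine ⟨w • fun k => algebraMap A S (P.hom (r k)), ?_⟩
      rw [map_smul, Fintype.linearCombination_apply]
      have : ∑ k, algebraMap A S (P.hom (r k)) • jacRow S P.hom (P.rel (Fin.castLE P.hcm k)) =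
          algebraMap A S a • jacRow S P.hom (P.rel j) := by
        rw [h0]
        exact Finset.sum_congr rfl fun k _ => (jacRow_mul S P.hom (rel_mem P _)).symm
      rw [this, smul_smul, hw, one_smul]
  let e₁ : (Fin P.n → S) ≃ₗ[S] Ω[S⁄R] × K :=
    LinearEquiv.ofBijective ((toOmega S P.hom).prod (ρ.codRestrict K hρK)) <| by
      constructor
      · rw [injective_iff_map_eq_zero]
        intro v hv
        have hv1 : v ∈ K := congrArg Prod.fst hv
        rw [← hρ v hv1]
        exact congrArg Subtype.val (congrArg Prod.snd hv)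
      · rintro ⟨ω, k⟩
        obtain ⟨v, hv⟩ := toOmega_surjective S P.surj (Submonoid.powers a) ω
        refine ⟨v - ρ v + k.1, Prod.ext ?_ (Subtype.ext ?_)⟩
        · show toOmega S P.hom _ = ω
          rw [map_add, map_sub, show toOmega S P.hom (ρ v) = 0 from hρK v,
            show toOmega S P.hom k.1 = 0 from k.2, hv, sub_zero, add_zero]
        · show ρ _ = k.1
          rw [map_add, map_sub, hρ _ (hρK v), hρ _ k.2, sub_self, zero_add]
  let e₂ : (Fin P.c → S) ≃ₗ[S] K :=
    (LinearEquiv.ofInjective L hinj).trans (LinearEquiv.ofEq _ _ hrange)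
  exact ⟨P.c, P.n, ⟨((LinearEquiv.refl S _).prodCongr e₂).trans e₁.symm⟩⟩

end Groth.Agent.Smooth28
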