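import Groth.Agent.Smooth28.AtSmooth
import Groth.Agent.Smooth28.Std
import Mathlib.Logic.Equiv.Fintype

/-!
Elementary standard elements at smooth primes and the singular ideal.
-/

namespace Groth.Agent.Smooth28

open MvPolynomial Matrix

universe u

variable {R : Type u} [CommRing R] {A : Type u} [CommRing A] [Algebra R A]

theorem exists_perm_extending {n c : ℕ} (hcn : c ≤ n) (v : Fin c → Fin n)
    (hv : Function.Injective v) : ∃ e : Fin n ≃ Fin n, ∀ j, e (Fin.castLE hcn j) = v j := by
  classical
  let e₀ : {x // x ∈ Set.range (Fin.castLE hcn)} ≃ {x // x ∈ Set.range v} :=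
    (Equiv.ofInjective _ (Fin.castLE_injective hcn)).symm.trans (Equiv.ofInjective v hv)
  refine ⟨e₀.extendSubtype, fun j => ?_⟩
  rw [Equiv.extendSubtype_apply_of_mem _ _ (Set.mem_range_self j)]
  simp [e₀, Equiv.ofInjective_symm_apply]

theorem isElementaryStandard_of_data {n m c : ℕ} (f : Fin m → MvPolynomial (Fin n) R)
    (φ : MvPolynomial (Fin n) R →ₐ[R] A) (hφ : Function.Surjective φ)
    (hker : RingHom.ker φ.toRingHom = Ideal.span (Set.range f))
    (rows : Fin c ↪ Fin m) (cols : Fin c ↪ Fin n) (g : MvPolynomial (Fin n) R)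
    (hg : ∀ x, φ x = 0 → g * x ∈ Ideal.span (Set.range (f ∘ rows))) :
    Smoothing.IsElementaryStandard R A (φ g * φ (Smoothing.jacobianMinor f rows cols)) := by
  classical
  have hcn : c ≤ n := by simpa using Fintype.card_le_of_embedding cols
  have hcm : c ≤ m := by simpa using Fintype.card_le_of_embedding rows
  obtain ⟨en, hen⟩ := exists_perm_extending hcn cols cols.injective
  obtain ⟨em, hem⟩ := exists_perm_extending hcm rows rows.injective
  let ρ : MvPolynomial (Fin n) R ≃ₐ[R] MvPolynomial (Fin n) R := renameEquiv R en.symm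
  let hom : MvPolynomial (Fin n) R →ₐ[R] A := φ.comp ρ.symm.toAlgHom
  have hhom : ∀ x, hom (ρ x) = φ x := fun x => congrArg φ (ρ.symm_apply_apply x)
  let f' : Fin m → MvPolynomial (Fin n) R := fun j => ρ (f (em j))
  have hker' : RingHom.ker hom.toRingHom = Ideal.span (Set.range f') := by
    have h1 : Set.range f' = ρ '' Set.range f := by
      rw [← Set.range_comp]
      exact (EquivLike.range_comp (ρ ∘ f) em)
    rw [h1, ← Ideal.map_span, ← hker]
    ext x
    rw [Ideal.mem_map_iff_of_surjective _ ρ.surjective]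
    constructor
    · intro hx
      exact ⟨ρ.symm x, hx, ρ.apply_symm_apply x⟩
    · rintro ⟨y, hy, rfl⟩
      exact (hhom y).trans hy
  refine ⟨⟨n, m, c, hcn, hcm, f', hom, hφ.comp ρ.symm.surjective, hker'⟩, ⟨φ g, ?_⟩, ?_⟩
  · congr 1
    show _ = hom (Smoothing.jacobianMinor f' (Fin.castLE hcm) (Fin.castLE hcn))
    rw [Smoothing.jacobianMinor, AlgHom.map_det, Smoothing.jacobianMinor, AlgHom.map_det]
    congr 1
    ext j k
    simp only [AlgHom.mapMatrix_apply, Matrix.map_apply, Matrix.of_apply, f', hem]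
    have : pderiv (Fin.castLE hcn k) (ρ (f (rows j))) = ρ (pderiv (cols k) (f (rows j))) := by
      have h := pderiv_rename en.symm.injective (x := cols k) (p := f (rows j))
      rw [show en.symm (cols k) = Fin.castLE hcn k from en.symm_apply_eq.2 (hen k).symm] at h
      exact h
    rw [this, hhom]
  · intro a₁ ha₁ j _
    show a₁ * f' j ∈ _ ⊔ Ideal.span (Set.range f') ^ 2
    have hjz : hom (f' j) = 0 :=
      show f' j ∈ RingHom.ker hom.toRingHom from hker' ▸ Ideal.subset_span ⟨j, rfl⟩
    let Δ := Smoothing.jacobianMinor f rows cols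
    have h1 : (a₁ - ρ (g * Δ)) * f' j ∈ Ideal.span (Set.range f') ^ 2 := by
      rw [← hker', pow_two]
      refine Ideal.mul_mem_mul ?_ hjz
      show hom (a₁ - ρ (g * Δ)) = 0
      rw [map_sub, hhom, map_mul φ, show hom a₁ = _ from ha₁, sub_self]
    have h2 : ρ (g * Δ) * f' j ∈
        Ideal.span (f' '' {j' : Fin m | (j' : ℕ) < c}) := by
      have hfj : φ (f (em j)) = 0 :=
        show f (em j) ∈ RingHom.ker φ.toRingHom from hker ▸ Ideal.subset_span ⟨em j, rfl⟩
      have h := Ideal.mem_map_of_mem ρ (Ideal.mul_mem_left _ Δ (hg _ hfj))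
      rw [← mul_assoc, mul_comm Δ g, map_mul, Ideal.map_span, ← Set.range_comp] at h
      refine Ideal.span_mono ?_ h
      rintro _ ⟨r, rfl⟩
      exact ⟨Fin.castLE hcm r, r.2, by simp [f', hem]⟩
    have := add_mem (Ideal.mem_sup_right (S := Ideal.span (f' '' {j' : Fin m | (j' : ℕ) < c})) h1)
      (Ideal.mem_sup_left (T := Ideal.span (Set.range f') ^ 2) h2)
    rwa [← add_mul, sub_add_cancel] at this

theorem exists_elementaryStandard_notMem [Algebra.FinitePresentation R A] (q : Ideal A) [q.IsPrime]
    [Algebra.IsSmoothAt R q] : ∃ a ∉ q, Smoothing.IsElementaryStandard R A a := by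
  obtain ⟨n, φ, hφ, hfg⟩ := (‹Algebra.FinitePresentation R A›).out
  obtain ⟨s, hs⟩ := hfg
  let f : Fin s.card → MvPolynomial (Fin n) R := fun j => (s.equivFin.symm j : MvPolynomial (Fin n) R)
  have hker : RingHom.ker φ.toRingHom = Ideal.span (Set.range f) := by
    rw [← hs]
    congr 1
    ext x
    constructor
    · intro hx
      exact ⟨s.equivFin ⟨x, hx⟩, by simp [f]⟩
    · rintro ⟨j, rfl⟩
      exact (s.equivFin.symm j).2
  obtain ⟨g, c, rows, cols, hnot, hg⟩ := exists_standard_data f φ hφ hker q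
  exact ⟨_, hnot, isElementaryStandard_of_data f φ hφ hker rows cols g hg⟩

theorem isStrictlyStandard_of_isElementaryStandard {a : A}
    (h : Smoothing.IsElementaryStandard R A a) : Smoothing.IsStrictlyStandard R A a := by
  obtain ⟨P, ⟨b, rfl⟩, ht⟩ := h
  exact ⟨P, Ideal.mul_mem_left _ _ (Ideal.subset_span ⟨Fin.castLE P.hcn, rfl⟩), ht⟩

theorem mem_singularIdeal_of_isStrictlyStandard [Algebra.FinitePresentation R A] {a : A}
    (ha : Smoothing.IsStrictlyStandard R A a) : a ∈ Smoothing.singularIdeal R A := by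
  haveI := formallySmooth_away_of_isStrictlyStandard ha (Localization.Away a)
  haveI : Algebra.Smooth R (Localization.Away a) :=
    ⟨inferInstance, Algebra.FinitePresentation.trans R A (Localization.Away a)⟩
  have hsub := (Algebra.basicOpen_subset_smoothLocus_iff_smooth (R := R) (f := a)).2 inferInstance
  rw [Smoothing.singularIdeal, PrimeSpectrum.mem_vanishingIdeal]
  intro p hp
  by_contra hap
  exact hp (hsub hap)

theorem singularIdeal_le_radical_elementary [Algebra.FinitePresentation R A] :
    Smoothing.singularIdeal R A ≤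
      (Ideal.span {a : A | Smoothing.IsElementaryStandard R A a}).radical := by
  rw [Ideal.radical_eq_sInf]
  refine le_sInf ?_
  rintro p ⟨hp, hprime⟩
  haveI := hprime
  intro x hx
  rw [Smoothing.singularIdeal, PrimeSpectrum.mem_vanishingIdeal] at hx
  refine hx ⟨p, hprime⟩ ?_
  intro hsm
  haveI : Algebra.IsSmoothAt R p := hsm
  obtain ⟨a, ha, hstd⟩ := exists_elementaryStandard_notMem (R := R) p
  exact ha (hp (Ideal.subset_span hstd))

end Groth.Agent.Smooth28
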