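import Groth.Agent.PBasis12.Field
import Groth.Agent.Sep12.Basic
import Mathlib.RingTheory.Kaehler.JacobiZariski
import Mathlib.RingTheory.Kaehler.Polynomial
import Mathlib.RingTheory.Smooth.Field
import Mathlib.RingTheory.Artinian.Ring
import Mathlib.FieldTheory.Perfect
import Mathlib.Algebra.Field.ZMod
import Mathlib.Algebra.Field.ULift

/-! Coefficient fields of Artinian local algebras with finite imperfection. -/

set_option autoImplicit false
universe u

open IsLocalRing TensorProduct EGA41

namespace Groth.Agent.Smooth28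

/-- Iterating generation by a p-basis. -/
theorem mem_closure_frobenius_iterate {k : Type u} [Field k] (p : ℕ) [Fact p.Prime] [CharP k p] (B : Set k)
    (hB : Subring.closure (Set.range (fun y : k => y ^ p) ∪ B) = ⊤) (N : ℕ) :
    Subring.closure (Set.range (fun y : k => y ^ p ^ N) ∪ B) = ⊤ := by
  induction N with
  | zero =>
    refine top_le_iff.1 fun y _ => Subring.subset_closure (Or.inl ⟨y, ?_⟩)
    simp
  | succ N ih =>
    refine top_le_iff.1 (hB ▸ Subring.closure_le.2 ?_)
    rintro _ (⟨y, rfl⟩ | hy)
    · have h1 : (frobenius k p) y ∈ (Subring.closure (Set.range (fun y : k => y ^ p ^ N) ∪ B)).map (frobenius k p) :=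
        ⟨y, ih ▸ Subring.mem_top y, rfl⟩
      rw [RingHom.map_closure] at h1
      refine (Subring.closure_le.2 ?_) h1
      rintro _ ⟨z, hz, rfl⟩
      rcases hz with ⟨z, rfl⟩ | hz
      · refine Subring.subset_closure (Or.inl ⟨z, ?_⟩)
        show z ^ p ^ (N + 1) = (z ^ p ^ N) ^ p
        rw [pow_succ, pow_mul]
      · rw [frobenius_def]
        have hz' : z ∈ Subring.closure (Set.range (fun y : k => y ^ p ^ (N + 1)) ∪ B) :=
          Subring.subset_closure (Or.inr hz)
        exact pow_mem hz' p
    · exact Subring.subset_closure (Or.inr hy)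

/-- A finite subset of a basis carries a finite submodule. -/
theorem exists_finite_support {K M ι : Type*} [CommRing K] [AddCommGroup M] [Module K M] (b : Module.Basis ι K M)
    (W : Submodule K M) (hW : W.FG) : ∃ F : Finset ι, ∀ w ∈ W, ↑(b.repr w).support ⊆ (F : Set ι) := by
  classical
  obtain ⟨s, rfl⟩ := hW
  refine ⟨s.biUnion fun v => (b.repr v).support, fun w hw => ?_⟩
  suffices h : Submodule.span K (s : Set M) ≤
      (Finsupp.supported K K ((s.biUnion fun v => (b.repr v).support : Finset ι) : Set ι)).comap b.repr.toLinearMap from h hw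
  rw [Submodule.span_le]
  intro v hv
  show ((b.repr v).support : Set ι) ⊆ _
  exact Finset.coe_subset.2 (Finset.subset_biUnion_of_mem (fun v => (b.repr v).support) hv)

theorem formallySmooth_mvPolynomial_of_injective {P K : Type u} [Field P] [PerfectField P] [Field K] [Algebra P K]
    {ι : Type u} [Algebra (MvPolynomial ι P) K] [IsScalarTower P (MvPolynomial ι P) K]
    (h : Function.Injective (KaehlerDifferential.mapBaseChange P (MvPolynomial ι P) K)) :
    Algebra.FormallySmooth (MvPolynomial ι P) K := by
  have : Algebra.FormallySmooth P K := Sep12.formallySmooth_of_perfectField P K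
  refine ⟨inferInstance, ⟨fun a b => ?_⟩⟩
  suffices h0 : ∀ x : Algebra.H1Cotangent (MvPolynomial ι P) K, x = 0 from (h0 a).trans (h0 b).symm
  intro x
  have h1 : Algebra.H1Cotangent.δ P (MvPolynomial ι P) K x = 0 :=
    h (((Algebra.H1Cotangent.exact_δ_mapBaseChange P (MvPolynomial ι P) K) _).2 ⟨x, rfl⟩ |>.trans (map_zero _).symm)
  obtain ⟨y, rfl⟩ := ((Algebra.H1Cotangent.exact_map_δ P (MvPolynomial ι P) K) x).1 h1
  rw [Subsingleton.elim y 0, map_zero]

theorem exists_coefficientField {k Λ : Type u} [Field k] (p : ℕ) [Fact p.Prime] [CharP k p] [CommRing Λ]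
    [Algebra k Λ] [IsArtinianRing Λ] [IsLocalRing Λ]
    (hH : Module.Finite (ResidueField Λ) (Algebra.H1Cotangent k (ResidueField Λ))) :
    ∃ σ : ResidueField Λ →+* Λ, (∀ x, residue Λ (σ x) = x) ∧
      ∃ U : Finset k, ∀ b : k, algebraMap k Λ b ∈
        Subring.closure (σ '' Set.range (algebraMap k (ResidueField Λ)) ∪ algebraMap k Λ '' (U : Set k)) := by
  classical
  let K := ResidueField Λ
  have : CharP Λ p := charP_of_injective_algebraMap (algebraMap k Λ).injective p
  let : Algebra (ULift.{u} (ZMod p)) k := ((ZMod.castHom dvd_rfl k).comp ULift.ringEquiv.toRingHom).toAlgebra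
  let P := ULift.{u} (ZMod p)
  let : Algebra P Λ := ((algebraMap k Λ).comp (algebraMap P k)).toAlgebra
  have : IsScalarTower P k Λ := IsScalarTower.of_algebraMap_eq fun x => rfl
  have : IsScalarTower P k K := IsScalarTower.of_algebraMap_eq fun x => rfl
  -- a p-basis
  obtain ⟨B, -, -, hB⟩ := PBasis12.exists_pBasis_between (p := p) (k := P) (K := k) Set.univ ∅ (Set.empty_subset _)
    PBasis12.isPGenerating_univ PBasis12.isPIndependent_empty
  have hgen : Subring.closure (Set.range (fun y : k => y ^ p) ∪ B) = ⊤ := by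
    refine top_le_iff.1 fun y _ => ?_
    have hy : y ∈ Algebra.adjoin (pPowerSubalgebra p P k) (Set.range (Subtype.val : B → k)) :=
      ((PBasis12.aeval_surjective_iff _).mpr hB.2).symm ▸ Algebra.mem_top
    refine Algebra.adjoin_induction (fun z hz => Subring.subset_closure (Or.inr (by rwa [Subtype.range_coe] at hz)))
      (fun z => ?_) (fun a b _ _ => add_mem) (fun a b _ _ => mul_mem) hy
    obtain ⟨z, hz⟩ := z
    show z ∈ _
    refine Algebra.adjoin_induction (p := fun w _ => w ∈ Subring.closure (Set.range (fun y : k => y ^ p) ∪ B))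
      (fun w hw => Subring.subset_closure (Or.inl hw)) (fun w => ?_)
      (fun a b _ _ => add_mem) (fun a b _ _ => mul_mem) hz
    obtain ⟨n, hn⟩ := ZMod.intCast_surjective w.down
    rw [show algebraMap P k w = ((n : ℤ) : k) by
      show ZMod.castHom dvd_rfl k w.down = _
      rw [← hn, map_intCast]]
    exact intCast_mem _ n
  -- the finite exceptional set
  let bb := (PBasis12.kaehlerBasis hB).baseChange K
  let W := LinearMap.ker (KaehlerDifferential.mapBaseChange P k K)
  have hW : W.FG := by
    have h1 : W = LinearMap.range (Algebra.H1Cotangent.δ P k K) :=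
      LinearMap.exact_iff.1 (Algebra.H1Cotangent.exact_δ_mapBaseChange P k K)
    rw [h1, LinearMap.range_eq_map]
    exact Module.Finite.fg_top.map _
  obtain ⟨F, hF⟩ := exists_finite_support bb W hW
  let ι := {i : B // i ∉ F}
  let Q := MvPolynomial ι P
  let : Algebra Q Λ := (MvPolynomial.aeval fun i : ι => algebraMap k Λ (i.1 : k)).toRingHom.toAlgebra
  have : IsScalarTower P Q Λ := IsScalarTower.of_algebraMap_eq fun x => ((MvPolynomial.aeval _).commutes x).symm
  have hX : ∀ i : ι, algebraMap Q K (MvPolynomial.X i) = algebraMap k K (i.1 : k) := fun i =>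
    congrArg (residue Λ) (MvPolynomial.aeval_X _ i)
  have hinj : Function.Injective (KaehlerDifferential.mapBaseChange P Q K) := by
    rw [injective_iff_map_eq_zero]
    intro x hx
    let bQ := (KaehlerDifferential.mvPolynomialBasis P ι).baseChange K
    let c := bQ.repr x
    have hbQ : ∀ i, bQ i = (1 : K) ⊗ₜ[Q] KaehlerDifferential.D P Q (MvPolynomial.X i) := fun i => by
      rw [Module.Basis.baseChange_apply]
      congr 1
      apply (KaehlerDifferential.mvPolynomialBasis P ι).repr.injective
      rw [Module.Basis.repr_self, KaehlerDifferential.mvPolynomialBasis_repr_D_X]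
    let y := Finsupp.linearCombination K (fun i : ι => bb i.1) c
    have hy : y ∈ W := by
      show KaehlerDifferential.mapBaseChange P k K y = 0
      rw [← hx, show x = Finsupp.linearCombination K bQ c from (bQ.linearCombination_repr x).symm,
        Finsupp.apply_linearCombination, Finsupp.apply_linearCombination]
      refine congrArg (fun v => Finsupp.linearCombination K v c) (funext fun i => ?_)
      simp only [Function.comp_apply, hbQ, bb, Module.Basis.baseChange_apply, PBasis12.kaehlerBasis_apply,
        KaehlerDifferential.mapBaseChange_tmul, one_smul, KaehlerDifferential.map_D, hX]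
    have h2 : bb.repr y = Finsupp.mapDomain Subtype.val c := by
      rw [show y = Finsupp.linearCombination K bb (Finsupp.mapDomain Subtype.val c) by
        rw [Finsupp.linearCombination_mapDomain]; rfl, Module.Basis.repr_linearCombination]
    have h3 : c = 0 := by
      ext i
      by_contra hi
      have h4 : (i.1 : B) ∈ (bb.repr y).support := by
        rw [h2, Finsupp.mem_support_iff, Finsupp.mapDomain_apply Subtype.val_injective]
        exact hi
      exact i.2 (hF y hy h4)
    exact bQ.repr.map_eq_zero_iff.1 h3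
  have : IsScalarTower P Q K := IsScalarTower.of_algebraMap_eq fun x =>
    congrArg (residue Λ) ((MvPolynomial.aeval _).commutes x).symm
  have : PerfectField P := by
    have : Finite P := Finite.of_equiv _ Equiv.ulift.symm
    infer_instance
  have := formallySmooth_mvPolynomial_of_injective (P := P) (K := K) (ι := ι) hinj
  obtain ⟨N, hN⟩ := IsArtinianRing.isNilpotent_jacobson_bot (R := Λ)
  rw [jacobson_eq_maximalIdeal ⊥ bot_ne_top] at hN
  let σ : K →ₐ[Q] Λ := Algebra.FormallySmooth.lift (maximalIdeal Λ) ⟨N, hN⟩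
    ((AlgHom.id Q K : K →ₐ[Q] K) : K →ₐ[Q] Λ ⧸ maximalIdeal Λ)
  have hσ : ∀ x, residue Λ (σ x) = x := fun x =>
    Algebra.FormallySmooth.mk_lift (maximalIdeal Λ) ⟨N, hN⟩ _ x
  refine ⟨σ.toRingHom, hσ, F.image Subtype.val, fun b => ?_⟩
  have hb : b ∈ Subring.closure (Set.range (fun y : k => y ^ p ^ N) ∪ B) :=
    mem_closure_frobenius_iterate p B hgen N ▸ Subring.mem_top b
  have h1 : algebraMap k Λ b ∈ (Subring.closure (Set.range (fun y : k => y ^ p ^ N) ∪ B)).map (algebraMap k Λ) :=
    ⟨b, hb, rfl⟩
  rw [RingHom.map_closure] at h1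
  refine (Subring.closure_le.2 ?_) h1
  rintro _ ⟨z, hz, rfl⟩
  rcases hz with ⟨z, rfl⟩ | hz
  · refine Subring.subset_closure (Or.inl ⟨algebraMap k K (z ^ p ^ N), ⟨_, rfl⟩, ?_⟩)
    show σ (algebraMap k K (z ^ p ^ N)) = algebraMap k Λ (z ^ p ^ N)
    rw [map_pow, map_pow, map_pow, ← sub_eq_zero, ← sub_pow_char_pow]
    have h2 : σ (algebraMap k K z) - algebraMap k Λ z ∈ maximalIdeal Λ := by
      rw [← residue_eq_zero_iff, map_sub, hσ]
      exact sub_self _
    have hle : N ≤ p ^ N := le_of_lt (Nat.lt_pow_self (Fact.out : p.Prime).one_lt)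
    have h3 := Ideal.pow_le_pow_right hle (Ideal.pow_mem_pow h2 (p ^ N))
    rwa [hN, Ideal.zero_eq_bot, Ideal.mem_bot] at h3
  · by_cases hzF : (⟨z, hz⟩ : B) ∈ F
    · exact Subring.subset_closure (Or.inr ⟨z, Finset.mem_coe.2 (Finset.mem_image.2 ⟨_, hzF, rfl⟩), rfl⟩)
    · refine Subring.subset_closure (Or.inl ⟨algebraMap k K z, ⟨_, rfl⟩, ?_⟩)
      show σ (algebraMap k K z) = algebraMap k Λ z
      rw [← hX ⟨⟨z, hz⟩, hzF⟩, AlgHom.commutes]
      exact MvPolynomial.aeval_X _ _

end Groth.Agent.Smooth28
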