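import Mathlib.RingTheory.Artinian.Ring
import Mathlib.RingTheory.HopkinsLevitzki
import Mathlib.RingTheory.LocalRing.ResidueField.Basic
import Mathlib.RingTheory.EssentialFiniteness
import Mathlib.RingTheory.Flat.Basic
import Mathlib.RingTheory.TensorProduct.Free
import Mathlib.RingTheory.Flat.Stability
import Mathlib.FieldTheory.IntermediateField.Adjoin.Basic
import Mathlib.LinearAlgebra.FiniteDimensional.Basic

/-! Small subalgebras of an Artinian local algebra with a coefficient field. -/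

set_option autoImplicit false
universe u

open IsLocalRing TensorProduct

namespace Groth.Agent.Smooth28

theorem essFiniteType_of_residue {k A : Type u} [CommRing k] [CommRing A] [Algebra k A] [IsLocalRing A]
    [IsArtinianRing A] (S T : Finset A) (hTS : T ⊆ S) (hm : Ideal.span (T : Set A) = maximalIdeal A)
    (hres : ∀ a : A, ∃ x ∈ Algebra.adjoin k (S : Set A), ∃ y ∈ Algebra.adjoin k (S : Set A),
      IsUnit y ∧ a * y - x ∈ maximalIdeal A) : Algebra.EssFiniteType k A := by
  let B := Algebra.adjoin k (S : Set A)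
  let D : Subring A :=
    { carrier := {a | ∃ t ∈ B, IsUnit t ∧ a * t ∈ B}
      mul_mem' := by
        rintro a b ⟨t, ht, htu, ha⟩ ⟨s, hs, hsu, hb⟩
        exact ⟨t * s, mul_mem ht hs, htu.mul hsu, by rw [mul_mul_mul_comm]; exact mul_mem ha hb⟩
      one_mem' := ⟨1, one_mem _, isUnit_one, by rw [mul_one]; exact one_mem _⟩
      add_mem' := by
        rintro a b ⟨t, ht, htu, ha⟩ ⟨s, hs, hsu, hb⟩
        exact ⟨t * s, mul_mem ht hs, htu.mul hsu, by
          rw [add_mul, ← mul_assoc, mul_comm t s, ← mul_assoc]; exact add_mem (mul_mem ha hs) (mul_mem hb ht)⟩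
      zero_mem' := ⟨1, one_mem _, isUnit_one, by rw [zero_mul]; exact zero_mem _⟩
      neg_mem' := by
        rintro a ⟨t, ht, htu, ha⟩
        exact ⟨t, ht, htu, by rw [neg_mul]; exact neg_mem ha⟩ }
  let m := maximalIdeal A
  have h0 : ∀ a, ∃ d ∈ D, a - d ∈ m := fun a => by
    obtain ⟨x, hx, y, hy, ⟨v, rfl⟩, hxy⟩ := hres a
    refine ⟨x * ↑v⁻¹, ⟨v, hy, v.isUnit, by rw [mul_assoc, Units.inv_mul, mul_one]; exact hx⟩, ?_⟩
    rw [← Ideal.mul_unit_mem_iff_mem m v.isUnit, sub_mul, mul_assoc, Units.inv_mul, mul_one]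
    exact hxy
  have hSD : ∀ s ∈ S, s ∈ D := fun s hs =>
    ⟨1, one_mem _, isUnit_one, by rw [mul_one]; exact Algebra.subset_adjoin hs⟩
  have h1 : ∀ y ∈ m, ∃ d ∈ D, y - d ∈ m * m := by
    intro y hy
    obtain ⟨c, hc⟩ := Submodule.mem_span_finset'.1 (hm.ge hy)
    choose d hd hd' using fun t : T => h0 (c t)
    refine ⟨∑ t : T, d t * t, sum_mem fun t _ => mul_mem (hd t) (hSD t (hTS t.2)), ?_⟩
    rw [← hc, ← Finset.sum_sub_distrib]
    refine sum_mem fun t _ => ?_
    rw [smul_eq_mul, ← sub_mul]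
    exact Ideal.mul_mem_mul (hd' t) (hm.le (Ideal.subset_span t.2))
  have h2 : ∀ j, ∀ y ∈ m ^ (j + 1), ∃ d ∈ D, y - d ∈ m ^ (j + 2) := by
    intro j
    induction j with
    | zero => simpa [pow_two] using h1
    | succ j ih =>
      intro y hy
      rw [pow_succ] at hy
      refine Submodule.mul_induction_on hy (fun a ha b hb => ?_) fun a b ha hb => ?_
      · obtain ⟨d, hd, hd'⟩ := ih a ha
        obtain ⟨e, he, he'⟩ := h1 b hb
        have hdm : d ∈ m ^ (j + 1) := by
          simpa using sub_mem ha (Ideal.pow_le_pow_right (by omega) hd')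
        refine ⟨d * e, mul_mem hd he, ?_⟩
        rw [show a * b - d * e = (a - d) * b + d * (b - e) by ring, show j + 1 + 2 = (j + 2) + 1 by ring]
        refine add_mem (by rw [pow_succ]; exact Ideal.mul_mem_mul hd' hb) ?_
        rw [show j + 2 + 1 = (j + 1) + 2 by ring, pow_add, pow_two]
        exact Ideal.mul_mem_mul hdm he'
      · obtain ⟨d, hd, hd'⟩ := ha
        obtain ⟨e, he, he'⟩ := hb
        exact ⟨d + e, add_mem hd he, by rw [add_sub_add_comm]; exact add_mem hd' he'⟩
  obtain ⟨N, hN⟩ := IsArtinianRing.isNilpotent_jacobson_bot (R := A)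
  rw [jacobson_eq_maximalIdeal ⊥ bot_ne_top] at hN
  have h3 : ∀ j, ∀ a, ∃ d ∈ D, a - d ∈ m ^ (j + 1) := by
    intro j
    induction j with
    | zero => simpa using h0
    | succ j ih =>
      intro a
      obtain ⟨d, hd, hd'⟩ := ih a
      obtain ⟨e, he, he'⟩ := h2 j _ hd'
      exact ⟨d + e, add_mem hd he, by rw [← sub_sub]; exact he'⟩
  refine ⟨⟨S, (Algebra.essFiniteType_cond_iff k A S).2 fun a => ?_⟩⟩
  obtain ⟨d, hd, hd'⟩ := h3 N a
  have h4 : a = d := by
    have h5 := Ideal.pow_le_pow_right (Nat.le_succ N) hd'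
    rw [hN, Ideal.zero_eq_bot, Ideal.mem_bot] at h5
    exact sub_eq_zero.1 h5
  exact h4 ▸ hd

theorem module_finite_of_coefficientField {Λ : Type u} [CommRing Λ] [IsLocalRing Λ] [IsArtinianRing Λ]
    [Algebra (ResidueField Λ) Λ] (hσ : ∀ x, residue Λ (algebraMap (ResidueField Λ) Λ x) = x) :
    Module.Finite (ResidueField Λ) Λ := by
  classical
  obtain ⟨N, hN⟩ := IsArtinianRing.isNilpotent_jacobson_bot (R := Λ)
  rw [jacobson_eq_maximalIdeal ⊥ bot_ne_top] at hN
  let m := maximalIdeal Λ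
  suffices h : ∀ i, ∀ j, i + j = N → ∃ W : Submodule (ResidueField Λ) Λ, W.FG ∧ ∀ x ∈ m ^ j, x ∈ W by
    obtain ⟨W, hW, hW'⟩ := h N 0 rfl
    have htop : W = ⊤ := top_le_iff.1 fun x _ => hW' x (by simp)
    exact ⟨htop ▸ hW⟩
  intro i
  induction i with
  | zero =>
    intro j hj
    refine ⟨⊥, Submodule.fg_bot, fun x hx => ?_⟩
    rw [show j = N by omega, hN, Ideal.zero_eq_bot, Ideal.mem_bot] at hx
    simp [hx]
  | succ i ih =>
    intro j hj
    obtain ⟨W, hW, hW'⟩ := ih (j + 1) (by omega)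
    obtain ⟨G, hG⟩ := IsNoetherian.noetherian (R := Λ) (M := Λ) (m ^ j)
    refine ⟨Submodule.span _ (G : Set Λ) ⊔ W, (Submodule.fg_span G.finite_toSet).sup hW, fun x hx => ?_⟩
    rw [← hG] at hx
    obtain ⟨c, hc⟩ := Submodule.mem_span_finset'.1 hx
    rw [← hc]
    refine sum_mem fun g _ => ?_
    rw [smul_eq_mul, show c g * (g : Λ) = residue Λ (c g) • (g : Λ) + (c g - algebraMap _ Λ (residue Λ (c g))) * (g : Λ) by
      rw [Algebra.smul_def]; ring]
    refine add_mem (Submodule.mem_sup_left (Submodule.smul_mem _ _ (Submodule.subset_span g.2)))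
      (Submodule.mem_sup_right (hW' _ ?_))
    rw [pow_succ']
    refine Ideal.mul_mem_mul ?_ (hG.le (Submodule.subset_span g.2))
    rw [← residue_eq_zero_iff, map_sub, hσ, sub_self]

/-- The elements with coordinates in a subfield. -/
def coordSubring {K Λ : Type u} [Field K] [CommRing Λ] [Algebra K Λ] {d : ℕ} (w : Module.Basis (Fin d) K Λ)
    (L : Subfield K) (h1 : ∀ l, w.repr 1 l ∈ L) (hmul : ∀ i j l, w.repr (w i * w j) l ∈ L) : Subring Λ where
  carrier := {x | ∀ l, w.repr x l ∈ L}
  one_mem' := h1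
  zero_mem' := fun l => by simp
  add_mem' := fun {a b} ha hb l => by
    rw [map_add, Finsupp.add_apply]
    exact add_mem (ha l) (hb l)
  neg_mem' := fun {a} ha l => by
    rw [map_neg, Finsupp.neg_apply]
    exact neg_mem (ha l)
  mul_mem' := fun {a b} ha hb l => by
    have h : a * b = ∑ i, ∑ j, (w.repr a i * w.repr b j) • (w i * w j) := by
      conv_lhs => rw [← w.sum_repr a, ← w.sum_repr b]
      simp only [Finset.sum_mul_sum, smul_mul_smul_comm]
    rw [h, map_sum, Finsupp.finsetSum_apply]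
    refine sum_mem fun i _ => ?_
    rw [map_sum, Finsupp.finsetSum_apply]
    refine sum_mem fun j _ => ?_
    rw [map_smul, Finsupp.smul_apply, smul_eq_mul]
    exact mul_mem (mul_mem (ha i) (hb j)) (hmul i j l)

theorem mem_coordSubring {K Λ : Type u} [Field K] [CommRing Λ] [Algebra K Λ] {d : ℕ} (w : Module.Basis (Fin d) K Λ)
    (L : Subfield K) (h1 : ∀ l, w.repr 1 l ∈ L) (hmul : ∀ i j l, w.repr (w i * w j) l ∈ L) (x : Λ) :
    x ∈ coordSubring w L h1 hmul ↔ ∀ l, w.repr x l ∈ L := Iff.rfl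

theorem exists_coord_subalgebra {k Λ : Type u} [Field k] [CommRing Λ] [Algebra k Λ] [IsArtinianRing Λ]
    [IsLocalRing Λ] [Algebra (ResidueField Λ) Λ] (hσ : ∀ x, residue Λ (algebraMap (ResidueField Λ) Λ x) = x)
    (U : Finset k) (hU : ∀ b : k, algebraMap k Λ b ∈
      Subring.closure (algebraMap (ResidueField Λ) Λ '' Set.range (algebraMap k (ResidueField Λ)) ∪
        algebraMap k Λ '' (U : Set k))) (E : Finset Λ) :
    ∃ (d : ℕ) (w : Module.Basis (Fin d) (ResidueField Λ) Λ) (L : IntermediateField k (ResidueField Λ))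
      (C : Finset (ResidueField Λ)) (A : Subalgebra k Λ), L = IntermediateField.adjoin k (C : Set (ResidueField Λ)) ∧
      (∀ x, x ∈ A ↔ ∀ l, w.repr x l ∈ L) ∧ (∀ i, w i ∈ A) ∧ (∀ x ∈ L, algebraMap _ Λ x ∈ A) ∧
      (∀ x ∈ A, residue Λ x ∈ L) ∧ (E : Set Λ) ⊆ A ∧
      ∃ T : Finset Λ, (T : Set Λ) ⊆ A ∧ Ideal.span (T : Set Λ) = maximalIdeal Λ := by
  classical
  let K := ResidueField Λ
  have := module_finite_of_coefficientField hσ
  let w := Module.finBasis K Λ
  obtain ⟨T, hT⟩ := IsNoetherian.noetherian (R := Λ) (M := Λ) (maximalIdeal Λ)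
  let d := Module.finrank K Λ
  let S : Finset Λ := E ∪ T ∪ {1} ∪ U.image (algebraMap k Λ) ∪ (Finset.univ.image fun ij : Fin d × Fin d => w ij.1 * w ij.2)
  let C : Finset K := (S ×ˢ (Finset.univ : Finset (Fin d))).image (fun xl => w.repr xl.1 xl.2) ∪
    Finset.univ.image fun i => residue Λ (w i)
  let L := IntermediateField.adjoin k (C : Set K)
  have hC : ∀ c ∈ C, c ∈ L := fun c hc => IntermediateField.subset_adjoin _ _ hc
  have hS : ∀ x ∈ S, ∀ l, w.repr x l ∈ L := fun x hx l => hC _ (Finset.mem_union_left _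
    (Finset.mem_image.2 ⟨(x, l), Finset.mem_product.2 ⟨hx, Finset.mem_univ _⟩, rfl⟩))
  have h1 : ∀ l, w.repr 1 l ∈ L.toSubfield := hS 1 (by simp [S])
  have hmul : ∀ i j l, w.repr (w i * w j) l ∈ L.toSubfield := fun i j => hS _ (by
    simp only [S, Finset.mem_union, Finset.mem_image, Finset.mem_univ, true_and]
    exact Or.inr ⟨(i, j), rfl⟩)
  let A₀ := coordSubring w L.toSubfield h1 hmul
  have hσA : ∀ x ∈ L, algebraMap K Λ x ∈ A₀ := fun x hx l => by
    rw [Algebra.algebraMap_eq_smul_one, map_smul, Finsupp.smul_apply, smul_eq_mul]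
    exact mul_mem hx (h1 l)
  have hkA : ∀ b : k, algebraMap k Λ b ∈ A₀ := fun b => by
    refine (Subring.closure_le.2 ?_) (hU b)
    rintro _ (⟨_, ⟨c, rfl⟩, rfl⟩ | ⟨c, hc, rfl⟩)
    · exact hσA _ (L.algebraMap_mem c)
    · exact hS _ (by
        simp only [S, Finset.mem_union, Finset.mem_image]
        exact Or.inl (Or.inr ⟨c, hc, rfl⟩))
  let A : Subalgebra k Λ := { A₀ with algebraMap_mem' := hkA }
  refine ⟨d, w, L, C, A, rfl, fun x => Iff.rfl, fun i l => ?_, hσA, fun x hx => ?_, fun x hx => hS x ?_, T,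
    fun x hx => hS x ?_, hT⟩
  · rw [Module.Basis.repr_self, Finsupp.single_apply]
    split_ifs <;> simp
  · rw [← w.sum_repr x, map_sum]
    refine sum_mem fun i _ => ?_
    rw [Algebra.smul_def, map_mul, hσ]
    exact mul_mem (hx i) (hC _ (Finset.mem_union_right _ (Finset.mem_image.2 ⟨i, Finset.mem_univ _, rfl⟩)))
  · simp only [S, Finset.mem_union]
    exact Or.inl (Or.inl (Or.inl (Or.inl hx)))
  · simp only [S, Finset.mem_union]
    exact Or.inl (Or.inl (Or.inl (Or.inr hx)))

theorem exists_artinian_subalgebra {k Λ : Type u} [Field k] [CommRing Λ] [Algebra k Λ] [IsArtinianRing Λ]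
    [IsLocalRing Λ] [Algebra (ResidueField Λ) Λ] (hσ : ∀ x, residue Λ (algebraMap (ResidueField Λ) Λ x) = x)
    (U : Finset k) (hU : ∀ b : k, algebraMap k Λ b ∈
      Subring.closure (algebraMap (ResidueField Λ) Λ '' Set.range (algebraMap k (ResidueField Λ)) ∪
        algebraMap k Λ '' (U : Set k))) (E : Finset Λ) :
    ∃ (A : Subalgebra k Λ) (_ : IsLocalRing A), (↑E : Set Λ) ⊆ A ∧ IsArtinianRing A ∧ Module.Flat A Λ ∧
      Algebra.EssFiniteType k A ∧
      (maximalIdeal A).map (algebraMap A Λ) = maximalIdeal Λ := by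
  classical
  obtain ⟨d, w, L, C, A, hL, hA, hwA, hσA, hres, hEA, T, hTA, hT⟩ := exists_coord_subalgebra hσ U hU E
  let : Algebra L A := ({
    toFun := fun x => ⟨algebraMap (ResidueField Λ) Λ x.1, hσA x.1 x.2⟩
    map_one' := Subtype.ext (map_one (algebraMap (ResidueField Λ) Λ))
    map_mul' := fun x y => Subtype.ext (map_mul (algebraMap (ResidueField Λ) Λ) x.1 y.1)
    map_zero' := Subtype.ext (map_zero (algebraMap (ResidueField Λ) Λ))
    map_add' := fun x y => Subtype.ext (map_add (algebraMap (ResidueField Λ) Λ) x.1 y.1) } : L →+* A).toAlgebra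
  have hsmul : ∀ (c : L) (x : A), ((c • x : A) : Λ) = (c : ResidueField Λ) • (x : Λ) := fun c x => by
    rw [Algebra.smul_def, Algebra.smul_def]; rfl
  let ef : A ≃ₗ[L] (Fin d → L) :=
    { toFun := fun x l => ⟨w.repr x.1 l, (hA x.1).1 x.2 l⟩
      map_add' := fun x y => funext fun l => Subtype.ext (by simp)
      map_smul' := fun c x => funext fun l => Subtype.ext (by
        show w.repr ((c • x : A) : Λ) l = (c : ResidueField Λ) * w.repr x.1 l
        rw [hsmul, map_smul, Finsupp.smul_apply, smul_eq_mul])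
      invFun := fun v => ⟨w.equivFun.symm fun l => (v l).1, (hA _).2 fun l => by
        rw [← Module.Basis.equivFun_apply, LinearEquiv.apply_symm_apply]; exact (v l).2⟩
      left_inv := fun x => Subtype.ext (w.equivFun.symm_apply_apply x.1)
      right_inv := fun v => funext fun l => Subtype.ext (congrFun (w.equivFun.apply_symm_apply fun l => (v l).1) l) }
  let b : Module.Basis (Fin d) L A := .ofEquivFun ef
  have : Module.Finite L A := Module.Finite.of_basis b
  have hart : IsArtinianRing A := IsArtinianRing.of_finite L A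
  have hunit : ∀ a : A, IsUnit (a : Λ) → IsUnit a := fun a ha => by
    have hinj : Function.Injective (LinearMap.mulLeft L a) := fun x y hxy =>
      Subtype.ext (ha.mul_left_cancel (congrArg Subtype.val hxy))
    obtain ⟨y, hy⟩ := LinearMap.surjective_of_injective hinj 1
    exact IsUnit.of_mul_eq_one y hy
  have hmem : ∀ a : A, ¬ IsUnit a ↔ (a : Λ) ∈ maximalIdeal Λ := fun a =>
    ⟨fun h hu => h (hunit a hu), fun h hu => h (hu.map A.val)⟩
  have hloc : IsLocalRing A := by
    refine IsLocalRing.of_nonunits_add fun a b ha hb => ?_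
    show ¬ IsUnit (a + b)
    rw [hmem]
    exact add_mem ((hmem a).1 ha) ((hmem b).1 hb)
  refine ⟨A, hloc, hEA, hart, ?_, ?_, le_antisymm (Ideal.map_le_iff_le_comap.2 fun a ha => (hmem a).1 ha) ?_⟩
  · have : IsScalarTower L A Λ := IsScalarTower.of_algebraMap_eq (R := L) (S := A) (A := Λ) fun x => rfl
    let τ : ResidueField Λ →ₐ[L] Λ := { algebraMap (ResidueField Λ) Λ with commutes' := fun x => rfl }
    let Φ : A ⊗[L] ResidueField Λ →ₐ[A] Λ := Algebra.TensorProduct.lift (Algebra.ofId A Λ) τ fun x y => mul_comm _ _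
    let v := (Module.Free.chooseBasis L (ResidueField Λ))
    suffices hbij : Function.Bijective Φ from
      Module.Flat.of_linearEquiv (AlgEquiv.ofBijective Φ hbij).toLinearEquiv.symm
    let Ψ : Λ →+ A ⊗[L] ResidueField Λ :=
      { toFun := fun x => ∑ l, b l ⊗ₜ[L] w.repr x l
        map_zero' := by simp
        map_add' := fun x y => by simp [TensorProduct.tmul_add, Finset.sum_add_distrib] }
    have hb : ∀ l, (b l : Λ) = w l := fun l => by
      rw [show b l = ef.symm (Pi.single l 1) from congrFun (Module.Basis.coe_ofEquivFun ef) l]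
      show w.equivFun.symm (fun i => ((Pi.single l 1 : Fin d → L) i).1) = _
      rw [show (fun i => ((Pi.single l 1 : Fin d → L) i).1) = Pi.single l 1 from funext fun i => by
        rcases eq_or_ne i l with rfl | hne <;> simp [*]]
      simp
    have h1 : ∀ x, Φ (Ψ x) = x := fun x => by
      show Φ (∑ l, b l ⊗ₜ[L] w.repr x l) = x
      rw [map_sum]
      conv_rhs => rw [← w.sum_repr x]
      refine Finset.sum_congr rfl fun l _ => ?_
      show (b l : Λ) * algebraMap (ResidueField Λ) Λ (w.repr x l) = _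
      rw [hb, mul_comm, ← Algebra.smul_def]
    have h2 : ∀ z, Ψ (Φ z) = z := fun z => by
      induction z using TensorProduct.induction_on with
      | zero => simp
      | add x y hx hy => rw [map_add, map_add, hx, hy]
      | tmul a y =>
        show ∑ l, b l ⊗ₜ[L] w.repr ((a : Λ) * algebraMap (ResidueField Λ) Λ y) l = a ⊗ₜ[L] y
        conv_rhs => rw [← b.sum_repr a, TensorProduct.sum_tmul]
        refine Finset.sum_congr rfl fun l _ => ?_
        rw [TensorProduct.smul_tmul, mul_comm, ← Algebra.smul_def, map_smul, Finsupp.smul_apply, smul_eq_mul]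
        congr 1
        show y * w.repr a.1 l = (b.repr a l : ResidueField Λ) * y
        rw [mul_comm]
        rfl
    exact ⟨Function.LeftInverse.injective h2, Function.RightInverse.surjective h1⟩
  · obtain ⟨G, hG⟩ := IsNoetherian.noetherian (R := A) (M := A) (maximalIdeal A)
    let lift : {c // c ∈ C} → A := fun c =>
      ⟨algebraMap (ResidueField Λ) Λ c.1, hσA _ (hL ▸ IntermediateField.subset_adjoin k _ c.2)⟩
    refine essFiniteType_of_residue (G ∪ Finset.univ.image lift) G Finset.subset_union_left hG fun a => ?_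
    · let B := Algebra.adjoin k ((G ∪ Finset.univ.image lift : Finset A) : Set A)
      let ρ : A →ₐ[k] ResidueField Λ := (IsScalarTower.toAlgHom k Λ _).comp A.val
      have hB : Algebra.adjoin k (C : Set (ResidueField Λ)) ≤ B.map ρ := Algebra.adjoin_le fun c hc =>
        ⟨lift ⟨c, hc⟩, Algebra.subset_adjoin (by simp), hσ c⟩
      obtain ⟨P, hP, Q, hQ, he⟩ := IntermediateField.mem_adjoin_iff_div.1 (hL ▸ hres a a.2)
      by_cases hQ0 : Q = 0
      · rw [hQ0, div_zero] at he
        exact ⟨0, zero_mem _, 1, one_mem _, isUnit_one, by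
          rw [mul_one, sub_zero, IsLocalRing.mem_maximalIdeal, mem_nonunits_iff, hmem]
          exact (residue_eq_zero_iff _).1 he⟩
      · obtain ⟨x, hx, hx'⟩ := hB hP
        obtain ⟨y, hy, hy'⟩ := hB hQ
        refine ⟨x, hx, y, hy, hunit y ?_, ?_⟩
        · exact (residue_ne_zero_iff_isUnit _).1 (show residue Λ y.1 ≠ 0 from fun h => hQ0 (hy'.symm.trans h))
        · rw [IsLocalRing.mem_maximalIdeal, mem_nonunits_iff, hmem, ← residue_eq_zero_iff]
          show residue Λ (a.1 * y.1 - x.1) = 0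
          rw [map_sub, map_mul, he, show residue Λ y.1 = Q from hy', show residue Λ x.1 = P from hx',
            div_mul_cancel₀ _ hQ0, sub_self]
  · rw [← hT, Ideal.span_le]
    intro t ht
    refine Ideal.mem_map_of_mem (algebraMap A Λ) (show (⟨t, hTA ht⟩ : A) ∈ maximalIdeal A from ?_)
    rw [IsLocalRing.mem_maximalIdeal, mem_nonunits_iff, hmem]
    exact hT ▸ Ideal.subset_span ht

end Groth.Agent.Smooth28
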