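import Groth.Agent.Smooth28.Glue
import Groth.Agent.Smooth28.Delocalize
import Mathlib.RingTheory.KrullDimension.Zero
import Mathlib.RingTheory.Spectrum.Prime.RingHom

/-!
Weak delocalization and the case of dimension zero.
-/

namespace Groth.Agent.Smooth28

open TensorProduct

universe u

variable {R A Λ Rₚ Λq : Type u} [CommRing R] [CommRing A] [Algebra R A]
  [Algebra.FinitePresentation R A] [CommRing Λ] [Algebra R Λ] (φ : A →ₐ[R] Λ)
  (𝔮 : Ideal Λ) [𝔮.IsPrime]
  [CommRing Rₚ] [Algebra R Rₚ] [IsLocalization.AtPrime Rₚ (𝔮.comap (algebraMap R Λ))]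
  [CommRing Λq] [Algebra Λ Λq] [IsLocalization.AtPrime Λq 𝔮] [Algebra R Λq] [IsScalarTower R Λ Λq]
  [Algebra Rₚ Λq] [IsScalarTower R Rₚ Λq]

theorem exists_smooth_factor_localization
    (hres : Smoothing.Resolvable Rₚ
      (Algebra.TensorProduct.lift (Algebra.ofId Rₚ Λq) ((IsScalarTower.toAlgHom R Λ Λq).comp φ)
        (fun _ _ => Commute.all _ _) : Rₚ ⊗[R] A →ₐ[Rₚ] Λq) (𝔮.map (algebraMap Λ Λq))) :
    ∃ (E : Type u) (_ : CommRing E) (_ : Algebra R E), Algebra.Smooth R E ∧
      ∃ (g : A →ₐ[R] E) (h : E →ₐ[R] Λq), ∀ x, h (g x) = algebraMap Λ Λq (φ x) := by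
  obtain ⟨B', _, _, hfp, g', h', hgh, -, hnle⟩ := hres
  haveI := hfp
  haveI : IsLocalRing Λq := IsLocalization.AtPrime.isLocalRing Λq 𝔮
  obtain ⟨b, hb, hbu⟩ : ∃ b ∈ Smoothing.singularIdeal Rₚ B', IsUnit (h' b) := by
    by_contra hne
    push Not at hne
    apply hnle
    rw [IsLocalization.AtPrime.map_eq_maximalIdeal 𝔮 Λq, Smoothing.singRad,
      (IsLocalRing.maximalIdeal.isMaximal Λq).isPrime.radical_le_iff, Ideal.map_le_iff_le_comap]
    exact fun b hb => (IsLocalRing.mem_maximalIdeal _).2 (hne b hb)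
  haveI := smooth_away_of_mem_singularIdeal hb
  let Bb := Localization.Away b
  have hu : ∀ y : Submonoid.powers b, IsUnit (h' y) := by
    rintro ⟨_, k, rfl⟩
    rw [map_pow]
    exact hbu.pow k
  let hb' : Bb →ₐ[Rₚ] Λq := IsLocalization.liftAlgHom (f := h') hu
  let inc : Λq →ₐ[R] Rₚ ⊗[R] Λq := Algebra.TensorProduct.includeRight
  let incP : Λq →ₐ[Rₚ] Rₚ ⊗[R] Λq :=
    { inc with
      commutes' := fun x => by
        refine RingHom.congr_fun
          (IsLocalization.ringHom_ext (𝔮.comap (algebraMap R Λ)).primeCompl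
            (j := inc.toRingHom.comp (algebraMap Rₚ Λq)) (k := algebraMap Rₚ (Rₚ ⊗[R] Λq))
            (RingHom.ext fun r => ?_)) x
        show inc (algebraMap Rₚ Λq (algebraMap R Rₚ r)) = algebraMap Rₚ _ (algebraMap R Rₚ r)
        rw [← IsScalarTower.algebraMap_apply, ← IsScalarTower.algebraMap_apply, AlgHom.commutes] }
  let φq : A →ₐ[R] Λq := (IsScalarTower.toAlgHom R Λ Λq).comp φ
  have hkey : ∀ z, hb' (algebraMap B' Bb (g' z)) =
      Algebra.TensorProduct.lift (Algebra.ofId Rₚ Λq) φq (fun _ _ => Commute.all _ _) z := fun z => by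
    rw [← hgh]
    exact IsLocalization.lift_eq (M := Submonoid.powers b) _ (g' z)
  obtain ⟨B, _, _, α, β, hαβ, s, hs, hstd⟩ :=
    exists_elementary_standard_of_smooth φq (𝔮.comap (algebraMap R Λ)).primeCompl
      ((IsScalarTower.toAlgHom Rₚ B' Bb).comp g') (incP.comp hb') (by
        refine Algebra.TensorProduct.ext (AlgHom.ext fun x => ?_) (AlgHom.ext fun x => ?_)
        · show incP (hb' (algebraMap B' Bb (g' (x ⊗ₜ 1)))) = _
          rw [hkey]
          simp only [Algebra.TensorProduct.lift_tmul, map_one, mul_one, Algebra.ofId_apply,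
            AlgHom.commutes]
          simp [Algebra.TensorProduct.algebraMap_apply]
        · show incP (hb' (algebraMap B' Bb (g' (1 ⊗ₜ x)))) = _
          rw [hkey]
          simp only [Algebra.TensorProduct.lift_tmul, map_one, one_mul]
          rfl)
  have hfpB : Algebra.FinitePresentation R B := by
    obtain ⟨P, -, -⟩ := hstd
    exact Algebra.FinitePresentation.of_surjective P.surj
      (P.ker_eq ▸ Submodule.fg_span (Set.finite_range _))
  haveI := hfpB
  haveI := formallySmooth_away_of_isStrictlyStandard (isStrictlyStandard_of_isElementaryStandard hstd)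
    (Localization.Away (algebraMap R B s))
  haveI : Algebra.Smooth R (Localization.Away (algebraMap R B s)) :=
    ⟨inferInstance, Algebra.FinitePresentation.trans R B _⟩
  have hβu : ∀ y : Submonoid.powers (algebraMap R B s), IsUnit (β y) := by
    rintro ⟨_, k, rfl⟩
    rw [map_pow, AlgHom.commutes, IsScalarTower.algebraMap_apply R Rₚ Λq]
    exact ((IsLocalization.map_units Rₚ (⟨s, hs⟩ : (𝔮.comap (algebraMap R Λ)).primeCompl)).map _).pow k
  refine ⟨Localization.Away (algebraMap R B s), inferInstance, inferInstance, inferInstance,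
    (IsScalarTower.toAlgHom R B _).comp α, IsLocalization.liftAlgHom (f := β) hβu, fun x => ?_⟩
  show IsLocalization.lift _ (algebraMap B _ (α x)) = _
  exact (IsLocalization.lift_eq _ (α x)).trans (AlgHom.congr_fun hαβ x)

theorem exists_singular_not_le
    (hres : Smoothing.Resolvable Rₚ
      (Algebra.TensorProduct.lift (Algebra.ofId Rₚ Λq) ((IsScalarTower.toAlgHom R Λ Λq).comp φ)
        (fun _ _ => Commute.all _ _) : Rₚ ⊗[R] A →ₐ[Rₚ] Λq) (𝔮.map (algebraMap Λ Λq))) :
    ∃ (C : Type u) (_ : CommRing C) (_ : Algebra R C), Algebra.FinitePresentation R C ∧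
      ∃ (g : A →ₐ[R] C) (h : C →ₐ[R] Λ), h.comp g = φ ∧
        ¬ (Smoothing.singularIdeal R C).map h ≤ 𝔮 := by
  obtain ⟨E, _, _, _, g, h, hgh⟩ := exists_smooth_factor_localization φ 𝔮 hres
  obtain ⟨B, i1, i2, hfp, α, β, hαβ, hnle, -⟩ :=
    exists_glue φ 𝔮 g h hgh (r := 0) Fin.elim0 (fun i => i.elim0) (fun i => i.elim0)
  exact ⟨B, i1, i2, hfp, α, β, hαβ, hnle⟩

theorem resolvable_of_dim_zero [IsNoetherianRing R]
    (hmin : 𝔮 ∈ (Smoothing.singRad R φ).minimalPrimes) (hdim : ringKrullDim Λq = 0)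
    (hres : Smoothing.Resolvable Rₚ
      (Algebra.TensorProduct.lift (Algebra.ofId Rₚ Λq) ((IsScalarTower.toAlgHom R Λ Λq).comp φ)
        (fun _ _ => Commute.all _ _) : Rₚ ⊗[R] A →ₐ[Rₚ] Λq) (𝔮.map (algebraMap Λ Λq))) :
    Smoothing.Resolvable R φ 𝔮 := by
  obtain ⟨E, _, _, _, g, h, hgh⟩ := exists_smooth_factor_localization φ 𝔮 hres
  haveI : IsNoetherianRing A := Algebra.FiniteType.isNoetherianRing R A
  obtain ⟨r, a, ha⟩ := Submodule.fg_iff_exists_fin_generating_family.1
    (IsNoetherian.noetherian (Smoothing.singularIdeal R A))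
  have haS : ∀ i, a i ∈ Smoothing.singularIdeal R A := fun i =>
    ha ▸ Submodule.subset_span ⟨i, rfl⟩
  haveI : IsLocalRing Λq := IsLocalization.AtPrime.isLocalRing Λq 𝔮
  haveI : Ring.KrullDimLE 0 Λq := Ring.krullDimLE_iff.2 (by rw [hdim]; exact le_rfl)
  obtain ⟨B, i1, i2, hfp, α, β, hαβ, hnle, hrad⟩ :=
    exists_glue φ 𝔮 g h hgh a (fun i => smooth_away_of_mem_singularIdeal (haS i)) fun i => by
      have hq : φ (a i) ∈ 𝔮 := hmin.1.2 (Ideal.le_radical (Ideal.mem_map_of_mem φ (haS i)))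
      have h1 : algebraMap Λ Λq (φ (a i)) ∈ nilradical Λq := by
        rw [Ring.KrullDimLE.nilradical_eq_maximalIdeal,
          ← IsLocalization.AtPrime.map_eq_maximalIdeal 𝔮 Λq]
        exact Ideal.mem_map_of_mem _ hq
      obtain ⟨N, hN⟩ := h1
      rw [← map_pow] at hN
      obtain ⟨t, ht⟩ := (IsLocalization.map_eq_zero_iff 𝔮.primeCompl Λq _).1 hN
      exact ⟨t, N, t.2, ht⟩
  refine ⟨B, i1, i2, hfp, α, β, hαβ, ?_, fun hle => hnle (le_trans Ideal.le_radical hle)⟩
  refine (Ideal.radical_isRadical _).radical_le_iff.2 ?_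
  rw [← ha, Ideal.map_span,
    Ideal.span_le]
  rintro _ ⟨_, ⟨i, rfl⟩, rfl⟩
  exact hrad i

end Groth.Agent.Smooth28
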