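import Groth.Prelude.Def_Smoothing
import Mathlib.RingTheory.TensorProduct.MvPolynomial
import Mathlib.LinearAlgebra.TensorProduct.RightExactness

/-!
Base change of marked presentations.
-/

namespace Groth.Agent.Smooth28

open MvPolynomial TensorProduct

universe u

theorem exists_baseChange {R A R' : Type u} [CommRing R] [CommRing A] [Algebra R A] [CommRing R']
    [Algebra R R'] (P : Smoothing.MarkedPresentation R A) :
    ∃ hom : MvPolynomial (Fin P.n) R' →ₐ[R'] R' ⊗[R] A,
      Function.Surjective hom ∧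
      RingHom.ker hom.toRingHom =
        Ideal.span (Set.range fun j => MvPolynomial.map (algebraMap R R') (P.rel j)) ∧
      ∀ p, hom (MvPolynomial.map (algebraMap R R') p) = (1 : R') ⊗ₜ[R] P.hom p := by
  let e : R' ⊗[R] MvPolynomial (Fin P.n) R ≃ₐ[R'] MvPolynomial (Fin P.n) R' :=
    MvPolynomial.algebraTensorAlgEquiv R R'
  let g : R' ⊗[R] MvPolynomial (Fin P.n) R →ₐ[R'] R' ⊗[R] A :=
    Algebra.TensorProduct.map (AlgHom.id R' R') P.hom
  have hg : Function.Surjective g := fun y => by
    induction y using TensorProduct.induction_on with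
    | zero => exact ⟨0, map_zero g⟩
    | tmul r a =>
      obtain ⟨p, rfl⟩ := P.surj a
      exact ⟨r ⊗ₜ p, by simp [g]⟩
    | add x y hx hy =>
      obtain ⟨x, rfl⟩ := hx
      obtain ⟨y, rfl⟩ := hy
      exact ⟨x + y, map_add g x y⟩
  refine ⟨g.comp e.symm.toAlgHom, hg.comp e.symm.surjective, ?_, fun p => ?_⟩
  · have hk : RingHom.ker (Algebra.TensorProduct.map (AlgHom.id R R') P.hom) =
        Ideal.map (Algebra.TensorProduct.includeRight : MvPolynomial (Fin P.n) R →ₐ[R] _)
          (RingHom.ker P.hom) := Algebra.TensorProduct.lTensor_ker P.hom P.surj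
    have hk' : RingHom.ker g.toRingHom = Ideal.span (Set.range fun j => (1 : R') ⊗ₜ[R] P.rel j) := by
      have : RingHom.ker g.toRingHom = RingHom.ker (Algebra.TensorProduct.map (AlgHom.id R R') P.hom) :=
        rfl
      rw [this, hk, show RingHom.ker P.hom = RingHom.ker P.hom.toRingHom from rfl, P.ker_eq,
        Ideal.map_span, ← Set.range_comp]
      rfl
    have h1 : RingHom.ker (g.comp e.symm.toAlgHom).toRingHom = (RingHom.ker g.toRingHom).map e := by
      ext x
      rw [Ideal.mem_map_iff_of_surjective _ e.surjective]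
      constructor
      · intro hx
        exact ⟨e.symm x, hx, e.apply_symm_apply x⟩
      · rintro ⟨y, hy, rfl⟩
        show g (e.symm (e y)) = 0
        rw [e.symm_apply_apply]
        exact hy
    rw [h1, hk', Ideal.map_span, ← Set.range_comp]
    congr 2
    funext j
    simp [e, Function.comp_def]
  · show g (e.symm _) = _
    simp [e, g]

theorem exists_marked_baseChange {R A R' : Type u} [CommRing R] [CommRing A] [Algebra R A]
    [CommRing R'] [Algebra R R'] (P : Smoothing.MarkedPresentation R A) :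
    ∃ Q : Smoothing.MarkedPresentation R' (R' ⊗[R] A), ∀ a : A,
      (∀ cols : Fin P.c → Fin P.n, ∀ b : A,
        a = b * P.hom (Smoothing.jacobianMinor P.rel (Fin.castLE P.hcm) cols) →
        cols = Fin.castLE P.hcn →
          ∃ a' : R' ⊗[R] A, (1 : R') ⊗ₜ[R] a =
            a' * Q.hom (Smoothing.jacobianMinor Q.rel (Fin.castLE Q.hcm) (Fin.castLE Q.hcn))) ∧
      (a ∈ Ideal.span (Set.range fun cols : Fin P.c → Fin P.n =>
          P.hom (Smoothing.jacobianMinor P.rel (Fin.castLE P.hcm) cols)) →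
        (1 : R') ⊗ₜ[R] a ∈ Ideal.span (Set.range fun cols : Fin Q.c → Fin Q.n =>
          Q.hom (Smoothing.jacobianMinor Q.rel (Fin.castLE Q.hcm) cols))) ∧
      (Smoothing.KillsTail P a → Smoothing.KillsTail Q ((1 : R') ⊗ₜ[R] a)) := by
  obtain ⟨hom, hsurj, hker, hhom⟩ := exists_baseChange (R' := R') P
  let μ := MvPolynomial.map (σ := Fin P.n) (algebraMap R R')
  have hminor : ∀ cols : Fin P.c → Fin P.n,
      hom (Smoothing.jacobianMinor (fun j => μ (P.rel j)) (Fin.castLE P.hcm) cols) =
        (1 : R') ⊗ₜ[R] P.hom (Smoothing.jacobianMinor P.rel (Fin.castLE P.hcm) cols) := by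
    intro cols
    rw [← hhom]
    congr 1
    simp only [Smoothing.jacobianMinor, RingHom.map_det]
    congr 1
    ext1 j k
    simp [μ, pderiv_map]
  refine ⟨⟨P.n, P.m, P.c, P.hcn, P.hcm, fun j => μ (P.rel j), hom, hsurj, hker⟩,
    fun a => ⟨?_, ?_, ?_⟩⟩
  · intro cols b hb hc
    subst hc
    refine ⟨1 ⊗ₜ b, ?_⟩
    show _ = _ * hom (Smoothing.jacobianMinor (fun j => μ (P.rel j)) _ _)
    rw [hminor, Algebra.TensorProduct.tmul_mul_tmul, one_mul, ← hb]
  · intro ha
    have := Ideal.mem_map_of_mem (Algebra.TensorProduct.includeRight : A →ₐ[R] R' ⊗[R] A) ha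
    rw [Ideal.map_span, ← Set.range_comp] at this
    show _ ∈ Ideal.span (Set.range fun cols : Fin P.c → Fin P.n =>
      hom (Smoothing.jacobianMinor (fun j => μ (P.rel j)) _ cols))
    simp only [hminor]
    exact this
  · intro h a₁ ha₁ j hj
    obtain ⟨a', ha'⟩ := P.surj a
    have h1 : (a₁ - μ a') * μ (P.rel j) ∈
        Ideal.span (Set.range fun j => μ (P.rel j)) ^ 2 := by
      rw [pow_two]
      refine Ideal.mul_mem_mul ?_ (Ideal.subset_span ⟨j, rfl⟩)
      rw [← hker]
      show hom _ = 0
      rw [map_sub, show hom a₁ = (1 : R') ⊗ₜ[R] a from ha₁, hhom, ha', sub_self]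
    have h2 := Ideal.mem_map_of_mem μ (h a' ha' j hj)
    rw [Ideal.map_sup, Ideal.map_pow, Ideal.map_span, Ideal.map_span, ← Set.range_comp,
      ← Set.image_comp, map_mul] at h2
    have := add_mem (Ideal.mem_sup_right
      (S := Ideal.span ((fun j => μ (P.rel j)) '' {j' : Fin P.m | (j' : ℕ) < P.c})) h1) h2
    rwa [← add_mul, sub_add_cancel] at this

end Groth.Agent.Smooth28
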