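import Groth.Agent.Smooth28.AtSmooth
import Groth.Agent.Smooth28.Elem
import Mathlib.RingTheory.Smooth.Flat
import Mathlib.RingTheory.Flat.EquationalCriterion
import Mathlib.RingTheory.Polynomial.Basic
import Mathlib.LinearAlgebra.Matrix.SchurComplement
import Mathlib.Algebra.MvPolynomial.PDeriv

/-!
The algebra of the lifting lemma.
-/

namespace Groth.Agent.Smooth28

open MvPolynomial

universe u

theorem isSmoothAt_of_smooth_away {R D : Type u} [CommRing R] [CommRing D] [Algebra R D]
    [Algebra.FinitePresentation R D] (a : D) [Algebra.Smooth R (Localization.Away a)] (Q : Ideal D)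
    [Q.IsPrime] (ha : a ∉ Q) : Algebra.IsSmoothAt R Q :=
  ((Algebra.basicOpen_subset_smoothLocus_iff_smooth (R := R) (f := a)).2 inferInstance
    (show (⟨Q, inferInstance⟩ : PrimeSpectrum D) ∈ PrimeSpectrum.basicOpen a from ha) :)

/-- In a flat algebra the annihilators of `π` and `π²` still agree. -/
theorem flat_torsion {R E : Type*} [CommRing R] [CommRing E] [Algebra R E] [Module.Flat R E] {π : R}
    (hR : ∀ r : R, π ^ 2 * r = 0 → π * r = 0) {e : E} (he : algebraMap R E (π ^ 2) * e = 0) :
    algebraMap R E π * e = 0 := by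
  obtain ⟨k, a, y, hy, ha⟩ := Module.Flat.isTrivialRelation_of_sum_smul_eq_zero
    (ι := Fin 1) (f := fun _ => π ^ 2) (x := fun _ => e) (by simpa [Algebra.smul_def] using he)
  have hsum : e = ∑ j, a 0 j • y j := hy 0
  rw [hsum, Finset.mul_sum]
  refine Finset.sum_eq_zero fun j _ => ?_
  have h1 : π * a 0 j = 0 := hR _ (by simpa using ha j)
  rw [Algebra.smul_def, ← mul_assoc, ← map_mul, h1, map_zero, zero_mul]

theorem algHom_C {R A : Type*} [CommRing R] [CommRing A] [Algebra R A] {σ : Type*}
    (F : MvPolynomial σ R →ₐ[R] A) (r : R) : F (MvPolynomial.C r) = algebraMap R A r := F.commutes r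

theorem pow_succ_eq_neg_pow {A : Type*} [CommRing A] (x : A) (m : ℕ) :
    x ^ (m + 1) = (-x) ^ m * ((-1) ^ m * x) := by
  rw [← mul_assoc, ← mul_pow, neg_mul_neg, mul_one, pow_succ]

theorem map_comb_eq_zero {R A B : Type*} [CommRing R] [CommRing A] [CommRing B] [Algebra R A]
    [Algebra R B] (F : A →ₐ[R] B) {m : ℕ}
    (b f : Fin m → A) (c h : A) (h1 : ∀ j, F (f j) = 0) (h2 : F c = 0) :
    F (∑ j, b j * f j + c * h) = 0 := by
  simp [h1, h2]

variable {R : Type u} [CommRing R] {n m : ℕ}

/-- The lift `f j - π z j` of an equation. -/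
noncomputable def liftRel (π : R) (f : Fin m → (MvPolynomial (Fin n) R)) (j : Fin m) : (MvPolynomial (Fin (n + m)) R) :=
  rename (Fin.castAdd m) (f j) - MvPolynomial.C π * X (Fin.natAdd n j)

/-- The equation attached to a relation among the lifted equations. -/
noncomputable def liftGen (π : R) (r : Fin m → (MvPolynomial (Fin n) R)) (h : (MvPolynomial (Fin n) R)) : (MvPolynomial (Fin (n + m)) R) :=
  ∑ j, rename (Fin.castAdd m) (r j) * X (Fin.natAdd n j) -
    MvPolynomial.C π * rename (Fin.castAdd m) h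

/-- The ideal of the lifting. -/
noncomputable def liftIdeal (π : R) (f : Fin m → (MvPolynomial (Fin n) R)) : Ideal (MvPolynomial (Fin (n + m)) R) :=
  Ideal.span (Set.range (liftRel π f) ∪
    {x | ∃ r h, ∑ j, r j * f j = MvPolynomial.C (π ^ 2) * h ∧ x = liftGen π r h})

theorem liftRel_mem (π : R) (f : Fin m → (MvPolynomial (Fin n) R)) (j : Fin m) : liftRel π f j ∈ liftIdeal π f :=
  Ideal.subset_span (Or.inl ⟨j, rfl⟩)

theorem liftGen_mem {π : R} {f : Fin m → (MvPolynomial (Fin n) R)} {r : Fin m → (MvPolynomial (Fin n) R)} {h : (MvPolynomial (Fin n) R)}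
    (hr : ∑ j, r j * f j = MvPolynomial.C (π ^ 2) * h) : liftGen π r h ∈ liftIdeal π f :=
  Ideal.subset_span (Or.inr ⟨r, h, hr, rfl⟩)

theorem liftIdeal_le {π : R} {f : Fin m → (MvPolynomial (Fin n) R)} {I : Ideal (MvPolynomial (Fin (n + m)) R)} (h1 : ∀ j, liftRel π f j ∈ I)
    (h2 : ∀ r h, ∑ j, r j * f j = MvPolynomial.C (π ^ 2) * h → liftGen π r h ∈ I) :
    liftIdeal π f ≤ I := by
  refine Ideal.span_le.2 ?_
  rintro _ (⟨j, rfl⟩ | ⟨r, h, hr, rfl⟩)
  exacts [h1 j, h2 r h hr]

theorem pderiv_natAdd_rename (p : (MvPolynomial (Fin n) R)) (j : Fin m) :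
    pderiv (Fin.natAdd n j) (rename (Fin.castAdd m) p) = 0 :=
  pderiv_eq_zero_of_notMem_vars fun hmem => by
    have := vars_rename (Fin.castAdd m) p hmem
    simp [Fin.ext_iff] at this
    obtain ⟨i, -, hi⟩ := this
    omega

theorem C_mul_liftIdeal_le (π : R) (f : Fin m → (MvPolynomial (Fin n) R)) {x : (MvPolynomial (Fin (n + m)) R)} (hx : x ∈ liftIdeal π f) :
    MvPolynomial.C π * x ∈ Ideal.span (Set.range (liftRel π f)) := by
  have key : liftIdeal π f ≤ Submodule.comap (LinearMap.mulLeft (MvPolynomial (Fin (n + m)) R) (MvPolynomial.C π))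
      (Ideal.span (Set.range (liftRel π f))) := by
    refine liftIdeal_le (I := Submodule.comap (LinearMap.mulLeft (MvPolynomial (Fin (n + m)) R) (MvPolynomial.C π)) (Ideal.span (Set.range (liftRel π f)))) (fun j => show MvPolynomial.C π * liftRel π f j ∈ Ideal.span (Set.range (liftRel π f)) from Ideal.mul_mem_left _ _ (Ideal.subset_span ⟨j, rfl⟩)) fun r h hr => ?_
    show MvPolynomial.C π * liftGen π r h ∈ Ideal.span (Set.range (liftRel π f))
    have h1 : MvPolynomial.C π * liftGen π r h =
        -∑ j, rename (Fin.castAdd m) (r j) * liftRel π f j := by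
      have h2 := congrArg (rename (R := R) (Fin.castAdd m)) hr
      simp only [map_sum, map_mul, map_pow, rename_C] at h2
      simp only [liftGen, liftRel, mul_sub, Finset.mul_sum, Finset.sum_sub_distrib, neg_sub]
      rw [show ∑ j, rename (Fin.castAdd m) (r j) * rename (Fin.castAdd m) (f j) = _ from h2]
      simp only [pow_two, mul_assoc]
      congr 1
      exact Finset.sum_congr rfl fun j _ => mul_left_comm _ _ _
    rw [h1]
    exact neg_mem (Submodule.sum_mem _ fun j _ => Ideal.mul_mem_left _ _ (Ideal.subset_span ⟨j, rfl⟩))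
  exact key hx

instance [IsNoetherianRing R] (π : R) (f : Fin m → (MvPolynomial (Fin n) R)) :
    Algebra.FinitePresentation R ((MvPolynomial (Fin (n + m)) R) ⧸ liftIdeal π f) :=
  Algebra.FinitePresentation.quotient (IsNoetherian.noetherian _)

theorem lift_smooth_away_pi [IsNoetherianRing R] (π : R) (f : Fin m → (MvPolynomial (Fin n) R))
    (Q : Ideal ((MvPolynomial (Fin (n + m)) R) ⧸ liftIdeal π f)) [Q.IsPrime]
    (hπQ : algebraMap R ((MvPolynomial (Fin (n + m)) R) ⧸ liftIdeal π f) π ∉ Q) : Algebra.IsSmoothAt R Q := by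
  obtain ⟨l, L', hL'⟩ := Submodule.fg_iff_exists_fin_generating_family.1
    (IsNoetherian.noetherian (liftIdeal π f))
  let L : Fin (m + l) → (MvPolynomial (Fin (n + m)) R) := Fin.append (liftRel π f) L'
  let mkD : (MvPolynomial (Fin (n + m)) R) →ₐ[R] ((MvPolynomial (Fin (n + m)) R) ⧸ liftIdeal π f) := Ideal.Quotient.mkₐ R _
  have hker : RingHom.ker mkD.toRingHom = Ideal.span (Set.range L) := by
    refine le_antisymm (fun x hx => ?_) (Ideal.span_le.2 ?_)
    · have hx' : x ∈ Submodule.span (MvPolynomial (Fin (n + m)) R) (Set.range L') := hL'.symm ▸ Ideal.Quotient.eq_zero_iff_mem.1 hx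
      exact Submodule.span_mono (by rintro _ ⟨i, rfl⟩; exact ⟨Fin.natAdd m i, Fin.append_right _ _ _⟩) hx'
    · rintro _ ⟨i, rfl⟩
      refine Ideal.Quotient.eq_zero_iff_mem.2 ?_
      induction i using Fin.addCases with
      | left j => simp only [L, Fin.append_left]; exact liftRel_mem π f j
      | right t => simp only [L, Fin.append_right]; exact hL' ▸ Submodule.subset_span ⟨t, rfl⟩
  let rows : Fin m → Fin (m + l) := Fin.castAdd l
  let cols : Fin m → Fin (n + m) := Fin.natAdd n
  let aπ : ((MvPolynomial (Fin (n + m)) R) ⧸ liftIdeal π f) := algebraMap R ((MvPolynomial (Fin (n + m)) R) ⧸ liftIdeal π f) π ^ (m + 1)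
  have hminor : Smoothing.jacobianMinor L rows cols = (-MvPolynomial.C π) ^ m := by
    rw [Smoothing.jacobianMinor]
    have : (Matrix.of fun j k : Fin m => pderiv (cols k) (L (rows j))) =
        Matrix.diagonal fun _ => -MvPolynomial.C π := by
      ext1 j k
      simp only [Matrix.of_apply, rows, cols, L, Fin.append_left, liftRel, map_sub,
        pderiv_natAdd_rename, zero_sub, pderiv_C_mul]
      rcases eq_or_ne j k with rfl | hjk
      · simp
      · rw [pderiv_X_of_ne ((Fin.natAdd_injective m n).ne hjk), mul_zero, neg_zero,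
          Matrix.diagonal_apply_ne _ hjk]
    rw [this, Matrix.det_diagonal, Finset.prod_const, Finset.card_univ, Fintype.card_fin]
  have htail : ∀ x, mkD x = 0 → MvPolynomial.C π ^ (m + 1) * x ∈
      Ideal.span (Set.range (L ∘ rows)) ⊔ RingHom.ker mkD.toRingHom ^ 2 := by
    intro x hx
    refine Ideal.mem_sup_left ?_
    rw [show L ∘ rows = liftRel π f from funext fun j => Fin.append_left _ _ j, pow_succ, mul_assoc]
    exact Ideal.mul_mem_left _ _ (C_mul_liftIdeal_le π f (Ideal.Quotient.eq_zero_iff_mem.1 hx))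
  let T := Localization.Away aπ
  haveI : Algebra.IsStandardSmooth R T :=
    isStandardSmooth_of_data mkD Ideal.Quotient.mk_surjective L hker rows cols
      (Fin.natAdd_injective _ _) aπ ⟨(-1) ^ m * algebraMap R ((MvPolynomial (Fin (n + m)) R) ⧸ liftIdeal π f) π, by
        rw [hminor, map_pow, map_neg, algHom_C]
        exact pow_succ_eq_neg_pow _ m⟩
      (MvPolynomial.C π ^ (m + 1)) (by rw [map_pow, algHom_C]) htail T
  haveI : Algebra.Smooth R T := inferInstance
  exact isSmoothAt_of_smooth_away aπ Q fun h => hπQ (Ideal.IsPrime.mem_of_pow_mem ‹_› _ h)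

end Groth.Agent.Smooth28
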