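import Groth.Agent.Smooth28.Retract
import Groth.Agent.Smooth28.LiftingDefs
import Groth.Agent.Smooth28.Singular

/-!
Spreading a smooth factorization through a localization.
-/

namespace Groth.Agent.Smooth28

open MvPolynomial

universe u

/-- Homogenisation. -/
theorem exists_homogenization {R : Type u} [CommRing R] {n : ℕ} (p : MvPolynomial (Fin n) R) :
    ∃ (N : ℕ) (P' : MvPolynomial (Fin n ⊕ Unit) R), ∀ (S : Type u) [CommRing S] [Algebra R S]
      (y : Fin n → S) (z : S),
      aeval (Sum.elim (fun i => z * y i) fun (_ : Unit) => z) P' = z ^ N * aeval y p := by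
  induction p using MvPolynomial.induction_on with
  | C r => exact ⟨0, MvPolynomial.C r, fun S _ _ y z => by simp⟩
  | add p q hp hq =>
    obtain ⟨N, P', hP⟩ := hp
    obtain ⟨M, Q', hQ⟩ := hq
    exact ⟨N + M, X (Sum.inr ()) ^ M * P' + X (Sum.inr ()) ^ N * Q', fun S _ _ y z => by
      simp only [map_add, map_mul, map_pow, aeval_X, Sum.elim_inr, hP, hQ, pow_add]; ring⟩
  | mul_X p i hp =>
    obtain ⟨N, P', hP⟩ := hp
    exact ⟨N + 1, P' * X (Sum.inl i), fun S _ _ y z => by
      simp only [map_mul, aeval_X, Sum.elim_inl, hP, pow_succ]; ring⟩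

theorem mem_singularIdeal_of_formallySmooth_away {R B : Type u} [CommRing R] [CommRing B]
    [Algebra R B] [Algebra.FinitePresentation R B] (e : B)
    [Algebra.FormallySmooth R (Localization.Away e)] : e ∈ Smoothing.singularIdeal R B := by
  haveI : Algebra.Smooth R (Localization.Away e) :=
    ⟨inferInstance, Algebra.FinitePresentation.trans R B (Localization.Away e)⟩
  rw [Smoothing.singularIdeal, PrimeSpectrum.mem_vanishingIdeal]
  intro p hp
  by_contra h
  exact hp ((Algebra.basicOpen_subset_smoothLocus_iff_smooth (R := R) (f := e)).2 inferInstance h)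

theorem smooth_away_of_mem_singularIdeal {R B : Type u} [CommRing R] [CommRing B]
    [Algebra R B] [Algebra.FinitePresentation R B] {e : B} (he : e ∈ Smoothing.singularIdeal R B) :
    Algebra.Smooth R (Localization.Away e) := by
  refine (Algebra.basicOpen_subset_smoothLocus_iff_smooth (R := R) (f := e)).1 ?_
  intro p hp
  by_contra hns
  exact hp ((PrimeSpectrum.mem_vanishingIdeal _ _).1 he p hns)

section

variable {R A : Type u} [CommRing R] [CommRing A] [Algebra R A]

theorem retract_ext {A B T : Type u} {σ : Type*} [CommRing A] [CommRing B] [CommRing T]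
    [Algebra R A] [Algebra R B] [Algebra R T] [Algebra B T] [Algebra A T]
    (mkB : MvPolynomial σ A →+* B) (hmk : Function.Surjective mkB) (e : B) [IsLocalization.Away e T]
    (F : T →+* T) (hC : ∀ a, F (algebraMap B T (mkB (MvPolynomial.C a))) = algebraMap B T (mkB (MvPolynomial.C a)))
    (hX : ∀ i, F (algebraMap B T (mkB (X i))) = algebraMap B T (mkB (X i))) :
    F = RingHom.id T := by
  refine IsLocalization.ringHom_ext (Submonoid.powers e) (RingHom.ext fun b => ?_)
  obtain ⟨p, rfl⟩ := hmk b
  have h : (F.comp (algebraMap B T)).comp mkB = (algebraMap B T).comp mkB :=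
    MvPolynomial.ringHom_ext hC hX
  exact RingHom.congr_fun h p

/-- The index type of the variables of the glued algebra. -/
abbrev GlueVar (n r : ℕ) := Fin n ⊕ (Bool ⊕ Fin r)

variable {n r : ℕ}

/-- Substitution of the variables `x` and `z` in a homogenised polynomial. -/
noncomputable def glueHom (P' : MvPolynomial (Fin n ⊕ Unit) R) : MvPolynomial (GlueVar n r) A :=
  aeval (Sum.elim (fun i => X (Sum.inl i)) fun (_ : Unit) => X (Sum.inr (Sum.inl false))) P'

theorem aeval_glueHom {T : Type u} [CommRing T] [Algebra R T] [Algebra A T] [IsScalarTower R A T]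
    (v : GlueVar n r → T) (P' : MvPolynomial (Fin n ⊕ Unit) R) :
    aeval v (glueHom (A := A) (r := r) P') =
      aeval (Sum.elim (fun i => v (Sum.inl i)) fun (_ : Unit) => v (Sum.inr (Sum.inl false))) P' := by
  have h : ((aeval v : MvPolynomial (GlueVar n r) A →ₐ[A] T).restrictScalars R).comp
      (aeval (Sum.elim (fun i => X (Sum.inl i)) fun (_ : Unit) => X (Sum.inr (Sum.inl false)))) =
      aeval (Sum.elim (fun i => v (Sum.inl i)) fun (_ : Unit) => v (Sum.inr (Sum.inl false))) :=
    MvPolynomial.algHom_ext fun i => by rcases i with i | i <;> simp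
  exact AlgHom.congr_fun h P'

end

set_option maxHeartbeats 1000000 in
theorem exists_glue {R A Λ Λq E : Type u} [CommRing R] [CommRing A] [Algebra R A]
    [Algebra.FinitePresentation R A] [CommRing Λ] [Algebra R Λ] (φ : A →ₐ[R] Λ)
    (𝔮 : Ideal Λ) [𝔮.IsPrime] [CommRing Λq] [Algebra Λ Λq] [IsLocalization.AtPrime Λq 𝔮]
    [Algebra R Λq] [IsScalarTower R Λ Λq] [CommRing E] [Algebra R E] [Algebra.Smooth R E]
    (g : A →ₐ[R] E) (h : E →ₐ[R] Λq) (hgh : ∀ x, h (g x) = algebraMap Λ Λq (φ x))
    {r : ℕ} (a : Fin r → A) (ha : ∀ i, Algebra.Smooth R (Localization.Away (a i)))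
    (hnil : ∀ i, ∃ (t : Λ) (N : ℕ), t ∉ 𝔮 ∧ t * φ (a i) ^ N = 0) :
    ∃ (B : Type u) (_ : CommRing B) (_ : Algebra R B), Algebra.FinitePresentation R B ∧
      ∃ (α : A →ₐ[R] B) (β : B →ₐ[R] Λ), β.comp α = φ ∧
        ¬ (Smoothing.singularIdeal R B).map β ≤ 𝔮 ∧ ∀ i, φ (a i) ∈ Smoothing.singRad R β := by
  classical
  obtain ⟨n, ρE, hρE, hkE⟩ := (inferInstance : Algebra.FinitePresentation R E).out
  obtain ⟨l, f, hf⟩ := Submodule.fg_iff_exists_fin_generating_family.1 hkE
  obtain ⟨m, ρA, hρA, -⟩ := (inferInstance : Algebra.FinitePresentation R A).out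
  choose p hp using fun k => hρE (g (ρA (X k)))
  choose Nf Pf hPf using fun j => exists_homogenization (f j)
  choose Np Pp hPp using fun k => exists_homogenization (p k)
  choose t N htq htN using hnil
  have hfj : ∀ j, ρE (f j) = 0 := fun j =>
    show f j ∈ RingHom.ker ρE.toRingHom from hf ▸ Submodule.subset_span ⟨j, rfl⟩
  have hρEval : ρE = aeval fun i => ρE (X i) := MvPolynomial.algHom_ext fun i => by simp
  -- the algebra
  let xv : Fin n → MvPolynomial (GlueVar n r) A := fun i => X (Sum.inl i)
  let zv : MvPolynomial (GlueVar n r) A := X (Sum.inr (Sum.inl false))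
  let wv : MvPolynomial (GlueVar n r) A := X (Sum.inr (Sum.inl true))
  let uv : Fin r → MvPolynomial (GlueVar n r) A := fun i => X (Sum.inr (Sum.inr i))
  let rels : Fin l ⊕ (Fin m ⊕ Fin r) → MvPolynomial (GlueVar n r) A := Sum.elim
    (fun j => zv * wv * glueHom (Pf j)) (Sum.elim
      (fun k => zv * wv * (zv ^ Np k * MvPolynomial.C (ρA (X k)) - glueHom (Pp k)))
      fun i => zv * (MvPolynomial.C (a i ^ N i) - uv i))
  let K : Ideal (MvPolynomial (GlueVar n r) A) := Ideal.span (Set.range rels)
  let B := MvPolynomial (GlueVar n r) A ⧸ K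
  let mkB : MvPolynomial (GlueVar n r) A →ₐ[A] B := Ideal.Quotient.mkₐ A K
  haveI : Algebra.FinitePresentation A B :=
    Algebra.FinitePresentation.quotient (Submodule.fg_span (Set.finite_range _))
  haveI hfpB : Algebra.FinitePresentation R B := Algebra.FinitePresentation.trans R A B
  have hrels : ∀ i, mkB (rels i) = 0 := fun i =>
    Ideal.Quotient.eq_zero_iff_mem.2 (Ideal.subset_span ⟨i, rfl⟩)
  -- the point
  letI : Algebra A Λ := φ.toRingHom.toAlgebra
  haveI : IsScalarTower R A Λ := IsScalarTower.of_algebraMap_eq fun x => (φ.commutes x).symm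
  obtain ⟨μ0, hμ0⟩ := IsLocalization.exist_integer_multiples 𝔮.primeCompl Finset.univ
    fun i => h (ρE (X i))
  choose lam0 hlam0 using fun i => hμ0 i (Finset.mem_univ i)
  let tt : Λ := ∏ i, t i
  have httq : tt ∉ 𝔮 := 𝔮.primeCompl.prod_mem (fun i _ => htq i)
  let μ : Λ := μ0 * tt
  let lam : Fin n → Λ := fun i => lam0 i * tt
  have hμq : μ ∉ 𝔮 := fun hm => (‹𝔮.IsPrime›.mem_or_mem hm).elim μ0.2 httq
  have hlam : ∀ i, algebraMap Λ Λq (lam i) = algebraMap Λ Λq μ * h (ρE (X i)) := fun i => by
    simp only [lam, μ, map_mul, hlam0 i, Algebra.smul_def]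
    ring
  have hhom : ∀ (p : MvPolynomial (Fin n) R) (M : ℕ) (P' : MvPolynomial (Fin n ⊕ Unit) R),
      (∀ (S : Type u) [CommRing S] [Algebra R S] (y : Fin n → S) (z : S),
        aeval (Sum.elim (fun i => z * y i) fun (_ : Unit) => z) P' = z ^ M * aeval y p) →
      algebraMap Λ Λq (aeval (Sum.elim lam fun (_ : Unit) => μ) P') =
        algebraMap Λ Λq μ ^ M * h (ρE p) := by
    intro p M P' hP'
    have h2 : (IsScalarTower.toAlgHom R Λ Λq).comp (aeval (Sum.elim lam fun (_ : Unit) => μ)) =
        aeval (Sum.elim (fun i => algebraMap Λ Λq μ * h (ρE (X i))) fun (_ : Unit) => algebraMap Λ Λq μ) :=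
      MvPolynomial.algHom_ext fun i => by rcases i with i | i <;> simp [hlam]
    have h3 : h.comp ρE = aeval fun i => h (ρE (X i)) :=
      MvPolynomial.algHom_ext fun i => by simp
    rw [show h (ρE p) = aeval (fun i => h (ρE (X i))) p from AlgHom.congr_fun h3 p, ← hP']
    exact AlgHom.congr_fun h2 P'
  have hz1 : ∀ j, ∃ s : 𝔮.primeCompl, (s : Λ) * aeval (Sum.elim lam fun (_ : Unit) => μ) (Pf j) = 0 :=
    fun j => (IsLocalization.map_eq_zero_iff 𝔮.primeCompl Λq _).1 (by
      rw [hhom (f j) (Nf j) (Pf j) (hPf j), hfj, map_zero, mul_zero])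
  have hz2 : ∀ k, ∃ s : 𝔮.primeCompl,
      (s : Λ) * (μ ^ Np k * φ (ρA (X k)) - aeval (Sum.elim lam fun (_ : Unit) => μ) (Pp k)) = 0 :=
    fun k => (IsLocalization.map_eq_zero_iff 𝔮.primeCompl Λq _).1 (by
      rw [map_sub, hhom (p k) (Np k) (Pp k) (hPp k), hp, hgh, map_mul, map_pow, sub_self])
  choose s1 hs1 using hz1
  choose s2 hs2 using hz2
  let ν : Λ := (∏ j, (s1 j : Λ)) * ∏ k, (s2 k : Λ)
  have hνq : ν ∉ 𝔮 := 𝔮.primeCompl.mul_mem (𝔮.primeCompl.prod_mem fun j _ => (s1 j).2)
    (𝔮.primeCompl.prod_mem fun k _ => (s2 k).2)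
  let val : GlueVar n r → Λ :=
    Sum.elim lam (Sum.elim (fun b => if b then ν else μ) fun _ => 0)
  let pt : MvPolynomial (GlueVar n r) A →ₐ[A] Λ := aeval val
  have hptz : pt zv = μ := by simp [pt, zv, val]
  have hptw : pt wv = ν := by simp [pt, wv, val]
  have hptu : ∀ i, pt (uv i) = 0 := fun i => by simp [pt, uv, val]
  have hptC : ∀ x, pt (MvPolynomial.C x) = φ x := fun x => pt.commutes x
  have hptg : ∀ P', pt (glueHom P') = aeval (Sum.elim lam fun (_ : Unit) => μ) P' := fun P' => by
    rw [aeval_glueHom (R := R)]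
    simp only [val, Sum.elim_inl, Sum.elim_inr]
    rfl
  have hptK : ∀ x ∈ K, pt x = 0 := by
    intro x hx
    refine (Ideal.span_le.2 ?_ : K ≤ RingHom.ker pt.toRingHom) hx
    rintro _ ⟨i, rfl⟩
    show pt (rels i) = 0
    rcases i with j | k | i
    · simp only [rels, Sum.elim_inl, map_mul, hptz, hptw, hptg, ν]
      rw [← Finset.prod_erase_mul _ _ (Finset.mem_univ j)]
      linear_combination (μ * (∏ x ∈ Finset.univ.erase j, (s1 x : Λ)) * ∏ k, (s2 k : Λ)) * hs1 j
    · simp only [rels, Sum.elim_inr, Sum.elim_inl, map_mul, map_sub, map_pow, hptz, hptw, hptg,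
        hptC, ν]
      rw [← Finset.prod_erase_mul _ (fun k => (s2 k : Λ)) (Finset.mem_univ k)]
      linear_combination (μ * (∏ j, (s1 j : Λ)) * ∏ x ∈ Finset.univ.erase k, (s2 x : Λ)) * hs2 k
    · simp only [rels, Sum.elim_inr, map_mul, map_sub, map_pow, hptz, hptC, hptu, sub_zero, μ, tt]
      rw [← Finset.prod_erase_mul _ t (Finset.mem_univ i)]
      linear_combination ((μ0 : Λ) * ∏ x ∈ Finset.univ.erase i, t x) * htN i
  let βA : B →ₐ[A] Λ := Ideal.Quotient.liftₐ K pt hptK
  refine ⟨B, inferInstance, inferInstance, hfpB, IsScalarTower.toAlgHom R A B,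
    βA.restrictScalars R, AlgHom.ext fun x => βA.commutes x, ?_, ?_⟩
  · -- smoothness where `z w` is invertible
    let e : B := mkB (zv * wv)
    suffices he : e ∈ Smoothing.singularIdeal R B by
      intro hle
      have h1 : pt (zv * wv) ∈ 𝔮 := hle (Ideal.mem_map_of_mem (βA.restrictScalars R) he)
      rw [map_mul, hptz, hptw] at h1
      exact (‹𝔮.IsPrime›.mem_or_mem h1).elim hμq hνq
    letI : Algebra A E := g.toRingHom.toAlgebra
    haveI : IsScalarTower R A E := IsScalarTower.of_algebraMap_eq fun x => (g.commutes x).symm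
    let d : MvPolynomial Bool E := X false * X true
    let S := Localization.Away d
    haveI : Algebra.FormallySmooth R (MvPolynomial Bool E) :=
      Algebra.FormallySmooth.comp R E (MvPolynomial Bool E)
    haveI : Algebra.FormallySmooth R S := inferInstance
    let Zs : Bool → S := fun b => algebraMap (MvPolynomial Bool E) S (X b)
    let cE : E →ₐ[R] S := IsScalarTower.toAlgHom R E S
    let sv : GlueVar n r → S := Sum.elim (fun i => Zs false * cE (ρE (X i)))
      (Sum.elim Zs fun i => algebraMap A S (a i ^ N i))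
    let s0 : MvPolynomial (GlueVar n r) A →ₐ[A] S := aeval sv
    have hcA : ∀ x, algebraMap A S x = cE (g x) := fun x =>
      IsScalarTower.algebraMap_apply A E S x
    have hs0g : ∀ (p : MvPolynomial (Fin n) R) (M : ℕ) (P' : MvPolynomial (Fin n ⊕ Unit) R),
        (∀ (S : Type u) [CommRing S] [Algebra R S] (y : Fin n → S) (z : S),
          aeval (Sum.elim (fun i => z * y i) fun (_ : Unit) => z) P' = z ^ M * aeval y p) →
        s0 (glueHom P') = Zs false ^ M * cE (ρE p) := by
      intro p M P' hP'
      have h3 : cE.comp ρE = aeval fun i => cE (ρE (X i)) :=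
        MvPolynomial.algHom_ext fun i => by simp
      rw [aeval_glueHom (R := R), show cE (ρE p) = aeval (fun i => cE (ρE (X i))) p from
        AlgHom.congr_fun h3 p, ← hP']
      rfl
    have hs0z : s0 zv = Zs false := aeval_X _ _
    have hs0w : s0 wv = Zs true := aeval_X _ _
    have hs0u : ∀ i, s0 (uv i) = algebraMap A S (a i ^ N i) := fun i => aeval_X _ _
    have hs0C : ∀ x, s0 (MvPolynomial.C x) = algebraMap A S x := fun x => s0.commutes x
    have hs0K : ∀ x ∈ K, s0 x = 0 := by
      intro x hx
      refine (Ideal.span_le.2 ?_ : K ≤ RingHom.ker s0.toRingHom) hx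
      rintro _ ⟨i, rfl⟩
      show s0 (rels i) = 0
      rcases i with j | k | i
      · simp only [rels, Sum.elim_inl, map_mul, hs0g (f j) (Nf j) (Pf j) (hPf j), hfj, map_zero,
          mul_zero]
      · simp only [rels, Sum.elim_inr, Sum.elim_inl, map_mul, map_sub, map_pow,
          hs0g (p k) (Np k) (Pp k) (hPp k), hs0z, hs0C, hp, hcA, sub_self, mul_zero]
      · simp only [rels, Sum.elim_inr, map_mul, map_sub, hs0u, hs0C, sub_self, mul_zero]
    let s1' : B →ₐ[A] S := Ideal.Quotient.liftₐ K s0 hs0K
    let T := Localization.Away e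
    have hs1u : ∀ y : Submonoid.powers e, IsUnit ((s1'.restrictScalars R) y) := by
      rintro ⟨_, k, rfl⟩
      rw [map_pow]
      refine IsUnit.pow k ?_
      show IsUnit (s0 (zv * wv))
      rw [map_mul, hs0z, hs0w]
      simp only [Zs, ← map_mul]
      exact IsLocalization.Away.algebraMap_isUnit d
    let sT : T →ₐ[R] S := IsLocalization.liftAlgHom (f := s1'.restrictScalars R) hs1u
    -- the map back
    let q : MvPolynomial (GlueVar n r) A →ₐ[A] T := (IsScalarTower.toAlgHom A B T).comp mkB
    have hq0 : ∀ i, q (rels i) = 0 := fun i => by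
      show algebraMap B T (mkB (rels i)) = 0
      rw [hrels, map_zero]
    have hqzw : IsUnit (q zv * q wv) := by
      rw [← map_mul]; exact IsLocalization.Away.algebraMap_isUnit e
    obtain ⟨hqz, hqw⟩ := IsUnit.mul_iff.1 hqzw
    obtain ⟨v, hv⟩ := hqz.exists_left_inv
    let y : Fin n → T := fun i => v * q (xv i)
    have hqg : ∀ (p : MvPolynomial (Fin n) R) (M : ℕ) (P' : MvPolynomial (Fin n ⊕ Unit) R),
        (∀ (S : Type u) [CommRing S] [Algebra R S] (y : Fin n → S) (z : S),
          aeval (Sum.elim (fun i => z * y i) fun (_ : Unit) => z) P' = z ^ M * aeval y p) →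
        q (glueHom P') = q zv ^ M * aeval y p := by
      intro p M P' hP'
      have hq : q = aeval fun i => q (X i) := MvPolynomial.algHom_ext fun i => by simp
      rw [show q (glueHom P') = aeval (fun i => q (X i)) (glueHom P') from
        AlgHom.congr_fun hq _, aeval_glueHom (R := R), ← hP']
      congr 2
      funext i
      rcases i with i | i
      · simp only [Sum.elim_inl, y]
        rw [← mul_assoc, mul_comm (q zv), hv, one_mul]
      · rfl
    have hyf : RingHom.ker ρE.toRingHom ≤ RingHom.ker (aeval (R := R) y).toRingHom := by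
      rw [← hf]
      refine Submodule.span_le.2 ?_
      rintro _ ⟨j, rfl⟩
      show aeval y (f j) = 0
      refine (hqzw.mul (hqz.pow (Nf j))).mul_left_cancel ?_
      rw [mul_zero, mul_assoc, ← hqg (f j) (Nf j) (Pf j) (hPf j), ← map_mul, ← map_mul]
      exact hq0 (Sum.inl j)
    let eE : E →ₐ[R] T := AlgHom.liftOfSurjective ρE hρE (aeval y) hyf
    have heE : ∀ p, eE (ρE p) = aeval y p := fun p =>
      AlgHom.liftOfSurjective_apply ρE hρE (aeval y) hyf p
    have heA : ∀ x, eE (g x) = algebraMap A T x := fun x => by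
      have h1 : (eE.comp g).comp ρA = (IsScalarTower.toAlgHom R A T).comp ρA := by
        refine MvPolynomial.algHom_ext fun k => ?_
        show eE (g (ρA (X k))) = algebraMap A T (ρA (X k))
        rw [← hp, heE]
        refine (hqzw.mul (hqz.pow (Np k))).mul_left_cancel ?_
        have h3 := hqg (p k) (Np k) (Pp k) (hPp k)
        have h4 := hq0 (Sum.inr (Sum.inl k))
        simp only [rels, Sum.elim_inr, Sum.elim_inl, map_mul, map_sub, map_pow] at h4
        rw [show q (MvPolynomial.C (ρA (X k))) = algebraMap A T (ρA (X k)) from q.commutes _] at h4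
        linear_combination -h4 - (q zv * q wv) * h3
      obtain ⟨x, rfl⟩ := hρA x
      exact AlgHom.congr_fun h1 x
    let F0 : MvPolynomial Bool E →+* T :=
      MvPolynomial.eval₂Hom eE.toRingHom fun b => if b then q wv else q zv
    have hF0u : ∀ y : Submonoid.powers d, IsUnit (F0 y) := by
      rintro ⟨_, k, rfl⟩
      rw [map_pow]
      refine IsUnit.pow k ?_
      simpa [F0, d] using hqzw
    let F : S →+* T := IsLocalization.lift hF0u
    have hFl : ∀ w, F (algebraMap (MvPolynomial Bool E) S w) = F0 w := fun w =>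
      IsLocalization.lift_eq hF0u w
    have hFE : ∀ x, F (cE x) = eE x := fun x => by
      show F (algebraMap (MvPolynomial Bool E) S (MvPolynomial.C x)) = _
      rw [hFl]
      exact eval₂Hom_C _ _ x
    let FR : S →ₐ[R] T :=
      { F with
        commutes' := fun x => by
          show F (algebraMap R S x) = _
          rw [← cE.commutes, hFE, eE.commutes] }
    have hsT : ∀ w, sT (algebraMap B T (mkB w)) = s0 w := fun w =>
      IsLocalization.lift_eq (M := Submonoid.powers e) _ (mkB w)
    have hFA : ∀ x, F (algebraMap A S x) = algebraMap A T x := fun x => by rw [hcA, hFE, heA]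
    haveI : Algebra.FormallySmooth R T := formallySmooth_of_retract FR sT (by
      refine AlgHom.coe_ringHom_injective ?_
      refine retract_ext (R := R) (A := A) (σ := GlueVar n r) mkB.toRingHom Ideal.Quotient.mk_surjective e _ ?_ ?_
      · intro x
        show F (sT (algebraMap B T (mkB (MvPolynomial.C x)))) = _
        rw [hsT, hs0C, hFA]
        exact (q.commutes x).symm
      · intro i
        show F (sT (algebraMap B T (mkB (X i)))) = q (X i)
        rw [hsT]
        rcases i with i | b | i
        · show F (s0 (xv i)) = q (xv i)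
          simp only [s0, xv, aeval_X, sv, Sum.elim_inl, map_mul, hFE, heE, aeval_X, Zs, hFl, y]
          simp only [F0, eval₂Hom_X', Bool.false_eq_true, if_false]
          rw [← mul_assoc, mul_comm (q zv), hv, one_mul]
        · simp only [s0, aeval_X, sv, Sum.elim_inr, Sum.elim_inl, Zs, hFl, F0, eval₂Hom_X']
          cases b <;> rfl
        · show F (s0 (uv i)) = q (uv i)
          rw [hs0u, hFA]
          refine hqz.mul_left_cancel ?_
          have := hq0 (Sum.inr (Sum.inr i))
          simp only [rels, Sum.elim_inr, map_mul, map_sub] at this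
          rw [show q (MvPolynomial.C (a i ^ N i)) = algebraMap A T (a i ^ N i) from q.commutes _,
            mul_sub, sub_eq_zero] at this
          exact this)
    exact mem_singularIdeal_of_formallySmooth_away e
  · -- smoothness where `a i` is invertible
    intro i
    let e : B := mkB (MvPolynomial.C (a i) * (MvPolynomial.C (a i ^ N i) - uv i))
    suffices he : e ∈ Smoothing.singularIdeal R B by
      refine ⟨N i + 1, ?_⟩
      have h1 : pt (MvPolynomial.C (a i) * (MvPolynomial.C (a i ^ N i) - uv i)) ∈
          (Smoothing.singularIdeal R B).map (βA.restrictScalars R) :=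
        Ideal.mem_map_of_mem (βA.restrictScalars R) he
      rw [map_mul, map_sub, hptC, hptC, hptu, sub_zero, map_pow, ← pow_succ'] at h1
      exact h1
    let Aa := Localization.Away (a i)
    haveI : Algebra.Smooth R Aa := ha i
    let τ := Fin n ⊕ (Unit ⊕ Fin r)
    let d : MvPolynomial τ Aa :=
      MvPolynomial.C (algebraMap A Aa (a i ^ N i)) - X (Sum.inr (Sum.inr i))
    let S := Localization.Away d
    haveI : Algebra.FormallySmooth R (MvPolynomial τ Aa) :=
      Algebra.FormallySmooth.comp R Aa (MvPolynomial τ Aa)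
    haveI : Algebra.FormallySmooth R S := inferInstance
    let Xs : τ → S := fun b => algebraMap (MvPolynomial τ Aa) S (X b)
    let sv : GlueVar n r → S := Sum.elim (fun j => Xs (Sum.inl j))
      (Sum.elim (fun b => if b then Xs (Sum.inr (Sum.inl ())) else 0) fun j => Xs (Sum.inr (Sum.inr j)))
    let s0 : MvPolynomial (GlueVar n r) A →ₐ[A] S := aeval sv
    have hs0z : s0 zv = 0 := by simp [s0, zv, sv]
    have hs0K : ∀ x ∈ K, s0 x = 0 := by
      intro x hx
      refine (Ideal.span_le.2 ?_ : K ≤ RingHom.ker s0.toRingHom) hx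
      rintro _ ⟨i, rfl⟩
      show s0 (rels i) = 0
      rcases i with j | k | i <;> simp only [rels, Sum.elim_inl, Sum.elim_inr, map_mul, hs0z, zero_mul]
    let s1' : B →ₐ[A] S := Ideal.Quotient.liftₐ K s0 hs0K
    let T := Localization.Away e
    have hs0C : ∀ x, s0 (MvPolynomial.C x) =
        algebraMap (MvPolynomial τ Aa) S (MvPolynomial.C (algebraMap A Aa x)) := fun x =>
      s0.commutes x
    have hs1u : ∀ y : Submonoid.powers e, IsUnit ((s1'.restrictScalars R) y) := by
      rintro ⟨_, k, rfl⟩
      rw [map_pow]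
      refine IsUnit.pow k ?_
      show IsUnit (s0 (MvPolynomial.C (a i) * (MvPolynomial.C (a i ^ N i) - uv i)))
      rw [map_mul, map_sub, hs0C, hs0C, show s0 (uv i) = Xs (Sum.inr (Sum.inr i)) by simp [s0, uv, sv]]
      simp only [Xs, ← map_sub]
      refine IsUnit.mul ?_ (IsLocalization.Away.algebraMap_isUnit d)
      exact ((IsLocalization.Away.algebraMap_isUnit (a i)).map MvPolynomial.C).map _
    let sT : T →ₐ[R] S := IsLocalization.liftAlgHom (f := s1'.restrictScalars R) hs1u
    let q : MvPolynomial (GlueVar n r) A →ₐ[A] T := (IsScalarTower.toAlgHom A B T).comp mkB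
    have hqe : IsUnit (q (MvPolynomial.C (a i)) * q (MvPolynomial.C (a i ^ N i) - uv i)) := by
      rw [← map_mul]; exact IsLocalization.Away.algebraMap_isUnit e
    obtain ⟨hqa, hqd⟩ := IsUnit.mul_iff.1 hqe
    have hqz : q zv = 0 := by
      refine hqd.mul_left_cancel ?_
      rw [mul_zero, mul_comm, ← map_mul]
      show algebraMap B T (mkB (rels (Sum.inr (Sum.inr i)))) = 0
      rw [hrels, map_zero]
    have hAu : ∀ y : Submonoid.powers (a i), IsUnit ((IsScalarTower.toAlgHom R A T) y) := by
      rintro ⟨_, k, rfl⟩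
      rw [map_pow]
      refine IsUnit.pow k ?_
      rwa [show q (MvPolynomial.C (a i)) = algebraMap A T (a i) from q.commutes _] at hqa
    let eA : Aa →ₐ[R] T := IsLocalization.liftAlgHom (f := IsScalarTower.toAlgHom R A T) hAu
    have heA : ∀ x, eA (algebraMap A Aa x) = algebraMap A T x := fun x =>
      IsLocalization.lift_eq (M := Submonoid.powers (a i)) _ x
    let F0 : MvPolynomial τ Aa →+* T := MvPolynomial.eval₂Hom eA.toRingHom
      (Sum.elim (fun j => q (xv j)) (Sum.elim (fun _ => q wv) fun j => q (uv j)))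
    have hF0u : ∀ y : Submonoid.powers d, IsUnit (F0 y) := by
      rintro ⟨_, k, rfl⟩
      rw [map_pow]
      refine IsUnit.pow k ?_
      simp only [F0, d, map_sub, eval₂Hom_C, eval₂Hom_X', Sum.elim_inr]
      rw [AlgHom.toRingHom_eq_coe, RingHom.coe_coe, heA]
      rwa [map_sub, show q (MvPolynomial.C (a i ^ N i)) = algebraMap A T (a i ^ N i) from q.commutes _]
        at hqd
    let F : S →+* T := IsLocalization.lift hF0u
    have hFl : ∀ w, F (algebraMap (MvPolynomial τ Aa) S w) = F0 w := fun w =>
      IsLocalization.lift_eq hF0u w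
    have hFC : ∀ x, F (algebraMap (MvPolynomial τ Aa) S (MvPolynomial.C x)) = eA x := fun x => by
      rw [hFl]
      exact eval₂Hom_C _ _ x
    let FR : S →ₐ[R] T :=
      { F with
        commutes' := fun x => by
          show F (algebraMap R S x) = _
          rw [IsScalarTower.algebraMap_apply R (MvPolynomial τ Aa) S,
            IsScalarTower.algebraMap_apply R Aa (MvPolynomial τ Aa), MvPolynomial.algebraMap_eq, hFC,
            eA.commutes] }
    have hsT : ∀ w, sT (algebraMap B T (mkB w)) = s0 w := fun w =>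
      IsLocalization.lift_eq (M := Submonoid.powers e) _ (mkB w)
    haveI : Algebra.FormallySmooth R T := formallySmooth_of_retract FR sT (by
      refine AlgHom.coe_ringHom_injective ?_
      refine retract_ext (R := R) (A := A) (σ := GlueVar n r) mkB.toRingHom Ideal.Quotient.mk_surjective e _ ?_ ?_
      · intro x
        show F (sT (algebraMap B T (mkB (MvPolynomial.C x)))) = _
        rw [hsT, hs0C, hFC, heA]
        exact (q.commutes x).symm
      · intro j
        show F (sT (algebraMap B T (mkB (X j)))) = q (X j)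
        rw [hsT]
        rcases j with j | b | j
        · simp only [s0, aeval_X, sv, Sum.elim_inl, Xs, hFl, F0, eval₂Hom_X']
          rfl
        · cases b
          · simp only [s0, aeval_X, sv, Sum.elim_inr, Sum.elim_inl, Bool.false_eq_true, if_false,
              map_zero]
            exact hqz.symm
          · simp only [s0, aeval_X, sv, Sum.elim_inr, Sum.elim_inl, if_true, Xs, hFl, F0, eval₂Hom_X']
            rfl
        · simp only [s0, aeval_X, sv, Sum.elim_inr, Xs, hFl, F0, eval₂Hom_X']
          rfl)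
    exact mem_singularIdeal_of_formallySmooth_away e

end Groth.Agent.Smooth28
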