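import Groth.Agent.Smooth28.Omega
import Groth.Agent.Smooth28.Det
import Groth.Agent.Smooth28.Std
import Mathlib.LinearAlgebra.Basis.Basic
import Mathlib.LinearAlgebra.Dimension.StrongRankCondition

/-!
Stably free differentials give strictly standard powers.
-/

namespace Groth.Agent.Smooth28

open MvPolynomial Matrix

universe u

variable {R : Type u} [CommRing R] {A : Type u} [CommRing A] [Algebra R A]

theorem exists_common_power {S : Type*} [CommRing S] [Algebra A S] (a : A) [IsLocalization.Away a S]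
    {α : Type*} [Finite α] (x : α → S) :
    ∃ (N : ℕ) (b : α → A), ∀ j, algebraMap A S a ^ N * x j = algebraMap A S (b j) := by
  obtain ⟨⟨_, N, rfl⟩, h⟩ := IsLocalization.exist_integer_multiples_of_finite (Submonoid.powers a) x
  choose b hb using fun j => h j
  refine ⟨N, b, fun j => ?_⟩
  rw [hb j, Algebra.smul_def, map_pow]

theorem exists_power_eq {S : Type*} [CommRing S] [Algebra A S] (a : A) [IsLocalization.Away a S]
    {α : Type*} [Fintype α] (x y : α → A) (h : ∀ j, algebraMap A S (x j) = algebraMap A S (y j)) :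
    ∃ k : ℕ, ∀ j, a ^ k * x j = a ^ k * y j := by
  have : ∀ j, ∃ k : ℕ, a ^ k * x j = a ^ k * y j := fun j => by
    obtain ⟨⟨_, k, rfl⟩, hk⟩ := (IsLocalization.eq_iff_exists (Submonoid.powers a) S).1 (h j)
    exact ⟨k, hk⟩
  choose k hk using this
  refine ⟨Finset.univ.sup k, fun j => ?_⟩
  rw [← Nat.sub_add_cancel (Finset.le_sup (f := k) (Finset.mem_univ j)), pow_add, mul_assoc,
    mul_assoc, hk j]

theorem strictlyStandard_zero [Algebra.FinitePresentation R A] :
    Smoothing.IsStrictlyStandard R A (0 : A) := by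
  obtain ⟨n, φ, hφ, s, hs⟩ := (‹Algebra.FinitePresentation R A›).out
  let f : Fin s.card → MvPolynomial (Fin n) R := fun j => (s.equivFin.symm j : MvPolynomial (Fin n) R)
  have hker : RingHom.ker φ.toRingHom = Ideal.span (Set.range f) := by
    rw [← hs]
    congr 1
    ext x
    constructor
    · intro hx
      exact ⟨s.equivFin ⟨x, hx⟩, by simp [f]⟩
    · rintro ⟨j, rfl⟩
      exact (s.equivFin.symm j).2
  refine ⟨⟨n, s.card, 0, Nat.zero_le _, Nat.zero_le _, f, φ, hφ, hker⟩, Submodule.zero_mem _,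
    fun a₁ ha₁ j _ => Ideal.mem_sup_right ?_⟩
  show a₁ * f j ∈ Ideal.span (Set.range f) ^ 2
  rw [← hker, pow_two]
  exact Ideal.mul_mem_mul ha₁ (hker ▸ Ideal.subset_span ⟨j, rfl⟩)

theorem exists_standard_of_free_kernel {n m c : ℕ} (φ : MvPolynomial (Fin n) R →ₐ[R] A)
    (hφ : Function.Surjective φ) (f : Fin m → MvPolynomial (Fin n) R)
    (hker : RingHom.ker φ.toRingHom = Ideal.span (Set.range f)) (a : A)
    (S : Type u) [CommRing S] [Nontrivial S] [Algebra R S] [Algebra A S] [IsScalarTower R A S]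
    [IsLocalization.Away a S] [Algebra.FormallySmooth R S]
    (bK : Module.Basis (Fin c) S (LinearMap.ker (toOmega S φ))) :
    ∃ e₀ : ℕ, ∀ N : ℕ, e₀ ≤ N → Smoothing.IsStrictlyStandard R A (a ^ N) := by
  classical
  obtain ⟨a', rfl⟩ := hφ a
  have hfg : (RingHom.ker φ.toRingHom).FG := by rw [hker]; exact ⟨Finset.univ.image f, by simp⟩
  obtain ⟨k, hsplit⟩ := exists_split_of_formallySmooth (S := S) φ hφ hfg (φ a') a' rfl
  obtain ⟨ρ, hρK, hρ⟩ := exists_projection (S := S) hφ (φ a') f hker (a' ^ k) k (map_pow φ a' k) hsplit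
  have hu : IsUnit (algebraMap A S (φ a')) := IsLocalization.Away.algebraMap_isUnit _
  have hf : ∀ j, φ (f j) = 0 := fun j =>
    show f j ∈ RingHom.ker φ.toRingHom from hker ▸ Ideal.subset_span ⟨j, rfl⟩
  -- the basis realized by relations
  have hmem : ∀ r : Fin c, ∃ co : Fin m → S, ∑ l, co l • jacRow S φ (f l) = (bK r : Fin n → S) := by
    intro r
    rw [← Submodule.mem_span_range_iff_exists_fun,
      ← ker_toOmega S hφ (Submonoid.powers (φ a')) f hker]
    exact (bK r).2
  choose co hco using hmem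
  obtain ⟨N₁, b₁, hb₁⟩ := exists_common_power (φ a') (fun p : Fin c × Fin m => co p.1 p.2)
  choose B₁ hB₁ using fun p => hφ (b₁ p)
  let e : Fin c → MvPolynomial (Fin n) R := fun r => ∑ l, B₁ (r, l) * f l
  have he0 : ∀ r, φ (e r) = 0 := fun r => by simp [e, hf]
  have herow : ∀ r, jacRow S φ (e r) = algebraMap A S (φ a') ^ N₁ • (bK r : Fin n → S) := fun r => by
    rw [← hco r, Finset.smul_sum, jacRow_sum]
    refine Finset.sum_congr rfl fun l _ => ?_
    rw [jacRow_mul S φ (hf l), smul_smul, hb₁ (r, l), hB₁]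
  obtain ⟨w₁, hw₁⟩ := (hu.pow N₁).exists_left_inv
  -- right inverse
  let M : Matrix (Fin c) (Fin n) A := Matrix.of fun r i => φ (pderiv i (e r))
  let Ns : Fin n × Fin c → S := fun p =>
    w₁ * bK.repr ⟨ρ (Pi.single p.1 1), hρK _⟩ p.2
  have hright : ∀ r r', ∑ i, algebraMap A S (M r i) * Ns (i, r') = if r = r' then 1 else 0 := by
    intro r r'
    let L : (Fin n → S) →ₗ[S] S :=
      (Finsupp.lapply r').comp (bK.repr.toLinearMap.comp (ρ.codRestrict _ hρK))
    have hL : L (bK r : Fin n → S) = if r = r' then 1 else 0 := by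
      have : ρ.codRestrict _ hρK (bK r : Fin n → S) = bK r := Subtype.ext (hρ _ (bK r).2)
      simp [L, this, Finsupp.single_apply]
    calc ∑ i, algebraMap A S (M r i) * Ns (i, r')
        = w₁ * ∑ i, jacRow S φ (e r) i * L (Pi.single i 1) := by
          rw [Finset.mul_sum]
          exact Finset.sum_congr rfl fun i _ => by
            show algebraMap A S (φ (pderiv i (e r))) * (w₁ * _) =
              w₁ * (algebraMap A S (φ (pderiv i (e r))) * _)
            rw [mul_left_comm]
            rfl
      _ = w₁ * L (jacRow S φ (e r)) := by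
          conv_rhs => rw [pi_eq_sum_univ' (jacRow S φ (e r)), map_sum]
          simp [map_smul]
      _ = _ := by rw [herow, map_smul, hL, smul_eq_mul, ← mul_assoc, hw₁, one_mul]
  have hcn : c ≤ n := by
    have : (M.map (algebraMap A S)) * (Matrix.of fun i r => Ns (i, r)) = 1 := by
      ext r r'
      simp only [Matrix.mul_apply, Matrix.map_apply, Matrix.of_apply, Matrix.one_apply]
      exact hright r r'
    simpa using card_le_of_mul_eq_one _ _ this
  -- minors
  obtain ⟨N₂, b₂, hb₂⟩ := exists_common_power (φ a') Ns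
  let NA : Matrix (Fin n) (Fin c) A := Matrix.of fun i r => b₂ (i, r)
  obtain ⟨k₂, hk₂⟩ := exists_power_eq (S := S) (φ a')
    (fun p : Fin c × Fin c => (M * NA) p.1 p.2)
    (fun p : Fin c × Fin c => if p.1 = p.2 then φ a' ^ N₂ else 0) (fun p => by
      simp only [Matrix.mul_apply, map_sum, map_mul, NA, Matrix.of_apply, ← hb₂]
      rw [Finset.sum_congr rfl fun i _ => mul_left_comm (algebraMap A S (M p.1 i)) _ _,
        ← Finset.mul_sum, hright]
      split_ifs <;> simp)
  have hminors : φ a' ^ ((k₂ + N₂) * c) ∈ Ideal.span (Set.range fun cols : Fin c → Fin n =>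
      (M.submatrix id cols).det) := by
    have h1 : M * (φ a' ^ k₂ • NA) = φ a' ^ (k₂ + N₂) • (1 : Matrix (Fin c) (Fin c) A) := by
      ext r r'
      rw [Matrix.mul_smul, Matrix.smul_apply, Matrix.smul_apply, smul_eq_mul, hk₂ (r, r'),
        Matrix.one_apply, smul_eq_mul, pow_add]
      split_ifs <;> simp
    have h2 := det_mul_mem_span_minors M (φ a' ^ k₂ • NA)
    rw [h1, Matrix.det_smul, Matrix.det_one, mul_one, Fintype.card_fin, ← pow_mul] at h2
    exact h2
  -- tail
  let J : Ideal (MvPolynomial (Fin n) R) := Ideal.span (Set.range e)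
  have htail : ∀ x, φ x = 0 → ∃ E : ℕ, a' ^ E * x ∈ J ⊔ RingHom.ker φ.toRingHom ^ 2 := by
    intro x hx
    have hxK : jacRow S φ x ∈ LinearMap.ker (toOmega S φ) := by
      show toOmega S φ _ = 0
      rw [toOmega_jacRow, hx, map_zero, map_zero]
    let β : Fin c → S := fun r => w₁ * bK.repr ⟨_, hxK⟩ r
    obtain ⟨N₃, b₃, hb₃⟩ := exists_common_power (φ a') β
    choose B₃ hB₃ using fun r => hφ (b₃ r)
    have hxsum : ∑ r, β r • jacRow S φ (e r) = jacRow S φ x := by
      have h0 := congrArg Subtype.val (bK.sum_repr ⟨_, hxK⟩)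
      simp only [Submodule.coe_sum, Submodule.coe_smul_of_tower] at h0
      rw [← h0]
      refine Finset.sum_congr rfl fun r _ => ?_
      rw [herow, smul_smul]
      congr 1
      show w₁ * _ * _ = _
      rw [mul_comm w₁, mul_assoc, hw₁, mul_one]
    let d := a' ^ N₃ * x - ∑ r, B₃ r * e r
    have hd0 : φ d = 0 := by simp [d, hx, he0]
    have hdrow : jacRow S φ d = 0 := by
      rw [jacRow_sub, jacRow_mul S φ hx, jacRow_sum, sub_eq_zero, ← hxsum, Finset.smul_sum]
      refine Finset.sum_congr rfl fun r _ => ?_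
      rw [jacRow_mul S φ (he0 r), smul_smul, hB₃, ← hb₃, map_pow, map_pow]
    obtain ⟨k₃, hk₃⟩ := exists_power_eq (S := S) (φ a') (fun i => φ (pderiv i d)) (fun _ => 0)
      (fun i => by rw [map_zero]; exact congrFun hdrow i)
    obtain ⟨h, hh, H⟩ := hsplit
    refine ⟨k + k₃ + N₃, ?_⟩
    have h1 : a' ^ k₃ * ∑ i, pderiv i d * h i ∈ RingHom.ker φ.toRingHom ^ 2 := by
      rw [Finset.mul_sum]
      refine Submodule.sum_mem _ fun i _ => ?_
      rw [← mul_assoc]
      refine mem_sq_of_zero ?_ (hh i)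
      rw [map_mul, map_pow, hk₃ i, mul_zero]
    have h2 := add_mem (Ideal.mul_mem_left _ (a' ^ k₃) (H d hd0)) h1
    rw [← mul_add, sub_add_cancel, ← mul_assoc, ← pow_add] at h2
    have h3 : a' ^ (k + k₃ + N₃) * x =
        a' ^ (k₃ + k) * ∑ r, B₃ r * e r + a' ^ (k₃ + k) * d := by
      simp only [d, mul_sub, pow_add]
      ring
    rw [h3]
    exact add_mem (Ideal.mem_sup_left (Ideal.mul_mem_left _ _ (Submodule.sum_mem _ fun r _ =>
      Ideal.mul_mem_left _ _ (Ideal.subset_span ⟨r, rfl⟩)))) (Ideal.mem_sup_right h2)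
  choose E hE using fun j => htail (f j) (hf j)
  refine ⟨Finset.univ.sup E + (k₂ + N₂) * c, fun N hN => ?_⟩
  let rel : Fin (c + m) → MvPolynomial (Fin n) R := Fin.append e f
  have hrel : RingHom.ker φ.toRingHom = Ideal.span (Set.range rel) := by
    refine le_antisymm ?_ (Ideal.span_le.2 ?_)
    · rw [hker]
      exact Ideal.span_mono fun x ⟨j, hj⟩ => ⟨Fin.natAdd c j, by simp [rel, hj]⟩
    · rintro _ ⟨j, rfl⟩
      refine Fin.addCases (fun r => ?_) (fun l => ?_) j
      · simp only [rel, Fin.append_left, SetLike.mem_coe]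
        exact he0 r
      · simp only [rel, Fin.append_right, SetLike.mem_coe]
        exact hf l
  refine ⟨⟨n, c + m, c, hcn, Nat.le_add_right _ _, rel, φ, hφ, hrel⟩, ?_, ?_⟩
  · show φ a' ^ N ∈ Ideal.span (Set.range fun cols : Fin c → Fin n =>
      φ (Smoothing.jacobianMinor rel (Fin.castLE (Nat.le_add_right c m)) cols))
    simp only [hom_jacobianMinor]
    have hM : (Matrix.of fun (r : Fin c) (i : Fin n) =>
        φ (pderiv i (rel (Fin.castLE (Nat.le_add_right c m) r)))) = M := by
      ext r i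
      simp only [Matrix.of_apply, M, rel]
      rw [show Fin.castLE (Nat.le_add_right c m) r = Fin.castAdd m r from rfl, Fin.append_left]
    rw [hM, ← Nat.sub_add_cancel (le_trans (Nat.le_add_left _ _) hN), pow_add]
    exact Ideal.mul_mem_left _ _ hminors
  · intro a₁ ha₁ j hj
    show a₁ * rel j ∈ Ideal.span (rel '' {j' : Fin (c + m) | (j' : ℕ) < c}) ⊔
      Ideal.span (Set.range rel) ^ 2
    rw [← hrel]
    have hjz : φ (rel j) = 0 :=
      show rel j ∈ RingHom.ker φ.toRingHom from hrel ▸ Ideal.subset_span ⟨j, rfl⟩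
    have h1 : (a₁ - a' ^ N) * rel j ∈ RingHom.ker φ.toRingHom ^ 2 :=
      mem_sq_of_zero (by rw [map_sub, map_pow, show φ a₁ = φ a' ^ N from ha₁, sub_self]) hjz
    have hJ : J ≤ Ideal.span (rel '' {j' : Fin (c + m) | (j' : ℕ) < c}) :=
      Ideal.span_mono fun x ⟨r, hr⟩ => ⟨Fin.castAdd m r, r.2, by simp [rel, hr]⟩
    have h2 : a' ^ N * rel j ∈ Ideal.span (rel '' {j' : Fin (c + m) | (j' : ℕ) < c}) ⊔
        RingHom.ker φ.toRingHom ^ 2 := by
      induction j using Fin.addCases with
      | left r => exact absurd hj (by simp)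
      | right l =>
        simp only [rel, Fin.append_right]
        have hle : E l ≤ N := le_trans ((Finset.le_sup (f := E) (Finset.mem_univ l)).trans
          (Nat.le_add_right _ _)) hN
        rw [← Nat.sub_add_cancel hle, pow_add, mul_assoc]
        exact Ideal.mul_mem_left _ _ ((sup_le (hJ.trans le_sup_left) le_sup_right : _ ≤ _) (hE l))
    have := add_mem (Ideal.mem_sup_right (S := Ideal.span (rel '' {j' : Fin (c + m) | (j' : ℕ) < c})) h1) h2
    rwa [← add_mul, sub_add_cancel] at this

theorem exists_standard_pow [Algebra.FinitePresentation R A] (a : A)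
    [Algebra.Smooth R (Localization.Away a)] (p q : ℕ)
    (el : (Ω[Localization.Away a⁄R] × (Fin p → Localization.Away a)) ≃ₗ[Localization.Away a]
      (Fin q → Localization.Away a)) :
    ∃ e₀ : ℕ, ∀ N : ℕ, e₀ ≤ N → Smoothing.IsStrictlyStandard R A (a ^ N) := by
  classical
  set S := Localization.Away a
  rcases subsingleton_or_nontrivial S with hS | hS
  · obtain ⟨⟨_, k, rfl⟩, hk⟩ := (IsLocalization.eq_iff_exists (Submonoid.powers a) S).1
      (Subsingleton.elim (algebraMap A S 1) (algebraMap A S 0))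
    refine ⟨k, fun N hN => ?_⟩
    have : a ^ N = 0 := by
      rw [← Nat.sub_add_cancel hN, pow_add]
      simp [show a ^ k = 0 by simpa using hk]
    rw [this]
    exact strictlyStandard_zero
  obtain ⟨n, φ, hφ, s, hs⟩ := (‹Algebra.FinitePresentation R A›).out
  -- add `q` variables mapped to zero
  let v : Fin (n + q) → A := Fin.append (fun i => φ (X i)) (fun _ => 0)
  let ψ : MvPolynomial (Fin (n + q)) R →ₐ[R] A := aeval v
  have hψφ : ψ.comp (rename (Fin.castAdd q)) = φ :=
    MvPolynomial.algHom_ext fun i => by simp [ψ, v]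
  have hψ : Function.Surjective ψ := fun x =>
    (hφ x).elim fun y hy => ⟨rename (Fin.castAdd q) y, (AlgHom.congr_fun hψφ y).trans hy⟩
  haveI : Algebra.FinitePresentation R A := inferInstance
  obtain ⟨s', hs'⟩ := Algebra.FinitePresentation.ker_fG_of_surjective ψ hψ
  let f : Fin s'.card → MvPolynomial (Fin (n + q)) R :=
    fun j => (s'.equivFin.symm j : MvPolynomial (Fin (n + q)) R)
  have hker : RingHom.ker ψ.toRingHom = Ideal.span (Set.range f) := by
    rw [← hs']
    congr 1
    ext x
    constructor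
    · intro hx
      exact ⟨s'.equivFin ⟨x, hx⟩, by simp [f]⟩
    · rintro ⟨j, rfl⟩
      exact (s'.equivFin.symm j).2
  -- the small kernel
  have hkerφ : RingHom.ker φ.toRingHom = Ideal.span (Set.range fun x : s => (x : MvPolynomial (Fin n) R)) := by
    rw [← hs]; simp
  obtain ⟨a', rfl⟩ := hφ a
  obtain ⟨k, hsplit⟩ := exists_split_of_formallySmooth (S := S) φ hφ
    (by rw [hkerφ]; exact ⟨s, by simp⟩) (φ a') a' rfl
  obtain ⟨ρ, hρK, hρ⟩ := exists_projection (S := S) hφ (φ a') (fun x : s => (x : MvPolynomial (Fin n) R))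
    hkerφ (a' ^ k) k (map_pow φ a' k) hsplit
  set K := LinearMap.ker (toOmega S φ)
  let e₁ : (Fin n → S) ≃ₗ[S] K × Ω[S⁄R] :=
    LinearEquiv.ofBijective ((ρ.codRestrict K hρK).prod (toOmega S φ)) <| by
      constructor
      · rw [injective_iff_map_eq_zero]
        intro x hx
        have hx1 : x ∈ K := congrArg Prod.snd hx
        rw [← hρ x hx1]
        exact congrArg Subtype.val (congrArg Prod.fst hx)
      · rintro ⟨k, ω⟩
        obtain ⟨x, hx⟩ := toOmega_surjective S hφ (Submonoid.powers (φ a')) ω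
        refine ⟨x - ρ x + k.1, Prod.ext (Subtype.ext ?_) ?_⟩
        · show ρ _ = k.1
          rw [map_add, map_sub, hρ _ (hρK x), hρ _ k.2, sub_self, zero_add]
        · show toOmega S φ _ = ω
          rw [map_add, map_sub, show toOmega S φ (ρ x) = 0 from hρK x,
            show toOmega S φ k.1 = 0 from k.2, hx, sub_zero, add_zero]
  have htoO : ∀ x : Fin (n + q) → S,
      toOmega S ψ x = toOmega S φ (fun i => x (Fin.castAdd q i)) := fun x => by
    simp [toOmega, Fintype.linearCombination_apply, Fin.sum_univ_add, ψ, v]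
  let split : (Fin (n + q) → S) ≃ₗ[S] (Fin n → S) × (Fin q → S) :=
    { toFun := fun x => (fun i => x (Fin.castAdd q i), fun j => x (Fin.natAdd n j))
      invFun := fun p => Fin.append p.1 p.2
      left_inv := fun x => by
        funext i
        refine Fin.addCases (fun r => by simp) (fun l => by simp) i
      right_inv := fun p => by ext i <;> simp
      map_add' := fun x y => rfl
      map_smul' := fun c x => rfl }
  let e₂ : LinearMap.ker (toOmega S ψ) ≃ₗ[S] K × (Fin q → S) :=
    { toFun := fun x => (⟨(split x.1).1, (htoO x.1).symm.trans x.2⟩, (split x.1).2)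
      invFun := fun p => ⟨split.symm (p.1.1, p.2), by
        show toOmega S ψ _ = 0
        rw [htoO]
        exact (congrArg (toOmega S φ) (congrArg Prod.fst (split.apply_symm_apply (p.1.1, p.2)))).trans p.1.2⟩
      left_inv := fun x => Subtype.ext (split.symm_apply_apply x.1)
      right_inv := fun p => by
        have := split.apply_symm_apply (p.1.1, p.2)
        exact Prod.ext (Subtype.ext (congrArg Prod.fst this)) (by simp [this])
      map_add' := fun x y => rfl
      map_smul' := fun c x => rfl }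
  let e₃ : LinearMap.ker (toOmega S ψ) ≃ₗ[S] (Fin n → S) × (Fin p → S) :=
    e₂.trans ((((LinearEquiv.refl S K).prodCongr el.symm).trans
      (LinearEquiv.prodAssoc S K Ω[S⁄R] (Fin p → S)).symm).trans
        (e₁.symm.prodCongr (LinearEquiv.refl S (Fin p → S))))
  let bK : Module.Basis (Fin (n + p)) S (LinearMap.ker (toOmega S ψ)) :=
    (((Pi.basisFun S (Fin n)).prod (Pi.basisFun S (Fin p))).map e₃.symm).reindex finSumFinEquiv
  exact exists_standard_of_free_kernel ψ hψ f hker (φ a') S bK

end Groth.Agent.Smooth28
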