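import Groth.Agent.Smooth28.ResolveStep

/-!
Iterated reduction modulo eighth powers.
-/

namespace Groth.Agent.Smooth28

universe u

variable {R A Λ : Type u} [CommRing R] [IsNoetherianRing R]
  [CommRing A] [Algebra R A] [Algebra.FinitePresentation R A] [CommRing Λ] [Algebra R Λ]

theorem resolvable_quot_step (φ : A →ₐ[R] Λ) (𝔮 : Ideal Λ) [𝔮.IsPrime] (I : Ideal R) (π : R)
    (hI𝔮 : I.map (algebraMap R Λ) ≤ 𝔮) (hπ𝔮 : algebraMap R Λ π ∈ 𝔮)
    (hR : ∀ x : R ⧸ I, Ideal.Quotient.mk I π ^ 2 * x = 0 → Ideal.Quotient.mk I π * x = 0)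
    (hΛ : ∀ x : Λ ⧸ I.map (algebraMap R Λ), Ideal.Quotient.mk _ (algebraMap R Λ π) ^ 2 * x = 0 →
      Ideal.Quotient.mk _ (algebraMap R Λ π) * x = 0)
    (hstd : Smoothing.IsStrictlyStandard R A (algebraMap R A π))
    (I' : Ideal R) (hI' : I' = I ⊔ Ideal.span {π ^ 8})
    (φI : (A ⧸ I.map (algebraMap R A)) →ₐ[R ⧸ I] (Λ ⧸ I.map (algebraMap R Λ)))
    (hφI : ∀ a : A, φI (Ideal.Quotient.mk _ a) = Ideal.Quotient.mk _ (φ a))
    (φI' : (A ⧸ I'.map (algebraMap R A)) →ₐ[R ⧸ I'] (Λ ⧸ I'.map (algebraMap R Λ)))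
    (hφI' : ∀ a : A, φI' (Ideal.Quotient.mk _ a) = Ideal.Quotient.mk _ (φ a))
    (hres : Smoothing.Resolvable (R ⧸ I') φI'
      (𝔮.map (Ideal.Quotient.mk (I'.map (algebraMap R Λ))))) :
    Smoothing.Resolvable (R ⧸ I) φI (𝔮.map (Ideal.Quotient.mk (I.map (algebraMap R Λ)))) := by
  have hII : I ≤ I' := hI' ▸ le_sup_left
  letI : Algebra (R ⧸ I) (R ⧸ I') := (Ideal.Quotient.factor hII).toAlgebra
  letI algA : Algebra (R ⧸ I) (A ⧸ I'.map (algebraMap R A)) :=
    ((algebraMap (R ⧸ I') (A ⧸ I'.map (algebraMap R A))).comp (Ideal.Quotient.factor hII)).toAlgebra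
  haveI : IsScalarTower (R ⧸ I) (R ⧸ I') (A ⧸ I'.map (algebraMap R A)) :=
    IsScalarTower.of_algebraMap_eq fun _ => rfl
  letI algΛ : Algebra (R ⧸ I) (Λ ⧸ I'.map (algebraMap R Λ)) :=
    ((algebraMap (R ⧸ I') (Λ ⧸ I'.map (algebraMap R Λ))).comp (Ideal.Quotient.factor hII)).toAlgebra
  haveI : IsScalarTower (R ⧸ I) (R ⧸ I') (Λ ⧸ I'.map (algebraMap R Λ)) :=
    IsScalarTower.of_algebraMap_eq fun _ => rfl
  let ν : (A ⧸ I.map (algebraMap R A)) →ₐ[R ⧸ I] (A ⧸ I'.map (algebraMap R A)) :=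
    { Ideal.Quotient.factor (Ideal.map_mono hII) with
      commutes' := fun r => by
        obtain ⟨r, rfl⟩ := Ideal.Quotient.mk_surjective r
        rfl }
  let μ : (Λ ⧸ I.map (algebraMap R Λ)) →ₐ[R ⧸ I] (Λ ⧸ I'.map (algebraMap R Λ)) :=
    { Ideal.Quotient.factor (Ideal.map_mono hII) with
      commutes' := fun r => by
        obtain ⟨r, rfl⟩ := Ideal.Quotient.mk_surjective r
        rfl }
  have hker : ∀ (S : Type u) [CommRing S] (f : R →+* S),
      RingHom.ker (Ideal.Quotient.factor (Ideal.map_mono (f := f) hII)) =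
        Ideal.span {Ideal.Quotient.mk (I.map f) (f (π ^ 8))} := fun S _ f => by
    rw [Ideal.Quotient.factor_ker, hI', Ideal.map_sup, Ideal.map_sup, Ideal.map_quotient_self,
      bot_sup_eq, Ideal.map_span, Set.image_singleton, Ideal.map_span, Set.image_singleton]
  haveI : Algebra.FinitePresentation (R ⧸ I) (A ⧸ I.map (algebraMap R A)) := by
    haveI : Algebra.FinitePresentation R (A ⧸ I.map (algebraMap R A)) :=
      Algebra.FinitePresentation.quotient (Ideal.FG.map (IsNoetherian.noetherian I) _)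
    exact Algebra.FinitePresentation.of_restrict_scalars_finitePresentation R (R ⧸ I) _
  have hstd' : Smoothing.IsStrictlyStandard (R ⧸ I) (A ⧸ I.map (algebraMap R A))
      (algebraMap (R ⧸ I) _ (Ideal.Quotient.mk I π)) :=
    isStrictlyStandard_quotient (Ideal.Quotient.mkₐ R (I.map (algebraMap R A)))
      Ideal.Quotient.mk_surjective Ideal.Quotient.mk_surjective
      (by rw [show RingHom.ker (algebraMap R (R ⧸ I)) = I from Ideal.mk_ker]; exact Ideal.mk_ker.le)
      hstd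
  have hq : 𝔮.map (Ideal.Quotient.mk (I'.map (algebraMap R Λ))) =
      (𝔮.map (Ideal.Quotient.mk (I.map (algebraMap R Λ)))).map μ := by
    show _ = Ideal.map (Ideal.Quotient.factor (Ideal.map_mono hII)) _
    rw [Ideal.map_map, Ideal.Quotient.factor_comp_mk]
  haveI : (𝔮.map (Ideal.Quotient.mk (I.map (algebraMap R Λ)))).IsPrime :=
    Ideal.map_isPrime_of_surjective Ideal.Quotient.mk_surjective (by rwa [Ideal.mk_ker])
  refine resolvable_step (Ideal.Quotient.mk I π) hR ?_ φI hstd'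
    (Ideal.Quotient.factor_surjective hII) ?_ ν (Ideal.Quotient.factor_surjective (Ideal.map_mono hII)) ?_
    μ (Ideal.Quotient.factor_surjective (Ideal.map_mono hII)) ?_ φI' ?_ _ ?_ (hq ▸ hres)
  · intro x hx
    rw [Algebra.smul_def] at hx ⊢
    exact hΛ x (by rwa [map_pow] at hx)
  · show RingHom.ker (Ideal.Quotient.factor hII) = _
    rw [Ideal.Quotient.factor_ker, hI', Ideal.map_sup, Ideal.map_quotient_self, bot_sup_eq,
      Ideal.map_span, Set.image_singleton, map_pow]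
  · refine (hker A (algebraMap R A)).trans ?_
    rw [← map_pow]
    rfl
  · refine (hker Λ (algebraMap R Λ)).trans ?_
    rw [← map_pow]
    rfl
  · intro a
    obtain ⟨a, rfl⟩ := Ideal.Quotient.mk_surjective a
    show φI' (Ideal.Quotient.factor (Ideal.map_mono hII) (Ideal.Quotient.mk _ a)) = _
    rw [Ideal.Quotient.factor_mk, hφI', hφI]
    rfl
  · exact Ideal.mem_map_of_mem _ hπ𝔮

/-- The ideal of the first `k` eighth powers. -/
def powIdeal {r : ℕ} (π : Fin r → R) (k : ℕ) : Ideal R :=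
  Ideal.span ((fun j => π j ^ 8) '' {j : Fin r | (j : ℕ) < k})

theorem resolvable_of_resolvable_mod_pow_eight (φ : A →ₐ[R] Λ) (𝔮 : Ideal Λ) [𝔮.IsPrime]
    {r : ℕ} (hr : 0 < r) (π : Fin r → R)
    (hπ𝔮 : ∀ i, algebraMap R Λ (π i) ∈ 𝔮)
    (hR : ∀ i : Fin r, ∀ x : R ⧸ Ideal.span (Set.range fun j : {j : Fin r // (j : ℕ) < (i : ℕ)} => π j ^ 8),
      Ideal.Quotient.mk _ (π i) ^ 2 * x = 0 → Ideal.Quotient.mk _ (π i) * x = 0)
    (hΛ : ∀ i : Fin r, ∀ x : Λ ⧸ Ideal.span (Set.range fun j : {j : Fin r // (j : ℕ) < (i : ℕ)} =>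
        algebraMap R Λ (π j) ^ 8),
      Ideal.Quotient.mk _ (algebraMap R Λ (π i)) ^ 2 * x = 0 → Ideal.Quotient.mk _ (algebraMap R Λ (π i)) * x = 0)
    (hstd : ∀ i, Smoothing.IsStrictlyStandard R A (algebraMap R A (π i)))
    (K : Ideal R) (hK : K = Ideal.span (Set.range fun i => π i ^ 8))
    (φK : (A ⧸ K.map (algebraMap R A)) →ₐ[R ⧸ K] (Λ ⧸ K.map (algebraMap R Λ)))
    (hφK : ∀ a : A, φK (Ideal.Quotient.mk _ a) = Ideal.Quotient.mk _ (φ a))
    (hres : Smoothing.Resolvable (R ⧸ K) φK (𝔮.map (Ideal.Quotient.mk (K.map (algebraMap R Λ))))) :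
    Smoothing.Resolvable R φ 𝔮 := by
  classical
  have hI : ∀ i : Fin r, Ideal.span (Set.range fun j : {j : Fin r // (j : ℕ) < (i : ℕ)} => π j ^ 8) =
      powIdeal π i := fun i => by
    rw [powIdeal, Set.image_eq_range]; rfl
  have hJ : ∀ i : Fin r, Ideal.span (Set.range fun j : {j : Fin r // (j : ℕ) < (i : ℕ)} =>
      algebraMap R Λ (π j) ^ 8) = (powIdeal π i).map (algebraMap R Λ) := fun i => by
    rw [← hI, Ideal.map_span, ← Set.range_comp]
    simp only [Function.comp_def, map_pow]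
  have hsucc : ∀ i : Fin r, powIdeal π ((i : ℕ) + 1) = powIdeal π i ⊔ Ideal.span {π i ^ 8} :=
    fun i => by
      rw [powIdeal, powIdeal, ← Ideal.span_union]
      congr 1
      ext x
      constructor
      · rintro ⟨j, hj, rfl⟩
        rcases Nat.lt_succ_iff_lt_or_eq.1 hj with h | h
        · exact Or.inl ⟨j, h, rfl⟩
        · exact Or.inr (by rw [Fin.ext h]; rfl)
      · rintro (⟨j, hj, rfl⟩ | rfl)
        · exact ⟨j, Nat.lt_succ_of_lt hj, rfl⟩
        · exact ⟨i, Nat.lt_succ_self _, rfl⟩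
  suffices H : ∀ k, k ≤ r → 1 ≤ k → ∀ (K : Ideal R), K = powIdeal π k →
      ∀ (φK : (A ⧸ K.map (algebraMap R A)) →ₐ[R ⧸ K] (Λ ⧸ K.map (algebraMap R Λ))),
      (∀ a : A, φK (Ideal.Quotient.mk _ a) = Ideal.Quotient.mk _ (φ a)) →
      Smoothing.Resolvable (R ⧸ K) φK (𝔮.map (Ideal.Quotient.mk (K.map (algebraMap R Λ)))) →
      Smoothing.Resolvable R φ 𝔮 by
    refine H r le_rfl hr K ?_ φK hφK hres
    rw [hK, powIdeal]
    congr 1
    rw [show {j : Fin r | (j : ℕ) < r} = Set.univ from Set.eq_univ_of_forall fun j => j.2,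
      Set.image_univ]
  intro k
  induction k with
  | zero => intro _ h; exact absurd h (by norm_num)
  | succ k ih =>
    intro hkr _ K hK φK hφK hres
    set i : Fin r := ⟨k, hkr⟩ with hi
    rcases Nat.eq_zero_or_pos k with hk0 | hk0
    · -- the first step
      have hK1 : K = Ideal.span {π i ^ 8} := by
        rw [hK, show k + 1 = (i : ℕ) + 1 from rfl, hsucc i]
        have : powIdeal π (i : ℕ) = ⊥ := by
          rw [powIdeal, Ideal.span_eq_bot]
          rintro _ ⟨j, hj, rfl⟩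
          simp only [hi, hk0, Set.mem_setOf_eq] at hj
          omega
        rw [this, bot_sup_eq]
      have hbot : Ideal.span (Set.range fun j : {j : Fin r // (j : ℕ) < (i : ℕ)} => π j ^ 8) = ⊥ := by
        rw [Ideal.span_eq_bot]
        rintro _ ⟨⟨j, hj⟩, rfl⟩
        simp only [hi, hk0] at hj
        omega
      have hbotΛ : Ideal.span (Set.range fun j : {j : Fin r // (j : ℕ) < (i : ℕ)} =>
          algebraMap R Λ (π j) ^ 8) = ⊥ := by
        rw [Ideal.span_eq_bot]
        rintro _ ⟨⟨j, hj⟩, rfl⟩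
        simp only [hi, hk0] at hj
        omega
      have hK8 : ∀ (S : Type u) [CommRing S] (f : R →+* S),
          K.map f = Ideal.span {f (π i ^ 8)} := fun S _ f => by
        rw [hK1, Ideal.map_span, Set.image_singleton]
      refine resolvable_step (R' := R ⧸ K) (π i) ?_ ?_ φ (hstd i) Ideal.Quotient.mk_surjective
        (Ideal.mk_ker.trans hK1) (Ideal.Quotient.mkₐ R _) Ideal.Quotient.mk_surjective
        (Ideal.mk_ker.trans (hK8 A _)) (Ideal.Quotient.mkₐ R _) Ideal.Quotient.mk_surjective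
        (Ideal.mk_ker.trans (hK8 Λ _)) φK hφK 𝔮 (hπ𝔮 i) hres
      · intro x hx
        have h1 := hR i (Ideal.Quotient.mk _ x) (by rw [← map_pow, ← map_mul, hx, map_zero])
        rw [← map_mul, Ideal.Quotient.eq_zero_iff_mem, hbot] at h1
        exact h1
      · intro x hx
        rw [Algebra.smul_def] at hx ⊢
        rw [map_pow] at hx
        have h1 := hΛ i (Ideal.Quotient.mk _ x) (by rw [← map_pow, ← map_mul, hx, map_zero])
        rw [← map_mul, Ideal.Quotient.eq_zero_iff_mem, hbotΛ] at h1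
        exact h1
    · have hle : powIdeal π (i : ℕ) ≤ RingHom.ker ((Ideal.Quotient.mk
          ((powIdeal π (i : ℕ)).map (algebraMap R Λ))).comp (algebraMap R Λ)) := fun x hx =>
        Ideal.Quotient.eq_zero_iff_mem.2 (Ideal.mem_map_of_mem _ hx)
      let φI : (A ⧸ (powIdeal π (i : ℕ)).map (algebraMap R A)) →ₐ[R ⧸ powIdeal π (i : ℕ)]
          (Λ ⧸ (powIdeal π (i : ℕ)).map (algebraMap R Λ)) :=
        { Ideal.quotientMap _ φ.toRingHom (by
            rw [← Ideal.map_le_iff_le_comap, Ideal.map_map, AlgHom.toRingHom_eq_coe,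
              AlgHom.comp_algebraMap]) with
          commutes' := fun x => by
            obtain ⟨x, rfl⟩ := Ideal.Quotient.mk_surjective x
            show Ideal.quotientMap _ φ.toRingHom _ (Ideal.Quotient.mk _ (algebraMap R A x)) =
              Ideal.Quotient.mk _ (algebraMap R Λ x)
            rw [Ideal.quotientMap_mk]
            exact congrArg _ (φ.commutes x) }
      have hφI : ∀ a : A, φI (Ideal.Quotient.mk _ a) = Ideal.Quotient.mk _ (φ a) := fun a => rfl
      refine ih (by omega) hk0 (powIdeal π (i : ℕ)) rfl φI hφI ?_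
      have hR' := hR i
      have hΛ' := hΛ i
      rw [hI i] at hR'
      rw [hJ i] at hΛ'
      refine resolvable_quot_step φ 𝔮 _ (π i) ?_ (hπ𝔮 i) hR' hΛ' (hstd i) K
        (hK.trans (hsucc i)) φI hφI φK hφK hres
      rw [powIdeal, Ideal.map_span, Ideal.span_le]
      rintro _ ⟨_, ⟨j, _, rfl⟩, rfl⟩
      rw [SetLike.mem_coe, map_pow]
      exact Ideal.pow_mem_of_mem _ (hπ𝔮 j) 8 (by norm_num)

end Groth.Agent.Smooth28
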