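import Groth.Agent.CAlg1.Regular
import Groth.Agent.EGA4Alg4.RegPow

/-!
Parameters with annihilator conditions (07CN).
-/

namespace Groth.Agent.Smooth28

open IsLocalRing

universe u

/-- A regular system of parameters stays regular after raising the first entries to a power. -/
theorem regular_mod_powers {L : Type u} [CommRing L] [IsRegularLocalRing L] {d : ℕ}
    (hd : ringKrullDim L = d) (x : Fin d → L) (hx : Ideal.span (Set.range x) = maximalIdeal L)
    (e : ℕ) (he : 0 < e) (i : Fin d) (z : L)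
    (hz : x i * z ∈ Ideal.span (Set.range fun j : {j : Fin d // (j : ℕ) < (i : ℕ)} => x j ^ e)) :
    z ∈ Ideal.span (Set.range fun j : {j : Fin d // (j : ℕ) < (i : ℕ)} => x j ^ e) := by
  classical
  let v : List ℕ := List.ofFn fun j : Fin d => if (j : ℕ) < i then e else 1
  let w : List L := List.ofFn fun j : Fin d => x j ^ (if (j : ℕ) < (i : ℕ) then e else 1)
  have hw : List.zipWith (· ^ ·) (List.ofFn x) v = w := by
    refine List.ext_getElem (by simp [v, w]) fun j h1 h2 => ?_
    simp [v, w]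
  have hreg : RingTheory.Sequence.IsWeaklyRegular L w := by
    rw [← hw]
    refine EGA4Alg4.isWeaklyRegular_pow _ v (by simp [v]) (fun m hm => ?_)
      (CAlg1.isRegular_params hd x hx).toIsWeaklyRegular
    simp only [v, List.mem_ofFn] at hm
    obtain ⟨j, rfl⟩ := hm
    split_ifs <;> omega
  have h := (RingTheory.Sequence.isWeaklyRegular_iff L w).1 hreg i (by simp [w])
  have htake : Ideal.ofList (w.take i) =
      Ideal.span (Set.range fun j : {j : Fin d // (j : ℕ) < (i : ℕ)} => x j ^ e) := by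
    rw [Ideal.ofList]
    congr 1
    ext a
    simp only [List.mem_take_iff_getElem, Set.mem_ofPred_eq, Set.mem_range, w, List.getElem_ofFn]
    constructor
    · rintro ⟨j, hj, rfl⟩
      simp only [List.length_ofFn, lt_min_iff] at hj
      exact ⟨⟨⟨j, hj.2⟩, hj.1⟩, by simp [hj.1]⟩
    · rintro ⟨⟨j, hj⟩, rfl⟩
      exact ⟨j, lt_min hj (by simp), by simp [hj]⟩
  have hwi : w[(i : ℕ)]'(by simp [w]) = x i := by simp [w]
  rw [hwi, htake, smul_eq_mul, Ideal.mul_top] at h
  rw [← Submodule.Quotient.mk_eq_zero] at hz ⊢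
  exact h.right_eq_zero_of_smul (by rw [← hz]; rfl)

theorem exists_parameters_fixed {Λ : Type u} [CommRing Λ] [IsNoetherianRing Λ] (I q : Ideal Λ)
    [q.IsPrime] (n e d : ℕ) (hn : 0 < n) (he : 0 < e)
    (hpow : (q ^ n).map (algebraMap Λ (Localization.AtPrime q)) ≤ I.map (algebraMap Λ (Localization.AtPrime q)))
    [IsRegularLocalRing (Localization.AtPrime q)] (hd : ringKrullDim (Localization.AtPrime q) = d) :
    ∃ π : Fin d → Λ,
      Ideal.span (Set.range fun i => algebraMap Λ (Localization.AtPrime q) (π i)) =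
        q.map (algebraMap Λ (Localization.AtPrime q)) ∧
      (∀ i, π i ^ n ∈ I) ∧
      ∀ i : Fin d, ∀ x : Λ ⧸ Ideal.span (Set.range fun j : {j : Fin d // (j : ℕ) < (i : ℕ)} => π j ^ e),
        Ideal.Quotient.mk _ (π i) ^ 2 * x = 0 → Ideal.Quotient.mk _ (π i) * x = 0 := by
  classical
  set L := Localization.AtPrime q
  have hmax : q.map (algebraMap Λ L) = maximalIdeal L := Localization.AtPrime.map_eq_maximalIdeal
  -- generators of the maximal ideal
  have hrank : (maximalIdeal L).spanFinrank = d := by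
    have h := IsRegularLocalRing.spanFinrank_maximalIdeal (R := L)
    rw [hd] at h
    exact_mod_cast h
  obtain ⟨s, hs, hspan⟩ :=
    Submodule.FG.exists_span_finset_card_eq_spanFinrank (maximalIdeal L).fg_of_isNoetherianRing
  rw [hrank] at hs
  let y : Fin d → L := fun i => (s.equivFinOfCardEq hs).symm i
  have hy : Ideal.span (Set.range y) = maximalIdeal L := by
    refine Eq.trans ?_ hspan
    congr 1
    ext z
    constructor
    · rintro ⟨i, rfl⟩
      exact ((s.equivFinOfCardEq hs).symm i).2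
    · intro hz
      exact ⟨s.equivFinOfCardEq hs ⟨z, hz⟩, by simp [y]⟩
  choose a t hat using fun i => IsLocalization.exists_mk'_eq q.primeCompl (y i)
  have ha : ∀ i, algebraMap Λ L (a i) = y i * algebraMap Λ L (t i) := fun i => by
    rw [← hat i, IsLocalization.mk'_spec]
  have haq : ∀ i, a i ∈ q := fun i => by
    have h : algebraMap Λ L (a i) ∈ maximalIdeal L := by
      rw [ha, ← hy]; exact Ideal.mul_mem_right _ _ (Ideal.subset_span ⟨i, rfl⟩)
    rw [IsLocalization.AtPrime.to_map_mem_maximal_iff L q] at h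
    exact h
  -- one denominator for the power
  obtain ⟨G, hG⟩ := (q ^ n).fg_of_isNoetherianRing
  have hcl : ∀ x ∈ G, ∃ f ∈ q.primeCompl, f * x ∈ I := fun x hx =>
    (IsLocalization.algebraMap_mem_map_algebraMap_iff q.primeCompl L I x).1
      (hpow (Ideal.mem_map_of_mem _ (hG ▸ Submodule.subset_span hx)))
  choose F hF hFI using hcl
  let f : Λ := ∏ x ∈ G.attach, F x.1 x.2
  have hf : f ∉ q := prod_mem (S := q.primeCompl) fun x _ => hF x.1 x.2
  have hfI : ∀ z ∈ q ^ n, f * z ∈ I := by
    intro z hz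
    rw [← hG] at hz
    induction hz using Submodule.span_induction with
    | mem x hx =>
      obtain ⟨c, hc⟩ : F x hx ∣ f := Finset.dvd_prod_of_mem (fun z : {z // z ∈ G} => F z.1 z.2) (Finset.mem_attach G ⟨x, hx⟩)
      rw [hc, mul_right_comm]
      exact Ideal.mul_mem_right _ _ (hFI x hx)
    | zero => simp
    | add x z _ _ hx hz => rw [mul_add]; exact add_mem hx hz
    | smul r x _ hx => rw [smul_eq_mul, mul_left_comm]; exact I.mul_mem_left r hx
  -- successive corrections
  suffices H : ∀ k ≤ d, ∃ π : Fin d → Λ, (∀ i, ∃ u ∉ q, π i = u * a i ∧ f ∣ u) ∧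
      ∀ i : Fin d, (i : ℕ) < k →
        ∀ x : Λ ⧸ Ideal.span (Set.range fun j : {j : Fin d // (j : ℕ) < (i : ℕ)} => π j ^ e),
          Ideal.Quotient.mk _ (π i) ^ 2 * x = 0 → Ideal.Quotient.mk _ (π i) * x = 0 by
    obtain ⟨π, hπ, hann⟩ := H d le_rfl
    choose u hu hπu hfu using hπ
    refine ⟨π, ?_, fun i => ?_, fun i => hann i i.2⟩
    · rw [hmax, ← hy]
      refine le_antisymm (Ideal.span_le.2 ?_) (Ideal.span_le.2 ?_)
      · rintro _ ⟨i, rfl⟩
        show algebraMap Λ L (π i) ∈ _
        rw [hπu, map_mul]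
        refine Ideal.mul_mem_left _ _ ?_
        rw [ha]
        exact Ideal.mul_mem_right _ _
          (Ideal.subset_span (Set.mem_range_self (f := y) i) : y i ∈ Ideal.span (Set.range y))
      · rintro _ ⟨i, rfl⟩
        have h : algebraMap Λ L (π i) ∈ Ideal.span (Set.range fun i => algebraMap Λ L (π i)) :=
          Ideal.subset_span ⟨i, rfl⟩
        rw [hπu, map_mul, ha, ← mul_assoc, Ideal.mul_unit_mem_iff_mem _
          (IsLocalization.map_units L (t i)), Ideal.unit_mul_mem_iff_mem _
          (IsLocalization.map_units L (⟨u i, hu i⟩ : q.primeCompl))] at h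
        exact h
    · obtain ⟨c, hc⟩ := hfu i
      obtain ⟨m, rfl⟩ : ∃ m, n = m + 1 := ⟨n - 1, by omega⟩
      rw [hπu, hc, show (f * c * a i) ^ (m + 1) = f ^ m * c ^ (m + 1) * (f * a i ^ (m + 1)) by ring]
      exact I.mul_mem_left _ (hfI _ (Ideal.pow_mem_pow (haq i) _))
  intro k
  induction k with
  | zero => exact fun _ => ⟨fun i => f * a i, fun i => ⟨f, hf, rfl, dvd_rfl⟩, fun i hi => absurd hi (by omega)⟩
  | succ k ih =>
    intro hk
    obtain ⟨π, hπ, hann⟩ := ih (by omega)
    let i₀ : Fin d := ⟨k, by omega⟩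
    set J := Ideal.span (Set.range fun j : {j : Fin d // (j : ℕ) < (i₀ : ℕ)} => π j ^ e) with hJ
    let p := Ideal.Quotient.mk J (π i₀)
    let A2 : Ideal (Λ ⧸ J) := (Submodule.span (Λ ⧸ J) {p ^ 2}).annihilator
    have hA2 : ∀ x, x ∈ A2 ↔ p ^ 2 * x = 0 := fun x => by
      rw [Submodule.mem_annihilator_span_singleton, smul_eq_mul, mul_comm]
    choose u hu hπu hfu using hπ
    let xL : Fin d → L := y
    have hJL : J.map (algebraMap Λ L) =
        Ideal.span (Set.range fun j : {j : Fin d // (j : ℕ) < (i₀ : ℕ)} => y j ^ e) := by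
      rw [hJ, Ideal.map_span, ← Set.range_comp]
      have hunit : ∀ j, IsUnit (algebraMap Λ L (u j) * algebraMap Λ L (t j)) := fun j =>
        (IsLocalization.map_units L (⟨u j, hu j⟩ : q.primeCompl)).mul (IsLocalization.map_units L (t j))
      have he' : ∀ j, algebraMap Λ L (π j ^ e) =
          (algebraMap Λ L (u j) * algebraMap Λ L (t j)) ^ e * y j ^ e := fun j => by
        rw [map_pow, hπu, map_mul, ha]; ring
      refine le_antisymm (Ideal.span_le.2 ?_) (Ideal.span_le.2 ?_)
      · rintro _ ⟨j, rfl⟩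
        show algebraMap Λ L (π j ^ e) ∈ _
        rw [he']
        exact Ideal.mul_mem_left _ _ (Ideal.subset_span ⟨j, rfl⟩)
      · rintro _ ⟨j, rfl⟩
        have h : algebraMap Λ L (π j ^ e) ∈ Ideal.span
            (Set.range (algebraMap Λ L ∘ fun j : {j : Fin d // (j : ℕ) < (i₀ : ℕ)} => π j ^ e)) :=
          Ideal.subset_span ⟨j, rfl⟩
        rw [he', Ideal.unit_mul_mem_iff_mem _ ((hunit _).pow e)] at h
        exact h
    have hkill : ∀ x ∈ A2, ∃ g ∈ q.primeCompl, Ideal.Quotient.mk J g * x = 0 := by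
      intro x hx
      obtain ⟨x, rfl⟩ := Ideal.Quotient.mk_surjective x
      rw [hA2, ← map_pow, ← map_mul, Ideal.Quotient.eq_zero_iff_mem] at hx
      have h1 := Ideal.mem_map_of_mem (algebraMap Λ L) hx
      rw [hJL, map_mul, map_pow, hπu, map_mul, ha] at h1
      have hu' : IsUnit ((algebraMap Λ L (u i₀) * algebraMap Λ L (t i₀)) ^ 2) :=
        ((IsLocalization.map_units L (⟨u i₀, hu i₀⟩ : q.primeCompl)).mul (IsLocalization.map_units L (t i₀))).pow 2
      rw [show (algebraMap Λ L (u i₀) * (y i₀ * algebraMap Λ L (t i₀))) ^ 2 * algebraMap Λ L x =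
        (algebraMap Λ L (u i₀) * algebraMap Λ L (t i₀)) ^ 2 * (y i₀ * (y i₀ * algebraMap Λ L x)) by ring,
        Ideal.unit_mul_mem_iff_mem _ hu'] at h1
      have h2 := regular_mod_powers hd y hy e he i₀ _ (regular_mod_powers hd y hy e he i₀ _ h1)
      rw [← hJL] at h2
      obtain ⟨g, hg, hgx⟩ := (IsLocalization.algebraMap_mem_map_algebraMap_iff q.primeCompl L J x).1 h2
      exact ⟨g, hg, by rw [← map_mul, Ideal.Quotient.eq_zero_iff_mem]; exact hgx⟩
    obtain ⟨S, hS⟩ := A2.fg_of_isNoetherianRing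
    choose Gf hGf hGx using fun x (hx : x ∈ S) => hkill x (hS ▸ Submodule.subset_span hx)
    let g₀ : Λ := ∏ x ∈ S.attach, Gf x.1 x.2
    have hg₀ : g₀ ∉ q := prod_mem (S := q.primeCompl) fun x _ => hGf x.1 x.2
    have hg₀A : ∀ x ∈ A2, Ideal.Quotient.mk J g₀ * x = 0 := by
      intro x hx
      rw [← hS] at hx
      induction hx using Submodule.span_induction with
      | mem x hx =>
        obtain ⟨c, hc⟩ : Gf x hx ∣ g₀ := Finset.dvd_prod_of_mem (fun z : {z // z ∈ S} => Gf z.1 z.2) (Finset.mem_attach S ⟨x, hx⟩)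
        rw [hc, map_mul, mul_right_comm, hGx x hx, zero_mul]
      | zero => simp
      | add x z _ _ hx hz => rw [mul_add, hx, hz, add_zero]
      | smul r x _ hx => rw [smul_eq_mul, mul_left_comm, hx, mul_zero]
    let G' := Ideal.Quotient.mk J g₀
    let chain : ℕ →o Ideal (Λ ⧸ J) :=
      ⟨fun m => (Submodule.span (Λ ⧸ J) {G' ^ m}).annihilator, fun m m' hmm' x hx => by
        rw [Submodule.mem_annihilator_span_singleton, smul_eq_mul] at hx ⊢
        rw [← Nat.add_sub_cancel' hmm', pow_add, ← mul_assoc, hx, zero_mul]⟩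
    obtain ⟨M, hM⟩ := monotone_stabilizes_iff_noetherian.2 inferInstance chain
    have hstab : ∀ x : Λ ⧸ J, G' ^ (2 * M + 1) * x = 0 → G' ^ M * x = 0 := fun x hx => by
      have h1 : x ∈ chain (2 * M + 1) := by
        show x ∈ (Submodule.span (Λ ⧸ J) {G' ^ (2 * M + 1)}).annihilator
        rw [Submodule.mem_annihilator_span_singleton, smul_eq_mul, mul_comm]; exact hx
      rw [← hM (2 * M + 1) (by omega)] at h1
      have h2 : x ∈ (Submodule.span (Λ ⧸ J) {G' ^ M}).annihilator := h1
      rwa [Submodule.mem_annihilator_span_singleton, smul_eq_mul, mul_comm] at h2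
    refine ⟨Function.update π i₀ (g₀ ^ M * π i₀), fun i => ?_, fun i hi => ?_⟩
    · rcases eq_or_ne i i₀ with rfl | hne
      · exact ⟨g₀ ^ M * u i₀, fun h => (Ideal.IsPrime.mem_or_mem ‹_› h).elim
          (fun h => hg₀ (Ideal.IsPrime.mem_of_pow_mem ‹_› _ h)) (hu i₀),
          by rw [Function.update_self, hπu, mul_assoc], (hfu i₀).mul_left _⟩
      · exact ⟨u i, hu i, by rw [Function.update_of_ne hne]; exact hπu i, hfu i⟩
    · have hsame : (fun j : {j : Fin d // (j : ℕ) < (i : ℕ)} =>
          Function.update π i₀ (g₀ ^ M * π i₀) j ^ e) =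
          (fun j : {j : Fin d // (j : ℕ) < (i : ℕ)} => π j ^ e) := by
        funext j
        rw [Function.update_of_ne]
        intro h
        have := j.2
        rw [h] at this
        simp only [i₀] at this
        omega
      rw [hsame]
      rcases Nat.lt_succ_iff_lt_or_eq.1 hi with hlt | heq
      · rw [Function.update_of_ne (fun h => by rw [h] at hlt; simp [i₀] at hlt)]
        exact hann i hlt
      · obtain rfl : i = i₀ := Fin.ext heq
        rw [Function.update_self]
        intro x hx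
        rw [map_mul, map_pow] at hx ⊢
        rw [show (G' ^ M * p) ^ 2 * x = p ^ 2 * (G' ^ (2 * M) * x) by ring, ← hA2] at hx
        have h1 := hstab x (by rw [pow_succ', mul_assoc]; exact hg₀A _ hx)
        show G' ^ M * p * x = 0
        rw [mul_right_comm, h1, zero_mul]

theorem exists_parameters {Λ : Type u} [CommRing Λ] [IsNoetherianRing Λ] (I q : Ideal Λ)
    [q.IsPrime] (n e d : ℕ) (hn : 0 < n) (he : 0 < e)
    (hpow : (q ^ n).map (algebraMap Λ (Localization.AtPrime q)) ≤ I.map (algebraMap Λ (Localization.AtPrime q)))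
    [IsRegularLocalRing (Localization.AtPrime q)] (hd : ringKrullDim (Localization.AtPrime q) = d) :
    ∃ (N : ℕ) (π : Fin d → Λ), 0 < N ∧
      Ideal.span (Set.range fun i => algebraMap Λ (Localization.AtPrime q) (π i)) =
        q.map (algebraMap Λ (Localization.AtPrime q)) ∧
      (∀ i, π i ^ N ∈ I) ∧
      ∀ i : Fin d, ∀ x : Λ ⧸ Ideal.span (Set.range fun j : {j : Fin d // (j : ℕ) < (i : ℕ)} => π j ^ e),
        Ideal.Quotient.mk _ (π i) ^ 2 * x = 0 → Ideal.Quotient.mk _ (π i) * x = 0 :=
  let ⟨π, h⟩ := exists_parameters_fixed I q n e d hn he hpow hd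
  ⟨n, π, hn, h⟩

end Groth.Agent.Smooth28
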