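import Groth.Agent.Smooth28.SynCotangent
import Groth.Agent.Smooth28.Idem
import Groth.Agent.Smooth28.Det
import Mathlib.RingTheory.RingHom.StandardSmooth

/-! An etale neighbourhood on which the lifted conormal idempotent exists. -/

set_option autoImplicit false
universe u

open MvPolynomial Matrix

namespace Groth.Agent.Smooth28

theorem isStandardSmooth_mvPolynomial (R : Type u) [CommRing R] (n : ℕ) :
    Algebra.IsStandardSmoothOfRelativeDimension n R (MvPolynomial (Fin n) R) := by
  let v : Fin 0 → MvPolynomial (Fin n) R := Fin.elim0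
  let pres : Algebra.PreSubmersivePresentation R (MvPolynomial (Fin n) R ⧸ Ideal.span (Set.range v))
      (Fin n) (Fin 0) := Algebra.PreSubmersivePresentation.naive Fin.elim0 (fun a => a.elim0)
  have hjac : IsUnit pres.jacobian := by
    rw [Algebra.PreSubmersivePresentation.jacobian_eq_jacobiMatrix_det, Matrix.det_isEmpty, map_one]
    exact isUnit_one
  have : Algebra.IsStandardSmoothOfRelativeDimension n R (MvPolynomial (Fin n) R ⧸ Ideal.span (Set.range v)) :=
    Algebra.SubmersivePresentation.isStandardSmoothOfRelativeDimension ⟨pres, hjac⟩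
      (by simp [Algebra.Presentation.dimension])
  have hbot : Ideal.span (Set.range v) = ⊥ := by
    rw [Set.range_eq_empty, Ideal.span_empty]
  exact Algebra.IsStandardSmoothOfRelativeDimension.of_algEquiv n
    ((Ideal.quotientEquivAlgOfEq R hbot).trans (AlgEquiv.quotientBot R _))

/-- An etale neighbourhood of a closed set is the identity on it after localising. -/
theorem exists_mul_ker_mem {P P' T : Type u} [CommRing P] [CommRing P'] [CommRing T] [Algebra P P']
    [Algebra P T] [Algebra.FormallyUnramified P P'] [Algebra.FiniteType P P'] (π : P' →ₐ[P] T)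
    (K : Ideal P) (hK : RingHom.ker (algebraMap P T) = K) (hT : Function.Surjective (algebraMap P T)) :
    ∃ g : P', π g = 1 ∧ ∀ x, π x = 0 → g * x ∈ K.map (algebraMap P P') := by
  classical
  let N := RingHom.ker π.toRingHom
  let K' := K.map (algebraMap P P')
  have hK' : K' ≤ N := Ideal.map_le_iff_le_comap.2 fun x hx => by
    show π (algebraMap P P' x) = 0
    rw [AlgHom.commutes]
    exact RingHom.mem_ker.1 (hK ▸ hx : x ∈ RingHom.ker (algebraMap P T))
  -- generators of the kernel
  obtain ⟨s, hs⟩ := (inferInstance : Algebra.FiniteType P P').out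
  choose σ hσ using hT
  let L := Ideal.span ((fun x => x - algebraMap P P' (σ (π x))) '' (s : Set P'))
  have hL : L ≤ N := Ideal.span_le.2 (by
    rintro _ ⟨x, -, rfl⟩
    show π (x - algebraMap P P' (σ (π x))) = 0
    rw [map_sub, AlgHom.commutes, hσ, sub_self])
  have hNL : ∀ x, ∃ p, x - algebraMap P P' p ∈ L := by
    intro x
    have hx : x ∈ Algebra.adjoin P (s : Set P') := hs ▸ Algebra.mem_top
    refine Algebra.adjoin_induction (fun y hy => ⟨_, Ideal.subset_span ⟨y, hy, rfl⟩⟩)
      (fun p => ⟨p, by rw [sub_self]; exact zero_mem _⟩) ?_ ?_ hx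
    · rintro a b - - ⟨p, hp⟩ ⟨q, hq⟩
      exact ⟨p + q, by rw [map_add, add_sub_add_comm]; exact add_mem hp hq⟩
    · rintro a b - - ⟨p, hp⟩ ⟨q, hq⟩
      refine ⟨p * q, ?_⟩
      rw [map_mul, show a * b - algebraMap P P' p * algebraMap P P' q =
        a * (b - algebraMap P P' q) + (a - algebraMap P P' p) * algebraMap P P' q by ring]
      exact add_mem (L.mul_mem_left _ hq) (L.mul_mem_right _ hp)
  have hN : N ≤ K' ⊔ L := by
    intro x hx
    obtain ⟨p, hp⟩ := hNL x
    rw [← add_sub_cancel (algebraMap P P' p) x]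
    refine add_mem (Submodule.mem_sup_left (Ideal.mem_map_of_mem _ ?_)) (Submodule.mem_sup_right hp)
    rw [← hK, RingHom.mem_ker, ← π.commutes]
    have h1 : π (x - algebraMap P P' p) = 0 := hL hp
    rwa [map_sub, show π x = 0 from hx, zero_sub, neg_eq_zero] at h1
  have hsq : N ≤ K' ⊔ N * L := by
    intro x hx
    let J := N * N ⊔ K'
    have hJN : J ≤ N := sup_le Ideal.mul_le_right hK'
    let f : P' ⧸ J →+* P' ⧸ N := Ideal.Quotient.factor hJN
    have hker : IsNilpotent (RingHom.ker f) := by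
      refine ⟨2, ?_⟩
      rw [Ideal.Quotient.factor_ker, ← Ideal.map_pow, Ideal.zero_eq_bot, Ideal.map_eq_bot_iff_le_ker, Ideal.mk_ker,
        pow_two]
      exact le_sup_left
    let s₀ : T →ₐ[P] P' ⧸ J :=
      { toFun := fun t => Ideal.Quotient.mk J (algebraMap P P' (σ t))
        map_one' := by
          rw [← map_one (Ideal.Quotient.mk J), Ideal.Quotient.eq, ← map_one (algebraMap P P'), ← map_sub]
          exact Submodule.mem_sup_right (Ideal.mem_map_of_mem _ (by rw [← hK, RingHom.mem_ker, map_sub, hσ, map_one, sub_self]))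
        map_mul' := fun a b => by
          rw [← map_mul, Ideal.Quotient.eq, ← map_mul, ← map_sub]
          exact Submodule.mem_sup_right (Ideal.mem_map_of_mem _ (by rw [← hK, RingHom.mem_ker, map_sub, hσ, map_mul, hσ, hσ, sub_self]))
        map_zero' := by
          rw [← map_zero (Ideal.Quotient.mk J), Ideal.Quotient.eq, sub_zero]
          exact Submodule.mem_sup_right (Ideal.mem_map_of_mem _ (by rw [← hK, RingHom.mem_ker, hσ]))
        map_add' := fun a b => by
          rw [← map_add, Ideal.Quotient.eq, ← map_add, ← map_sub]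
          exact Submodule.mem_sup_right (Ideal.mem_map_of_mem _ (by rw [← hK, RingHom.mem_ker, map_sub, hσ, map_add, hσ, hσ, sub_self]))
        commutes' := fun p => by
          rw [IsScalarTower.algebraMap_apply P P' (P' ⧸ J), Ideal.Quotient.algebraMap_eq, Ideal.Quotient.eq, ← map_sub]
          exact Submodule.mem_sup_right (Ideal.mem_map_of_mem _ (by rw [← hK, RingHom.mem_ker, map_sub, hσ, sub_self])) }
    have heq : Ideal.Quotient.mkₐ P J = s₀.comp π := Algebra.FormallyUnramified.ext' f hker _ _ fun y => by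
      show f (Ideal.Quotient.mk J y) = f (Ideal.Quotient.mk J (algebraMap P P' (σ (π y))))
      rw [Ideal.Quotient.factor_mk, Ideal.Quotient.factor_mk, Ideal.Quotient.eq]
      show π (y - algebraMap P P' (σ (π y))) = 0
      rw [map_sub, AlgHom.commutes, hσ, sub_self]
    have hxJ : x ∈ J := by
      rw [← Ideal.Quotient.eq_zero_iff_mem, show Ideal.Quotient.mk J x = s₀ (π x) from AlgHom.congr_fun heq x,
        show π x = 0 from hx, map_zero]
    refine (sup_le ?_ le_sup_left : J ≤ K' ⊔ N * L) hxJ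
    refine (Ideal.mul_mono_right hN).trans ?_
    rw [Ideal.mul_sup]
    exact sup_le_sup_right Ideal.mul_le_right _
  obtain ⟨g, d, hg, hgL⟩ := exists_sub_pow_mem_and_mul_mem (I := L) (J := K') (Q := N)
    (Submodule.fg_span (s.finite_toSet.image _)) 1 (fun x hx => by rw [one_mul]; exact hsq (hL hx))
  rw [one_pow] at hg
  refine ⟨g, ?_, fun x hx => ?_⟩
  · have : π (g - 1) = 0 := hg
    rwa [map_sub, map_one, sub_eq_zero] at this
  · obtain ⟨k, hk, l, hl, rfl⟩ := Submodule.mem_sup.1 (hN hx)
    rw [mul_add]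
    exact add_mem (Ideal.mul_mem_left _ _ hk) (hgL l hl)

/-- **The neighbourhood with a split lift.** -/
theorem exists_etale_split {R : Type u} [CommRing R] (I : Ideal R) {n m : ℕ}
    (f : Fin m → MvPolynomial (Fin n) R) (E : Matrix (Fin m) (Fin m) (MvPolynomial (Fin n) R))
    (K : Ideal (MvPolynomial (Fin n) R)) (hK : K = I.map MvPolynomial.C ⊔ Ideal.span (Set.range f))
    (hE : ∀ i, f i - ∑ j, E i j * f j ∈ I.map MvPolynomial.C ⊔ Ideal.span (Set.range f) ^ 2)
    (hE2 : ∀ i j, (E * E) i j - E i j ∈ K) :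
    ∃ (P' : Type u) (_ : CommRing P') (_ : Algebra R P') (_ : Algebra (MvPolynomial (Fin n) R) P')
      (_ : IsScalarTower R (MvPolynomial (Fin n) R) P'),
      Algebra.IsStandardSmoothOfRelativeDimension n R P' ∧
      ∃ (θ : P' →ₐ[MvPolynomial (Fin n) R] MvPolynomial (Fin n) R ⧸ K) (E' : Matrix (Fin m) (Fin m) P'),
        E' * E' = E' ∧ (∀ i j, θ (E' i j) = Ideal.Quotient.mk K (E i j)) ∧
        RingHom.ker θ.toRingHom = I.map (algebraMap R P') ⊔
          Ideal.span (Set.range (E' *ᵥ fun j => algebraMap (MvPolynomial (Fin n) R) P' (f j))) := by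
  classical
  let P := MvPolynomial (Fin n) R
  let T := P ⧸ K
  have hid : IsIdempotentElem (E.map (algebraMap P T)) := by
    show _ = _
    rw [← Matrix.map_mul]
    ext i j
    exact Ideal.Quotient.eq.2 (hE2 i j)
  obtain ⟨P₁, _, _, hEt, π, hπ, E₁, hE₁, hπE⟩ :=
    exists_etale_idempotent_lift (P := P) (A₀ := T) Ideal.Quotient.mk_surjective E hid
  have hπE' : ∀ i j, π (E₁ i j) = Ideal.Quotient.mk K (E i j) := fun i j => congrFun (congrFun hπE i) j
  obtain ⟨g₁, hg₁, hg₁'⟩ := exists_mul_ker_mem π K (by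
    rw [Ideal.Quotient.algebraMap_eq, Ideal.mk_ker]) Ideal.Quotient.mk_surjective
  let _ : Algebra R P₁ := ((algebraMap P P₁).comp MvPolynomial.C).toAlgebra
  have : IsScalarTower R P P₁ := IsScalarTower.of_algebraMap_eq fun r => rfl
  have hKP : K.map (algebraMap P P₁) =
      I.map (algebraMap R P₁) ⊔ Ideal.span (Set.range fun j => algebraMap P P₁ (f j)) := by
    rw [hK, Ideal.map_sup, Ideal.map_map, Ideal.map_span, ← Set.range_comp]
    rfl
  let F : Ideal P₁ := Ideal.span (Set.range fun j => algebraMap P P₁ (f j))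
  let J : Ideal P₁ := I.map (algebraMap R P₁) ⊔ Ideal.span (Set.range (E₁ *ᵥ fun j => algebraMap P P₁ (f j)))
  let N := RingHom.ker π.toRingHom
  have hFN : F ≤ N := Ideal.span_le.2 (by
    rintro _ ⟨j, rfl⟩
    show π (algebraMap P P₁ (f j)) = 0
    rw [AlgHom.commutes]
    exact Ideal.Quotient.eq_zero_iff_mem.2 (hK ▸ Submodule.mem_sup_right (Ideal.subset_span ⟨j, rfl⟩)))
  have hstep : ∀ x ∈ F, (1 : P₁) * x ∈ J ⊔ N * F := by
    intro x hx
    rw [one_mul]
    refine (Ideal.span_le.2 ?_ : F ≤ J ⊔ N * F) hx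
    rintro _ ⟨i, rfl⟩
    show algebraMap P P₁ (f i) ∈ J ⊔ N * F
    have hsplit : algebraMap P P₁ (f i) = algebraMap P P₁ (f i - ∑ j, E i j * f j) +
        (∑ j, (algebraMap P P₁ (E i j) - E₁ i j) * algebraMap P P₁ (f j) +
          (E₁ *ᵥ fun j => algebraMap P P₁ (f j)) i) := by
      simp only [Matrix.mulVec, dotProduct, map_sub, map_sum, map_mul, sub_mul, Finset.sum_sub_distrib]
      ring
    rw [hsplit]
    refine add_mem ?_ (add_mem (sum_mem fun j _ => Submodule.mem_sup_right (Ideal.mul_mem_mul ?_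
      (Ideal.subset_span ⟨j, rfl⟩))) (Submodule.mem_sup_left (Submodule.mem_sup_right (Ideal.subset_span ⟨i, rfl⟩))))
    · have h1 := Ideal.mem_map_of_mem (algebraMap P P₁) (hE i)
      rw [Ideal.map_sup, Ideal.map_map, Ideal.map_pow, Ideal.map_span, ← Set.range_comp, pow_two] at h1
      obtain ⟨a, ha, b, hb, hab⟩ := Submodule.mem_sup.1 h1
      rw [← hab]
      exact add_mem (Submodule.mem_sup_left (Submodule.mem_sup_left ha))
        (Submodule.mem_sup_right (Ideal.mul_mono_left hFN hb))
    · show π (algebraMap P P₁ (E i j) - E₁ i j) = 0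
      rw [map_sub, AlgHom.commutes, hπE', Ideal.Quotient.algebraMap_eq, sub_self]
  obtain ⟨g₂, d, hg₂, hg₂'⟩ := exists_sub_pow_mem_and_mul_mem (Submodule.fg_span (Set.finite_range _)) 1 hstep
  rw [one_pow] at hg₂
  have hu : π (g₁ * g₂) = 1 := by
    have h2 : π (g₂ - 1) = 0 := hg₂
    rw [map_sub, map_one, sub_eq_zero] at h2
    rw [map_mul, hg₁, h2, one_mul]
  have hkey : ∀ x, π x = 0 → g₁ * g₂ * x ∈ J := by
    intro x hx
    rw [mul_comm g₁ g₂, mul_assoc]
    have h1 := hg₁' x hx
    rw [hKP] at h1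
    obtain ⟨a, ha, b, hb, hab⟩ := Submodule.mem_sup.1 h1
    rw [← hab, mul_add]
    exact add_mem (Ideal.mul_mem_left _ _ (Submodule.mem_sup_left ha)) (hg₂' b hb)
  let P' := Localization.Away (g₁ * g₂)
  have : IsScalarTower R P P' := IsScalarTower.of_algebraMap_eq fun r => by
    rw [IsScalarTower.algebraMap_apply R P₁ P', IsScalarTower.algebraMap_apply P P₁ P']
    rfl
  let θ : P' →ₐ[P] T := IsLocalization.liftAlgHom (M := Submonoid.powers (g₁ * g₂)) (S := P') (f := π) (by
    rintro ⟨_, k, rfl⟩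
    rw [map_pow, hu, one_pow]
    exact isUnit_one)
  have hθ : ∀ x, θ (algebraMap P₁ P' x) = π x := fun x => IsLocalization.lift_eq _ x
  let E' : Matrix (Fin m) (Fin m) P' := (algebraMap P₁ P').mapMatrix E₁
  have hvec : ∀ i, (E' *ᵥ fun j => algebraMap P P' (f j)) i =
      algebraMap P₁ P' ((E₁ *ᵥ fun j => algebraMap P P₁ (f j)) i) := fun i => by
    simp only [Matrix.mulVec, dotProduct, map_sum, map_mul, ← IsScalarTower.algebraMap_apply, E',
      RingHom.mapMatrix_apply, Matrix.map_apply]
  refine ⟨P', inferInstance, inferInstance, inferInstance, inferInstance, ?_, θ, E', ?_, fun i j => ?_, ?_⟩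
  · have := isStandardSmooth_mvPolynomial R n
    have : Algebra.IsStandardSmoothOfRelativeDimension 0 P P₁ :=
      Algebra.Etale.iff_isStandardSmoothOfRelativeDimension_zero.1 hEt
    have : Algebra.IsStandardSmoothOfRelativeDimension 0 P₁ P' :=
      Algebra.IsStandardSmoothOfRelativeDimension.localization_away (g₁ * g₂)
    have : Algebra.IsStandardSmoothOfRelativeDimension (0 + n) R P₁ :=
      Algebra.IsStandardSmoothOfRelativeDimension.trans n 0 R P P₁
    have h' := Algebra.IsStandardSmoothOfRelativeDimension.trans (0 + n) 0 R P₁ P'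
    simpa using h'
  · rw [← map_mul, hE₁.eq]
  · exact (hθ _).trans (hπE' i j)
  · refine le_antisymm (fun z hz => ?_) (sup_le (Ideal.map_le_iff_le_comap.2 fun r hr => ?_) (Ideal.span_le.2 ?_))
    · obtain ⟨k, x, hx⟩ := IsLocalization.Away.surj (g₁ * g₂) z
      have hπx : π x = 0 := by
        rw [← hθ, ← hx, map_mul, show θ z = 0 from hz, zero_mul]
      refine (Ideal.mul_unit_mem_iff_mem _ ((IsLocalization.Away.algebraMap_isUnit (S := P') (g₁ * g₂)).pow (k + 1))).1 ?_
      rw [pow_succ, ← mul_assoc, hx, ← map_mul, mul_comm x]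
      have h1 := Ideal.mem_map_of_mem (algebraMap P₁ P') (hkey x hπx)
      rw [Ideal.map_sup, Ideal.map_map, ← IsScalarTower.algebraMap_eq, Ideal.map_span, ← Set.range_comp] at h1
      rwa [show (algebraMap P₁ P' ∘ (E₁ *ᵥ fun j => algebraMap P P₁ (f j))) =
        E' *ᵥ fun j => algebraMap P P' (f j) from funext fun i => (hvec i).symm] at h1
    · show θ (algebraMap R P' r) = 0
      rw [IsScalarTower.algebraMap_apply R P P', AlgHom.commutes]
      exact Ideal.Quotient.eq_zero_iff_mem.2 (hK ▸ Submodule.mem_sup_left (Ideal.mem_map_of_mem _ hr))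
    · rintro _ ⟨i, rfl⟩
      show θ _ = 0
      rw [hvec, hθ]
      simp only [Matrix.mulVec, dotProduct, map_sum, map_mul]
      exact Finset.sum_eq_zero fun j _ => mul_eq_zero_of_right _ (hFN (Ideal.subset_span ⟨j, rfl⟩))

end Groth.Agent.Smooth28
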