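import Groth.Agent.Smooth28.DesingTools
import Groth.Agent.Smooth28.Singular

/-!
Desingularization.
-/

namespace Groth.Agent.Smooth28

open MvPolynomial

universe u

variable {R : Type u} [CommRing R] {n m c : ℕ}

theorem smooth_polynomial {S : Type u} [CommRing S] [Algebra R S] [Algebra.Smooth R S] (c : ℕ) :
    Algebra.Smooth R (MvPolynomial (Fin c) S) :=
  haveI : Algebra.Smooth S (MvPolynomial (Fin c) S) := ⟨inferInstance, inferInstance⟩
  Algebra.Smooth.comp R S (MvPolynomial (Fin c) S)

theorem desing_smooth_away {A : Type u} [CommRing A] [Algebra R A] (π : R)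
    (Aπ : Type u) [CommRing Aπ] [Algebra R Aπ] [Algebra A Aπ] [IsScalarTower R A Aπ]
    [IsLocalization.Away (algebraMap R A π) Aπ] [Algebra.Smooth R Aπ]
    (f : Fin m → MvPolynomial (Fin n) R) (hom : MvPolynomial (Fin n) R →ₐ[R] A)
    (hsurj : Function.Surjective hom) (hker : RingHom.ker hom.toRingHom = Ideal.span (Set.range f))
    (rows : Fin c → Fin m) (b : Fin n → MvPolynomial (Fin c) R)
    (x : Fin n → MvPolynomial (Fin (n + c)) R)
    (hx : ∀ i, x i = MvPolynomial.C (π ^ 3) * X (Fin.castAdd c i) + rename (Fin.natAdd n) (b i))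
    (g : Fin c → MvPolynomial (Fin (n + c)) R)
    (hgx : ∀ k, aeval x (f (rows k)) = MvPolynomial.C (π ^ 3) * g k)
    (Q : Ideal (MvPolynomial (Fin (n + c)) R ⧸ Ideal.span (Set.range (desingRels f x g)))) [Q.IsPrime]
    (hπQ : algebraMap R _ π ∉ Q) : Algebra.IsSmoothAt R Q := by
  classical
  let B := MvPolynomial (Fin (n + c)) R ⧸ Ideal.span (Set.range (desingRels f x g))
  haveI : Algebra.FinitePresentation R B :=
    Algebra.FinitePresentation.quotient (Submodule.fg_span (Set.finite_range _))
  let mkB : MvPolynomial (Fin (n + c)) R →ₐ[R] B := Ideal.Quotient.mkₐ R _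
  let S := MvPolynomial (Fin c) Aπ
  haveI : Algebra.Smooth R S := smooth_polynomial c
  let T := Localization.Away (algebraMap R B π)
  have hπA : IsUnit (algebraMap R Aπ π) := by
    rw [IsScalarTower.algebraMap_apply R A Aπ]
    exact IsLocalization.Away.algebraMap_isUnit _
  have hπT : IsUnit (algebraMap R T π) := by
    rw [IsScalarTower.algebraMap_apply R B T]
    exact IsLocalization.Away.algebraMap_isUnit _
  have hπS : IsUnit (algebraMap R S (π ^ 3)) := by
    rw [IsScalarTower.algebraMap_apply R Aπ S, map_pow]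
    exact (hπA.pow 3).map _
  obtain ⟨p, hp⟩ := hπS.exists_left_inv
  -- the map to the polynomial algebra
  let a : Fin n → S := fun i => MvPolynomial.C (algebraMap A Aπ (hom (X i)))
  let β : MvPolynomial (Fin c) R →ₐ[R] S := aeval fun i => X i
  let F : MvPolynomial (Fin (n + c)) R →ₐ[R] S :=
    aeval (Fin.append (fun i => p * (a i - β (b i))) fun i => X i)
  have hFx : ∀ i, F (x i) = a i := fun i => by
    have h1 : F (rename (Fin.natAdd n) (b i)) = β (b i) := by
      simp only [F, β, aeval_rename]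
      congr 1
      exact MvPolynomial.algHom_ext fun k => by simp
    rw [hx, map_add, map_mul, h1, algHom_C, aeval_X, Fin.append_left]
    linear_combination (a i - β (b i)) * hp
  have hFa : ∀ y, F (aeval x y) = MvPolynomial.C (algebraMap A Aπ (hom y)) := fun y => by
    have h : F.comp (aeval x) =
        ((Algebra.ofId Aπ S).restrictScalars R).comp ((IsScalarTower.toAlgHom R A Aπ).comp hom) :=
      MvPolynomial.algHom_ext fun i => by
        simp only [AlgHom.comp_apply, aeval_X, hFx]
        rfl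
    exact AlgHom.congr_fun h y
  have hfj : ∀ j, hom (f j) = 0 := fun j =>
    show f j ∈ RingHom.ker hom.toRingHom from hker ▸ Ideal.subset_span ⟨j, rfl⟩
  have hFK : ∀ y ∈ Ideal.span (Set.range (desingRels f x g)), F y = 0 := by
    intro y hy
    refine (Ideal.span_le.2 ?_ : _ ≤ RingHom.ker F.toRingHom) hy
    rintro _ ⟨i, rfl⟩
    show F (desingRels f x g i) = 0
    induction i using Fin.addCases with
    | left k =>
      simp only [desingRels, Fin.append_left]
      refine hπS.mul_left_cancel ?_
      rw [mul_zero, ← algHom_C F, ← map_mul, ← hgx, hFa, hfj, map_zero, map_zero]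
    | right j => simp only [desingRels, Fin.append_right]; rw [hFa, hfj, map_zero, map_zero]
  let F' : B →ₐ[R] S := Ideal.Quotient.liftₐ _ F hFK
  have hFu : ∀ y : Submonoid.powers (algebraMap R B π), IsUnit (F' y) := by
    rintro ⟨_, k, rfl⟩
    rw [map_pow, AlgHom.commutes, IsScalarTower.algebraMap_apply R Aπ S]
    exact ((hπA.map _)).pow k
  let F'' : T →ₐ[R] S := IsLocalization.liftAlgHom (f := F') hFu
  let toT : MvPolynomial (Fin (n + c)) R →ₐ[R] T := (IsScalarTower.toAlgHom R B T).comp mkB
  have hF'' : ∀ y, F'' (toT y) = F y := fun y =>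
    IsLocalization.lift_eq (M := Submonoid.powers (algebraMap R B π)) _ (mkB y)
  -- the map back
  let γ : MvPolynomial (Fin n) R →ₐ[R] T := toT.comp (aeval x)
  have hγ : RingHom.ker hom.toRingHom ≤ RingHom.ker γ.toRingHom := by
    rw [hker, Ideal.span_le]
    rintro _ ⟨j, rfl⟩
    show toT (aeval x (f j)) = 0
    show algebraMap B T (mkB (aeval x (f j))) = 0
    rw [show mkB (aeval x (f j)) = 0 from Ideal.Quotient.eq_zero_iff_mem.2
      (Ideal.subset_span ⟨Fin.natAdd c j, Fin.append_right _ _ j⟩)]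
    exact map_zero (algebraMap B T)
  let α : A →ₐ[R] T := AlgHom.liftOfSurjective hom hsurj γ hγ
  have hα : ∀ y, α (hom y) = toT (aeval x y) := fun y =>
    AlgHom.liftOfSurjective_apply hom hsurj γ hγ y
  have hαu : ∀ y : Submonoid.powers (algebraMap R A π), IsUnit (α y) := by
    rintro ⟨_, k, rfl⟩
    rw [map_pow, AlgHom.commutes]
    exact hπT.pow k
  let α' : Aπ →ₐ[R] T := IsLocalization.liftAlgHom (f := α) hαu
  have hα' : ∀ y, α' (algebraMap A Aπ y) = α y := fun y =>
    IsLocalization.lift_eq (M := Submonoid.powers (algebraMap R A π)) _ y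
  let G : S →ₐ[R] T :=
    { MvPolynomial.eval₂Hom α'.toRingHom (fun i => toT (X (Fin.natAdd n i))) with
      commutes' := fun r => by
        show MvPolynomial.eval₂Hom α'.toRingHom _ (MvPolynomial.C (algebraMap R Aπ r)) = _
        rw [eval₂Hom_C]
        exact α'.commutes r }
  have hGX : ∀ i, G (X i) = toT (X (Fin.natAdd n i)) := fun i => eval₂Hom_X' _ _ i
  have hGC : ∀ y, G (MvPolynomial.C y) = α' y := fun y => eval₂Hom_C _ _ y
  have hGβ : ∀ y, G (β y) = toT (rename (Fin.natAdd n) y) := fun y => by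
    have h : G.comp β = toT.comp (rename (Fin.natAdd n)) :=
      MvPolynomial.algHom_ext fun i => by simp [β, hGX]
    exact AlgHom.congr_fun h y
  have hGF : ∀ y, G (F y) = toT y := fun y => by
    have h : G.comp F = toT := by
      refine MvPolynomial.algHom_ext fun i => ?_
      induction i using Fin.addCases with
      | left k =>
        simp only [AlgHom.comp_apply, F, aeval_X, Fin.append_left]
        refine (hπT.pow 3).mul_left_cancel ?_
        have h2 : G p * algebraMap R T (π ^ 3) = 1 := by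
          rw [← G.commutes, ← map_mul, hp, map_one]
        rw [map_mul, map_sub, hGC, hα', hα, aeval_X, hGβ, ← map_pow, ← mul_assoc,
          mul_comm _ (G p), h2, one_mul, hx, map_add, add_sub_cancel_right, map_mul, algHom_C]
      | right k => simp only [AlgHom.comp_apply, F, aeval_X, Fin.append_right, hGX]
    exact AlgHom.congr_fun h y
  let eqv : S ≃ₐ[R] T := AlgEquiv.ofAlgHom G F''
    (AlgHom.coe_ringHom_injective (IsLocalization.ringHom_ext (Submonoid.powers (algebraMap R B π))
      (RingHom.ext fun y => by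
        obtain ⟨w, rfl⟩ := Ideal.Quotient.mk_surjective y
        show G (F'' (toT w)) = toT w
        rw [hF'', hGF])))
    (AlgHom.coe_ringHom_injective (MvPolynomial.ringHom_ext' (IsLocalization.ringHom_ext
      (Submonoid.powers (algebraMap R A π)) (RingHom.ext fun y => by
        obtain ⟨w, rfl⟩ := hsurj y
        show F'' (G (MvPolynomial.C (algebraMap A Aπ (hom w)))) = MvPolynomial.C (algebraMap A Aπ (hom w))
        rw [hGC, hα', hα, hF'', hFa])) fun i => by
        show F'' (G (X i)) = X i
        rw [hGX, hF'']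
        simp [F]))
  haveI : Algebra.FormallySmooth R T := Algebra.FormallySmooth.of_equiv eqv
  haveI : Algebra.FinitePresentation R T := Algebra.FinitePresentation.equiv eqv
  haveI : Algebra.Smooth R T := ⟨inferInstance, inferInstance⟩
  exact isSmoothAt_of_smooth_away (algebraMap R B π) Q hπQ

theorem eval_eq_zero_of_pow_four {Λ : Type u} [CommRing Λ] [Algebra R Λ] {π : R}
    (hΛ : ∀ x : Λ, π ^ 2 • x = 0 → π • x = 0) {y : Λ} (hy : π ^ 4 • y = 0) : π • y = 0 := by
  have h1 : π • (π ^ 2 • y) = 0 := hΛ _ (by rw [smul_smul, ← pow_add]; exact hy)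
  have h2 : π • (π • y) = 0 := hΛ _ (by
    rw [smul_smul, ← pow_succ, pow_succ', mul_smul]; exact h1)
  exact hΛ _ (by rw [pow_two, mul_smul]; exact h2)

theorem exists_desingularize {R Λ A : Type u} [CommRing R] [CommRing Λ]
    [Algebra R Λ] (π : R) (hΛ : ∀ x : Λ, π ^ 2 • x = 0 → π • x = 0) [CommRing A] [Algebra R A]
    [Algebra.FinitePresentation R A] (φ : A →ₐ[R] Λ)
    (hπ : Smoothing.IsStrictlyStandard R A (algebraMap R A π))
    (ρ : A →ₐ[R] R ⧸ Ideal.span {π ^ 4})
    (hρ : ∀ (a : A) (r : R), Ideal.Quotient.mk (Ideal.span {π ^ 4}) r = ρ a →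
      algebraMap R Λ r - φ a ∈ Ideal.span {algebraMap R Λ (π ^ 4)}) :
    ∃ (B : Type u) (_ : CommRing B) (_ : Algebra R B), Algebra.FinitePresentation R B ∧
      ∃ (α : A →ₐ[R] B) (β : B →ₐ[R] Λ), β.comp α = φ ∧
        ∀ r : R, (∀ x : R, π ^ 2 * x = 0 → π * (r * x) = 0) →
          algebraMap R B r ∈ Smoothing.singularIdeal R B := by
  classical
  haveI := formallySmooth_away_of_isStrictlyStandard hπ (Localization.Away (algebraMap R A π))
  haveI : Algebra.FinitePresentation R (Localization.Away (algebraMap R A π)) :=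
    Algebra.FinitePresentation.trans R A (Localization.Away (algebraMap R A π))
  haveI : Algebra.Smooth R (Localization.Away (algebraMap R A π)) := ⟨inferInstance, inferInstance⟩
  obtain ⟨P, hmin, htail⟩ := hπ
  have hfj : ∀ j, P.hom (P.rel j) = 0 := rel_mem P
  -- the approximate point
  choose r0 hr0 using fun i => Ideal.Quotient.mk_surjective (ρ (P.hom (X i)))
  have hρe : ∀ p, ρ (P.hom p) = Ideal.Quotient.mk (Ideal.span {π ^ 4}) (eval r0 p) := fun p => by
    have h : ρ.comp P.hom = (Ideal.Quotient.mkₐ R _).comp (aeval r0) :=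
      MvPolynomial.algHom_ext fun i => by simp [hr0]
    have h' := AlgHom.congr_fun h p
    rwa [AlgHom.comp_apply, AlgHom.comp_apply, aeval_eq_eval] at h'
  let J : Matrix (Fin P.c) (Fin P.n) R :=
    Matrix.of fun k i => eval r0 (pderiv i (P.rel (Fin.castLE P.hcm k)))
  obtain ⟨co, hco⟩ := (Submodule.mem_span_range_iff_exists_fun _).1 hmin
  choose co' hco' using fun s => P.surj (co s)
  let a₀ : R := ∑ s, eval r0 (co' s) * (J.submatrix id s).det
  obtain ⟨N, hN⟩ := exists_mul_eq_smul_one J (t := a₀) (Submodule.sum_mem _ fun s _ =>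
    Ideal.mul_mem_left _ _ (Ideal.subset_span ⟨s, rfl⟩))
  have ha₀ : Ideal.Quotient.mk (Ideal.span {π ^ 4}) a₀ = Ideal.Quotient.mk _ π := by
    have h1 := congrArg ρ hco
    simp only [map_sum, smul_eq_mul, map_mul, ← hco', hρe, AlgHom.commutes] at h1
    rw [Ideal.Quotient.algebraMap_eq] at h1
    rw [← h1]
    simp only [a₀, map_sum, map_mul]
    refine Finset.sum_congr rfl fun s _ => congrArg _ (congrArg _ ?_)
    rw [Smoothing.jacobianMinor, RingHom.map_det]
    rfl
  obtain ⟨r', hr'⟩ := Ideal.mem_span_singleton'.1 (Ideal.Quotient.eq.1 ha₀)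
  have hs : ∀ j, ∃ s, s * π ^ 4 = eval r0 (P.rel j) := fun j =>
    Ideal.mem_span_singleton'.1 (Ideal.Quotient.eq_zero_iff_mem.1 (by rw [← hρe, hfj, map_zero]))
  choose s hs using hs
  have hl : ∀ i, ∃ l, φ (P.hom (X i)) = algebraMap R Λ (r0 i) + algebraMap R Λ (π ^ 4) * l :=
    fun i => by
      obtain ⟨e, he⟩ := Ideal.mem_span_singleton'.1 (hρ (P.hom (X i)) (r0 i) (hr0 i))
      exact ⟨-e, by linear_combination he⟩
  choose l hl using hl
  choose q hq using fun j => exists_taylor_scaled r0 (π ^ 2) (P.rel j)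
  -- the new algebra
  let W : Fin P.n → MvPolynomial (Fin (P.n + P.c)) R := fun i => X (Fin.castAdd P.c i)
  let Z : Fin P.c → MvPolynomial (Fin (P.n + P.c)) R := fun k => X (Fin.natAdd P.n k)
  let ξ : Fin P.n → MvPolynomial (Fin (P.n + P.c)) R := fun i =>
    MvPolynomial.C π * W i + ∑ k, MvPolynomial.C (N i k) * Z k
  let x : Fin P.n → MvPolynomial (Fin (P.n + P.c)) R := fun i =>
    MvPolynomial.C (r0 i) + MvPolynomial.C (π ^ 2) * ξ i
  let Jξ : Fin P.m → MvPolynomial (Fin (P.n + P.c)) R := fun j =>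
    ∑ i, MvPolynomial.C (eval r0 (pderiv i (P.rel j))) * ξ i
  let v : Fin P.m → MvPolynomial (Fin (P.n + P.c)) R := fun j =>
    MvPolynomial.C (s j * π ^ 2) + Jξ j + MvPolynomial.C (π ^ 2) * aeval ξ (q j)
  have hv : ∀ j, aeval x (P.rel j) = MvPolynomial.C (π ^ 2) * v j := fun j => by
    have h1 : aeval x (P.rel j) = aeval ξ (aeval
        (fun i => MvPolynomial.C (r0 i) + MvPolynomial.C (π ^ 2) * X i) (P.rel j)) := by
      rw [← AlgHom.comp_apply, comp_aeval]
      congr 2
      funext i
      simp [x]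
    rw [h1, hq j, ← hs j]
    simp only [v, Jξ, map_add, map_mul, map_sum, map_pow, aeval_X, algHom_C,
      MvPolynomial.algebraMap_eq]
    ring
  let u : R := 1 + π ^ 3 * r'
  have hu : a₀ = π * u := by simp only [u]; linear_combination -hr'
  let g : Fin P.c → MvPolynomial (Fin (P.n + P.c)) R := fun k =>
    MvPolynomial.C (s (Fin.castLE P.hcm k) * π) + ∑ i, MvPolynomial.C (J k i) * W i +
      MvPolynomial.C u * Z k + MvPolynomial.C π * aeval ξ (q (Fin.castLE P.hcm k))
  have hgv : ∀ k, v (Fin.castLE P.hcm k) = MvPolynomial.C π * g k := fun k => by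
    have h1 : Jξ (Fin.castLE P.hcm k) =
        MvPolynomial.C π * (∑ i, MvPolynomial.C (J k i) * W i) +
          MvPolynomial.C (π * u) * Z k := by
      have h2 : ∀ k', ∑ i, J k i * N i k' = if k = k' then a₀ else 0 := fun k' => by
        have := congrFun (congrFun hN k) k'
        simpa [Matrix.mul_apply, Matrix.one_apply] using this
      simp only [Jξ, ξ, mul_add, Finset.sum_add_distrib, Finset.mul_sum]
      congr 1
      · exact Finset.sum_congr rfl fun i _ => by simp only [J, Matrix.of_apply]; ring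
      · rw [Finset.sum_comm]
        rw [Finset.sum_congr rfl fun k' _ => show ∑ i,
            MvPolynomial.C (eval r0 (pderiv i (P.rel (Fin.castLE P.hcm k)))) *
              (MvPolynomial.C (N i k') * Z k') =
            MvPolynomial.C (if k = k' then a₀ else 0) * Z k' by
          rw [← h2, map_sum, Finset.sum_mul]
          exact Finset.sum_congr rfl fun i _ => by simp only [J, Matrix.of_apply, map_mul]; ring]
        rw [Finset.sum_eq_single k (fun k' _ hk' => by rw [if_neg (Ne.symm hk'), map_zero, zero_mul])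
          (by simp), if_pos rfl, hu]
    simp only [v, g, h1, map_mul, map_pow]
    ring
  have hgx : ∀ k, aeval x (P.rel (Fin.castLE P.hcm k)) = MvPolynomial.C (π ^ 3) * g k := fun k => by
    rw [hv, hgv, ← mul_assoc, ← map_mul, ← pow_succ]
  let b : Fin P.n → MvPolynomial (Fin P.c) R := fun i =>
    MvPolynomial.C (r0 i) + MvPolynomial.C (π ^ 2) * ∑ k, MvPolynomial.C (N i k) * X k
  have hxb : ∀ i, x i = MvPolynomial.C (π ^ 3) * X (Fin.castAdd P.c i) +
      rename (Fin.natAdd P.n) (b i) := fun i => by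
    simp only [x, ξ, b, W, Z, map_add, map_mul, map_sum, rename_C, rename_X]
    rw [pow_succ π 2, map_mul]
    ring
  have hder : ∀ k i, pderiv (Fin.natAdd P.n i) (g k) - (if k = i then 1 else 0) ∈
      Ideal.span {MvPolynomial.C π} := fun k i => by
    have h1 : ∀ i', pderiv (Fin.natAdd P.n i) (W i') = 0 := fun i' =>
      pderiv_X_of_ne (fun h => by simp [Fin.ext_iff] at h; omega)
    simp only [g, map_add, map_sum, pderiv_C, pderiv_C_mul, h1, mul_zero, Finset.sum_const_zero,
      add_zero, zero_add, Z]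
    refine Ideal.mem_span_singleton'.2 ⟨(if k = i then MvPolynomial.C (π ^ 2 * r') else 0) +
      pderiv (Fin.natAdd P.n i) (aeval ξ (q (Fin.castLE P.hcm k))), ?_⟩
    by_cases hki : k = i
    · subst hki
      simp only [pderiv_X_self, if_true, u, map_add, map_one, map_mul, map_pow]
      ring
    · simp only [pderiv_X_of_ne ((Fin.natAdd_injective _ _).ne hki), if_neg hki]
      ring
  have htail' : ∀ j, MvPolynomial.C π * P.rel j ∈
      Ideal.span (Set.range (P.rel ∘ Fin.castLE P.hcm)) ⊔ Ideal.span (Set.range P.rel) ^ 2 := by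
    intro j
    by_cases hj : (j : ℕ) < P.c
    · exact Ideal.mem_sup_left (Ideal.mul_mem_left _ _ (Ideal.subset_span ⟨⟨j, hj⟩, rfl⟩))
    · have himg : Ideal.span (P.rel '' {j' : Fin P.m | (j' : ℕ) < P.c}) ≤
          Ideal.span (Set.range (P.rel ∘ Fin.castLE P.hcm)) := by
        refine Ideal.span_mono ?_
        rintro _ ⟨i, hi, rfl⟩
        exact ⟨⟨i, hi⟩, rfl⟩
      exact (sup_le (le_sup_of_le_left himg) le_sup_right)
        (htail (MvPolynomial.C π) (algHom_C P.hom π) j (not_lt.1 hj))
  let K : Ideal (MvPolynomial (Fin (P.n + P.c)) R) := Ideal.span (Set.range (desingRels P.rel x g))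
  let mkB : MvPolynomial (Fin (P.n + P.c)) R →ₐ[R] (MvPolynomial (Fin (P.n + P.c)) R ⧸ K) :=
    Ideal.Quotient.mkₐ R K
  -- the map to Λ
  let pt : MvPolynomial (Fin (P.n + P.c)) R →ₐ[R] Λ :=
    aeval (Fin.append (fun i => algebraMap R Λ π * l i) fun _ => 0)
  have hptW : ∀ i, pt (W i) = algebraMap R Λ π * l i := fun i =>
    (aeval_X _ _).trans (Fin.append_left _ _ i)
  have hptZ : ∀ k, pt (Z k) = 0 := fun k => (aeval_X _ _).trans (Fin.append_right _ _ k)
  have hptx : ∀ p, pt (aeval x p) = φ (P.hom p) := fun p => by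
    have h : pt.comp (aeval x) = φ.comp P.hom := MvPolynomial.algHom_ext fun i => by
      simp only [AlgHom.comp_apply, aeval_X, hl, x, ξ, map_add, map_mul, map_sum, algHom_C, hptW,
        hptZ, mul_zero, Finset.sum_const_zero, add_zero, map_pow]
      ring
    exact AlgHom.congr_fun h p
  have hptξ : ∀ i, pt (ξ i) = algebraMap R Λ π ^ 2 * l i := fun i => by
    simp only [ξ, map_add, map_mul, map_sum, algHom_C, hptW, hptZ, mul_zero,
      Finset.sum_const_zero, add_zero]
    ring
  have hptg : ∀ k, pt (g k) = 0 := fun k => by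
    have h1 : pt (g k) = algebraMap R Λ π * (algebraMap R Λ (s (Fin.castLE P.hcm k)) +
        ∑ i, algebraMap R Λ (J k i) * l i + pt (aeval ξ (q (Fin.castLE P.hcm k)))) := by
      simp only [g, map_add, map_mul, map_sum, algHom_C, hptW, hptZ, mul_zero, add_zero, mul_add,
        Finset.mul_sum]
      rw [Finset.sum_congr rfl fun i _ => mul_left_comm (algebraMap R Λ (J k i)) (algebraMap R Λ π) (l i)]
      ring
    rw [h1, ← Algebra.smul_def]
    refine eval_eq_zero_of_pow_four hΛ ?_
    have h2 := hptx (P.rel (Fin.castLE P.hcm k))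
    rw [hfj, map_zero, hgx, map_mul, h1, algHom_C] at h2
    rw [Algebra.smul_def, map_pow]
    rw [map_pow] at h2
    linear_combination h2
  have hptK : ∀ y ∈ K, pt y = 0 := by
    intro y hy
    refine (Ideal.span_le.2 ?_ : _ ≤ RingHom.ker pt.toRingHom) hy
    rintro _ ⟨i, rfl⟩
    show pt (desingRels P.rel x g i) = 0
    induction i using Fin.addCases with
    | left k => simp only [desingRels, Fin.append_left]; exact hptg k
    | right j => simp only [desingRels, Fin.append_right]; rw [hptx, hfj, map_zero]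
  have hαK : RingHom.ker P.hom.toRingHom ≤ RingHom.ker (mkB.comp (aeval x)).toRingHom := by
    rw [P.ker_eq, Ideal.span_le]
    rintro _ ⟨j, rfl⟩
    exact Ideal.Quotient.eq_zero_iff_mem.2
      (Ideal.subset_span ⟨Fin.natAdd P.c j, Fin.append_right _ _ j⟩)
  refine ⟨MvPolynomial (Fin (P.n + P.c)) R ⧸ K, inferInstance, inferInstance,
    Algebra.FinitePresentation.quotient (Submodule.fg_span (Set.finite_range _)),
    AlgHom.liftOfSurjective P.hom P.surj _ hαK, Ideal.Quotient.liftₐ K pt hptK, ?_, ?_⟩
  · refine AlgHom.ext fun a => ?_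
    obtain ⟨p, rfl⟩ := P.surj a
    rw [AlgHom.comp_apply, AlgHom.liftOfSurjective_apply]
    exact hptx p
  · intro r hr
    rw [Smoothing.singularIdeal, PrimeSpectrum.mem_vanishingIdeal]
    intro Q hQ
    by_contra hrQ
    refine hQ ?_
    show Algebra.IsSmoothAt R Q.asIdeal
    by_cases hπQ : algebraMap R (MvPolynomial (Fin (P.n + P.c)) R ⧸ K) π ∈ Q.asIdeal
    · exact desing_smooth_at_pi π r hr P.rel (Fin.castLE P.hcm) x g hgx v hv hder htail' Q.asIdeal
        hπQ hrQ
    · exact desing_smooth_away π (Localization.Away (algebraMap R A π)) P.rel P.hom P.surj P.ker_eq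
        (Fin.castLE P.hcm) b x hxb g hgx Q.asIdeal hπQ

end Groth.Agent.Smooth28
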