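import Groth.Agent.Smooth28.Desing
import Groth.Agent.Smooth28.BaseChange

/-!
Desingularization relative to an auxiliary algebra.
-/

namespace Groth.Agent.Smooth28

open TensorProduct

universe u

theorem isSmoothAt_trans {R D B : Type u} [CommRing R] [CommRing D] [CommRing B] [Algebra R D]
    [Algebra R B] [Algebra D B] [IsScalarTower R D B] [Algebra.FinitePresentation R D]
    (Q : Ideal B) [Q.IsPrime] [Algebra.IsSmoothAt D Q]
    (h : Algebra.IsSmoothAt R (Q.comap (algebraMap D B))) : Algebra.IsSmoothAt R Q := by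
  haveI := h
  obtain ⟨f, hf, hsm⟩ := Algebra.IsSmoothAt.exists_notMem_smooth R (Q.comap (algebraMap D B))
  let E := Localization.Away f
  let S := Localization.AtPrime Q
  have hu : ∀ y : Submonoid.powers f, IsUnit (algebraMap D S y) := by
    rintro ⟨_, k, rfl⟩
    rw [map_pow, IsScalarTower.algebraMap_apply D B S]
    exact (IsLocalization.map_units S (⟨algebraMap D B f, hf⟩ : Q.primeCompl)).pow k
  let θ : E →+* S := IsLocalization.lift hu
  letI : Algebra E S := θ.toAlgebra
  haveI : IsScalarTower D E S :=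
    IsScalarTower.of_algebraMap_eq fun y => (IsLocalization.lift_eq hu y).symm
  haveI : IsScalarTower R E S := IsScalarTower.of_algebraMap_eq fun y => by
    rw [IsScalarTower.algebraMap_apply R D E, ← IsScalarTower.algebraMap_apply D E S,
      ← IsScalarTower.algebraMap_apply R D S]
  haveI : Algebra.FormallySmooth D S := ‹Algebra.IsSmoothAt D Q›
  haveI : Algebra.FormallySmooth E S :=
    Algebra.FormallySmooth.localization_base (R := D) (Submonoid.powers f)
  exact Algebra.FormallySmooth.comp R E S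

theorem exists_pow_kill_torsion {R D : Type u} [CommRing R] [IsNoetherianRing R] [CommRing D]
    [Algebra R D] [Algebra.FinitePresentation R D] (π : R)
    (hR : ∀ r : R, π ^ 2 * r = 0 → π * r = 0) {d : D} (hd : d ∈ Smoothing.singularIdeal R D) :
    ∃ k : ℕ, ∀ x : D, algebraMap R D π ^ 2 * x = 0 → algebraMap R D π * (d ^ k * x) = 0 := by
  haveI : IsNoetherianRing D := Algebra.FiniteType.isNoetherianRing R D
  have hsub : (PrimeSpectrum.basicOpen d : Set (PrimeSpectrum D)) ⊆ Algebra.smoothLocus R D := by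
    intro p hp
    by_contra hns
    exact hp ((PrimeSpectrum.mem_vanishingIdeal _ _).1 hd p hns)
  haveI : Algebra.Smooth R (Localization.Away d) :=
    (Algebra.basicOpen_subset_smoothLocus_iff_smooth (R := R) (f := d)).1 hsub
  let I : Ideal D := LinearMap.ker (LinearMap.mulLeft D (algebraMap R D π ^ 2))
  obtain ⟨l, gens, hgens⟩ := Submodule.fg_iff_exists_fin_generating_family.1 (IsNoetherian.noetherian I)
  have h1 : ∀ i, ∃ k : ℕ, d ^ k * (algebraMap R D π * gens i) = 0 := fun i => by
    have hi : gens i ∈ I := hgens ▸ Submodule.subset_span ⟨i, rfl⟩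
    have h2 : algebraMap R (Localization.Away d) (π ^ 2) * algebraMap D _ (gens i) = 0 := by
      rw [IsScalarTower.algebraMap_apply R D (Localization.Away d), ← map_mul, map_pow,
        show algebraMap R D π ^ 2 * gens i = 0 from hi, map_zero]
    have h3 := flat_kill (q := π) hR h2
    rw [IsScalarTower.algebraMap_apply R D (Localization.Away d), ← map_mul] at h3
    obtain ⟨⟨_, k, rfl⟩, hk⟩ := (IsLocalization.map_eq_zero_iff (Submonoid.powers d) _ _).1 h3
    exact ⟨k, hk⟩
  choose k hk using h1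
  refine ⟨∑ i, k i, fun x hx => ?_⟩
  have hx' : x ∈ Submodule.span D (Set.range gens) := hgens.symm ▸ (show x ∈ I from hx)
  obtain ⟨c, rfl⟩ := (Submodule.mem_span_range_iff_exists_fun _).1 hx'
  simp only [Finset.mul_sum, smul_eq_mul]
  refine Finset.sum_eq_zero fun i _ => ?_
  rw [← Nat.sub_add_cancel (Finset.single_le_sum (fun i _ => Nat.zero_le (k i)) (Finset.mem_univ i)),
    pow_add, show algebraMap R D π * (d ^ (∑ j, k j - k i) * d ^ k i * (c i * gens i)) =
      c i * d ^ (∑ j, k j - k i) * (d ^ k i * (algebraMap R D π * gens i)) by ring, hk i, mul_zero]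

theorem exists_desingularize_rel {R Λ A D : Type u} [CommRing R] [IsNoetherianRing R]
    [CommRing Λ] [Algebra R Λ] (π : R) (hR : ∀ r : R, π ^ 2 * r = 0 → π * r = 0)
    (hΛ : ∀ x : Λ, π ^ 2 • x = 0 → π • x = 0) [CommRing A] [Algebra R A]
    [Algebra.FinitePresentation R A] [CommRing D] [Algebra R D] [Algebra.FinitePresentation R D]
    (φ : A →ₐ[R] Λ) (δ : D →ₐ[R] Λ) (hπ : Smoothing.IsStrictlyStandard R A (algebraMap R A π))
    (ψ : A →ₐ[R] D ⧸ Ideal.span {algebraMap R D (π ^ 4)})
    (hψ : ∀ (a : A) (d : D), Ideal.Quotient.mk (Ideal.span {algebraMap R D (π ^ 4)}) d = ψ a →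
      δ d - φ a ∈ Ideal.span {algebraMap R Λ (π ^ 4)}) :
    ∃ (B : Type u) (_ : CommRing B) (_ : Algebra R B) (_ : Algebra D B) (_ : IsScalarTower R D B),
      Algebra.FinitePresentation R B ∧
      ∃ (α : A →ₐ[R] B) (β : B →ₐ[R] Λ), β.comp α = φ ∧
        β.comp (IsScalarTower.toAlgHom R D B) = δ ∧
        (Smoothing.singularIdeal R D).map (algebraMap D B) ≤ Smoothing.singularIdeal D B ∧
        (Smoothing.singularIdeal R D).map (algebraMap D B) ≤ Smoothing.singularIdeal R B := by
  set πD : D := algebraMap R D π with hπD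
  have hπ4 : algebraMap R D (π ^ 4) = πD ^ 4 := map_pow _ _ _
  letI : Algebra D Λ := δ.toRingHom.toAlgebra
  haveI : IsScalarTower R D Λ := IsScalarTower.of_algebraMap_eq fun r => (δ.commutes r).symm
  have hsmul : ∀ (x : Λ) (k : ℕ), πD ^ k • x = π ^ k • x := fun x k => by
    rw [hπD, ← map_pow, algebraMap_smul]
  have hΛD : ∀ x : Λ, πD ^ 2 • x = 0 → πD • x = 0 := fun x hx => by
    rw [← pow_one πD, hsmul, pow_one]
    exact hΛ x (by rwa [← hsmul])
  obtain ⟨P, hmin, htail⟩ := hπ
  obtain ⟨P', hP'⟩ := exists_marked_baseChange (R' := D) P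
  have hπT : algebraMap D (D ⊗[R] A) πD = (1 : D) ⊗ₜ[R] algebraMap R A π := by
    rw [hπD, ← IsScalarTower.algebraMap_apply, ← Algebra.TensorProduct.includeRight_apply,
      AlgHom.commutes]
  have hstd : Smoothing.IsStrictlyStandard D (D ⊗[R] A) (algebraMap D (D ⊗[R] A) πD) := by
    rw [hπT]
    exact ⟨P', (hP' _).2.1 hmin, (hP' _).2.2 htail⟩
  let φ' : D ⊗[R] A →ₐ[D] Λ := Algebra.TensorProduct.lift (Algebra.ofId D Λ) φ fun _ _ => .all _ _
  have hI : Ideal.span {algebraMap R D (π ^ 4)} = Ideal.span {πD ^ 4} := by rw [hπ4]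
  let ψ' : A →ₐ[R] D ⧸ Ideal.span {πD ^ 4} := (Ideal.quotientEquivAlgOfEq R hI).toAlgHom.comp ψ
  let ρ : D ⊗[R] A →ₐ[D] D ⧸ Ideal.span {πD ^ 4} :=
    Algebra.TensorProduct.lift (Algebra.ofId D _) ψ' fun _ _ => .all _ _
  have hρ : ∀ (a : D ⊗[R] A) (d : D), Ideal.Quotient.mk (Ideal.span {πD ^ 4}) d = ρ a →
      algebraMap D Λ d - φ' a ∈ Ideal.span {algebraMap D Λ (πD ^ 4)} := by
    let J : Ideal Λ := Ideal.span {algebraMap D Λ (πD ^ 4)}
    let δb : (D ⧸ Ideal.span {πD ^ 4}) →+* Λ ⧸ J :=
      Ideal.quotientMap J (algebraMap D Λ) (by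
        rw [← Ideal.map_le_iff_le_comap, Ideal.map_span, Set.image_singleton])
    have hkey : ∀ a, δb (ρ a) = Ideal.Quotient.mk J (φ' a) := fun a => by
      induction a using TensorProduct.induction_on with
      | zero => simp
      | add a b ha hb => simp [ha, hb]
      | tmul d a =>
        simp only [ρ, φ', Algebra.TensorProduct.lift_tmul, map_mul]
        congr 1
        obtain ⟨e, he⟩ := Ideal.Quotient.mk_surjective (ψ a)
        have h1 : ψ' a = Ideal.Quotient.mk _ e := by
          simp only [ψ', AlgHom.comp_apply, ← he]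
          rfl
        rw [h1]
        show Ideal.Quotient.mk J (algebraMap D Λ e) = _
        rw [Ideal.Quotient.eq]
        have h2 := hψ a e he
        rwa [show algebraMap R Λ (π ^ 4) = algebraMap D Λ (πD ^ 4) by
          rw [← hπ4, ← IsScalarTower.algebraMap_apply]] at h2
    intro a d hd
    rw [← Ideal.Quotient.eq, ← hkey, ← hd]
    rfl
  obtain ⟨B, _, _, hfp, α', β', hαβ, hsing⟩ := exists_desingularize πD hΛD φ' hstd ρ hρ
  letI : Algebra R B := ((algebraMap D B).comp (algebraMap R D)).toAlgebra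
  haveI : IsScalarTower R D B := IsScalarTower.of_algebraMap_eq fun _ => rfl
  haveI := hfp
  haveI : Algebra.FinitePresentation R B := Algebra.FinitePresentation.trans R D B
  have h1 : (Smoothing.singularIdeal R D).map (algebraMap D B) ≤ Smoothing.singularIdeal D B := by
    rw [Ideal.map_le_iff_le_comap]
    intro d hd
    obtain ⟨k, hk⟩ := exists_pow_kill_torsion π hR hd
    show algebraMap D B d ∈ Smoothing.singularIdeal D B
    rw [Smoothing.singularIdeal, PrimeSpectrum.mem_vanishingIdeal]
    intro p hp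
    have h2 := hsing (d ^ k) hk
    rw [Smoothing.singularIdeal, PrimeSpectrum.mem_vanishingIdeal] at h2
    have h3 : algebraMap D B (d ^ k) ∈ p.asIdeal := h2 p hp
    rw [map_pow] at h3
    exact p.isPrime.mem_of_pow_mem k h3
  refine ⟨B, inferInstance, inferInstance, inferInstance, inferInstance, inferInstance,
    (α'.restrictScalars R).comp Algebra.TensorProduct.includeRight, β'.restrictScalars R, ?_, ?_,
    h1, ?_⟩
  · refine AlgHom.ext fun a => ?_
    show β' (α' (1 ⊗ₜ a)) = φ a
    rw [← AlgHom.comp_apply, hαβ]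
    simp [φ']
  · refine AlgHom.ext fun d => ?_
    show β' (algebraMap D B d) = δ d
    exact β'.commutes d
  · rw [Ideal.map_le_iff_le_comap]
    intro d hd
    show algebraMap D B d ∈ Smoothing.singularIdeal R B
    rw [Smoothing.singularIdeal, PrimeSpectrum.mem_vanishingIdeal]
    intro p hp
    by_contra hdp
    refine hp ?_
    have h4 : p ∈ Algebra.smoothLocus D B := by
      by_contra hns
      exact hdp ((PrimeSpectrum.mem_vanishingIdeal _ _).1 (h1 (Ideal.mem_map_of_mem _ hd)) p hns)
    haveI : Algebra.IsSmoothAt D p.asIdeal := h4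
    refine isSmoothAt_trans (R := R) (D := D) p.asIdeal ?_
    by_contra hns
    exact hdp ((PrimeSpectrum.mem_vanishingIdeal _ _).1 hd
      ⟨p.asIdeal.comap (algebraMap D B), inferInstance⟩ hns)

end Groth.Agent.Smooth28
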