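import Groth.Agent.Smooth28.Split
import Groth.Agent.Smooth28.Det
import Groth.Prelude.Def_Smoothing
import Mathlib.RingTheory.Smooth.Locus
import Mathlib.RingTheory.LocalRing.ResidueField.Ideal
import Mathlib.LinearAlgebra.Basis.VectorSpace

/-!
Standard elements near a prime of smoothness.
-/

namespace Groth.Agent.Smooth28

open MvPolynomial Matrix

universe u

variable {R : Type u} [CommRing R] {A : Type u} [CommRing A] [Algebra R A]

theorem exists_clear_denominators (q : Ideal A) [q.IsPrime] {α : Type*} [Finite α]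
    (x : α → q.ResidueField) :
    ∃ (s : A) (b : α → A), s ∉ q ∧
      ∀ j, algebraMap A q.ResidueField s * x j = algebraMap A q.ResidueField (b j) := by
  obtain ⟨⟨s, hs⟩, h⟩ := IsLocalization.exist_integer_multiples_of_finite (nonZeroDivisors (A ⧸ q)) x
  obtain ⟨s, rfl⟩ := Ideal.Quotient.mk_surjective s
  choose b hb using fun j => h j
  choose b' hb' using fun j => Ideal.Quotient.mk_surjective (b j)
  refine ⟨s, b', fun hsq => nonZeroDivisors.ne_zero hs (Ideal.Quotient.eq_zero_iff_mem.2 hsq),
    fun j => ?_⟩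
  have := hb j
  rw [← hb' j, Algebra.smul_def] at this
  rw [IsScalarTower.algebraMap_apply A (A ⧸ q) q.ResidueField s,
    IsScalarTower.algebraMap_apply A (A ⧸ q) q.ResidueField (b' j)]
  exact this.symm

theorem exists_standard_data {n m : ℕ} (f : Fin m → MvPolynomial (Fin n) R)
    (φ : MvPolynomial (Fin n) R →ₐ[R] A) (hφ : Function.Surjective φ)
    (hker : RingHom.ker φ.toRingHom = Ideal.span (Set.range f)) (q : Ideal A) [q.IsPrime]
    [Algebra.IsSmoothAt R q] :
    ∃ (g : MvPolynomial (Fin n) R) (c : ℕ) (rows : Fin c ↪ Fin m) (cols : Fin c ↪ Fin n),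
      φ g * φ (Smoothing.jacobianMinor f rows cols) ∉ q ∧
      ∀ x, φ x = 0 → g * x ∈ Ideal.span (Set.range (f ∘ rows)) := by
  classical
  have hfg : (RingHom.ker φ.toRingHom).FG := by
    rw [hker]; exact ⟨Finset.univ.image f, by simp⟩
  haveI : Algebra.FinitePresentation R A := Algebra.FinitePresentation.of_surjective hφ hfg
  obtain ⟨b, hb, hsm⟩ := Algebra.IsSmoothAt.exists_notMem_smooth R q
  haveI := hsm
  obtain ⟨b', rfl⟩ := hφ b
  obtain ⟨k, h, hh, H⟩ := exists_split_of_formallySmooth (S := Localization.Away (φ b')) φ hφ hfg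
    (φ b') b' rfl
  let κ := q.ResidueField
  let ev : A →+* κ := algebraMap A κ
  have hev : ∀ x, ev x = 0 ↔ x ∈ q := fun x => Ideal.algebraMap_residueField_eq_zero
  let row : Fin m → Fin n → κ := fun j i => ev (φ (pderiv i (f j)))
  obtain ⟨ι, emb, hemb, hspan, hli⟩ := exists_linearIndependent' κ row
  haveI : Finite ι := Finite.of_injective emb hemb
  let e := (Finite.equivFin ι).symm
  let rows : Fin (Nat.card ι) ↪ Fin m := ⟨fun r => emb (e r), hemb.comp e.injective⟩
  have hli' : LinearIndependent κ (fun r => row (rows r)) := hli.comp e e.injective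
  have hspan' : ∀ l, ∃ β : Fin (Nat.card ι) → κ, ∑ r, β r • row (rows r) = row l := by
    intro l
    rw [← Submodule.mem_span_range_iff_exists_fun]
    have he : Set.range (fun r => row (rows r)) = Set.range (row ∘ emb) := by
      rw [show (fun r => row (rows r)) = (row ∘ emb) ∘ e from rfl,
        EquivLike.range_comp (row ∘ emb) e]
    rw [he, hspan]
    exact Submodule.subset_span ⟨l, rfl⟩
  let M : Matrix (Fin (Nat.card ι)) (Fin n) κ := Matrix.of fun r i => row (rows r) i
  obtain ⟨G, hG⟩ := (Fintype.linearCombination κ fun r => row (rows r)).exists_leftInverse_of_injective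
    (LinearMap.ker_eq_bot.2 (linearIndependent_iff_injective_fintypeLinearCombination.1 hli'))
  let N : Matrix (Fin n) (Fin (Nat.card ι)) κ := Matrix.of fun i r => G (Pi.single i 1) r
  have hMN : M * N = 1 := by
    ext r r'
    have h1 : G (row (rows r)) = Pi.single r (1 : κ) := by
      have := LinearMap.congr_fun hG (Pi.single r (1 : κ))
      simpa [Fintype.linearCombination_apply_single] using this
    rw [pi_eq_sum_univ' (row (rows r)), map_sum] at h1
    have h2 := congrFun h1 r'
    simp only [Finset.sum_apply, map_smul, Pi.smul_apply, smul_eq_mul] at h2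
    simp only [Matrix.mul_apply, M, N, Matrix.of_apply]
    rw [h2, Matrix.one_apply, Pi.single_apply]
    simp [eq_comm]
  obtain ⟨cols, hcols⟩ : ∃ cols, (M.submatrix id cols).det ≠ 0 := by
    by_contra hc
    simp only [not_exists, not_not] at hc
    have := det_mul_mem_span_minors M N
    rw [hMN, Matrix.det_one] at this
    have hbot : Ideal.span (Set.range fun cols => (M.submatrix id cols).det) = ⊥ := by
      rw [Ideal.span_eq_bot]; rintro _ ⟨c, rfl⟩; exact hc c
    rw [hbot] at this
    exact one_ne_zero this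
  have hinj : Function.Injective cols := by
    intro i j hij
    by_contra hne
    exact hcols (Matrix.det_zero_of_column_eq hne fun r => by simp [hij])
  choose β hβ using hspan'
  obtain ⟨s, bb, hs, hbb⟩ := exists_clear_denominators q (fun p : Fin m × Fin (Nat.card ι) => β p.1 p.2)
  obtain ⟨s', rfl⟩ := hφ s
  choose B hB using fun p => hφ (bb p)
  let I := RingHom.ker φ.toRingHom
  let J := Ideal.span (Set.range (f ∘ rows))
  let Q : Ideal (MvPolynomial (Fin n) R) := q.comap φ
  let t := s' * b' ^ k
  have hsqQ : I ^ 2 ≤ Q * I := by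
    rw [pow_two]
    exact Ideal.mul_mono (fun x hx => by
      show φ x ∈ q
      rw [show φ x = 0 from hx]; exact q.zero_mem) le_rfl
  have hstep : ∀ x ∈ I, t * x ∈ J ⊔ Q * I := by
    intro x hx
    have hx' : x ∈ Ideal.span (Set.range f) := hker ▸ (show x ∈ RingHom.ker φ.toRingHom from hx)
    clear hx
    induction hx' using Submodule.span_induction with
    | zero => simp
    | add y z _ _ hy hz => rw [mul_add]; exact add_mem hy hz
    | smul r y _ hy => rw [smul_eq_mul, mul_left_comm]; exact Ideal.mul_mem_left _ r hy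
    | mem y hy =>
      obtain ⟨l, rfl⟩ := hy
      have hf : ∀ j, φ (f j) = 0 := fun j =>
        show f j ∈ RingHom.ker φ.toRingHom from hker ▸ Ideal.subset_span ⟨j, rfl⟩
      have hD : ∀ i, s' * pderiv i (f l) - ∑ r, B (l, r) * pderiv i (f (rows r)) ∈ Q := by
        intro i
        show φ _ ∈ q
        rw [← hev, map_sub, map_sum, map_mul, map_sub, map_mul, map_sum]
        have h1 := congrFun (hβ l) i
        simp only [Finset.sum_apply, Pi.smul_apply, smul_eq_mul, row] at h1
        rw [← h1, Finset.mul_sum, sub_eq_zero]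
        refine Finset.sum_congr rfl fun r _ => ?_
        rw [map_mul, map_mul, hB, ← mul_assoc]
        congr 1
        exact hbb (l, r)
      have hl := H _ (hf l)
      have hr : ∑ r, B (l, r) * (b' ^ k * f (rows r) - ∑ i, pderiv i (f (rows r)) * h i) ∈ I ^ 2 :=
        Submodule.sum_mem _ fun r _ => Ideal.mul_mem_left _ _ (H _ (hf _))
      have hQ : ∑ i, (s' * pderiv i (f l) - ∑ r, B (l, r) * pderiv i (f (rows r))) * h i ∈ Q * I :=
        Submodule.sum_mem _ fun i _ => Ideal.mul_mem_mul (hD i) (hh i)
      have he : t * f l = ∑ r, B (l, r) * b' ^ k * f (rows r) +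
          (∑ i, (s' * pderiv i (f l) - ∑ r, B (l, r) * pderiv i (f (rows r))) * h i +
          (s' * (b' ^ k * f l - ∑ i, pderiv i (f l) * h i) -
          ∑ r, B (l, r) * (b' ^ k * f (rows r) - ∑ i, pderiv i (f (rows r)) * h i))) := by
        simp only [t, sub_mul, mul_sub, Finset.sum_sub_distrib, Finset.mul_sum, Finset.sum_mul,
          mul_assoc]
        rw [Finset.sum_comm (γ := Fin n)]
        ring
      rw [he]
      refine add_mem (Ideal.mem_sup_left (Submodule.sum_mem _ fun r _ => ?_))
        (Ideal.mem_sup_right (add_mem hQ (hsqQ (sub_mem (Ideal.mul_mem_left _ _ hl) hr))))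
      exact Ideal.mul_mem_left _ _ (Ideal.subset_span ⟨r, rfl⟩)
  obtain ⟨g, d, hgd, hg⟩ := exists_sub_pow_mem_and_mul_mem hfg t hstep
  refine ⟨g, Nat.card ι, rows, ⟨cols, hinj⟩, ?_, fun x hx => hg x hx⟩
  have hgd' : φ g - φ t ^ d ∈ q := by
    have : φ (g - t ^ d) ∈ q := hgd
    rwa [map_sub, map_pow] at this
  rw [← hev, map_mul, mul_eq_zero, not_or]
  refine ⟨fun h0 => ?_, ?_⟩
  · have htd : φ t ^ d ∈ q := by
      have := Ideal.sub_mem _ ((hev _).1 h0) hgd'
      simpa using this
    have := Ideal.IsPrime.mem_of_pow_mem ‹q.IsPrime› d htd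
    simp only [t, map_mul, map_pow] at this
    rcases Ideal.IsPrime.mem_or_mem ‹q.IsPrime› this with h1 | h1
    · exact hs h1
    · exact hb (Ideal.IsPrime.mem_of_pow_mem ‹q.IsPrime› k h1)
  · rw [Smoothing.jacobianMinor, AlgHom.map_det, RingHom.map_det]
    exact hcols

end Groth.Agent.Smooth28
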