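import Groth.Agent.Smooth28.FieldPrimeSetup
import Groth.Agent.Smooth28.Params
import Groth.Agent.FlatMor66.RegFlat

/-! Resolving over a field at a prime with regular local ring and separable residue field. -/

set_option autoImplicit false
set_option linter.style.haveILetI false
set_option maxSynthPendingDepth 3
universe u

open TensorProduct MvPolynomial

namespace Groth.Agent.Smooth28

theorem formallySmooth_residueField_map {k Λ : Type u} [Field k] [CommRing Λ] [Algebra k Λ] (J q : Ideal Λ)
    [q.IsPrime] (hJ : J ≤ q) [(q.map (Ideal.Quotient.mk J)).IsPrime] [Algebra.FormallySmooth k q.ResidueField] :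
    Algebra.FormallySmooth k (q.map (Ideal.Quotient.mk J)).ResidueField := by
  let qb := q.map (Ideal.Quotient.mk J)
  have hc : q = qb.comap (Ideal.Quotient.mkₐ k J).toRingHom := by
    show q = (q.map (Ideal.Quotient.mk J)).comap (Ideal.Quotient.mk J)
    rw [Ideal.comap_map_of_surjective _ Ideal.Quotient.mk_surjective, ← RingHom.ker_eq_comap_bot, Ideal.mk_ker,
      sup_eq_left.2 hJ]
  let f := Ideal.ResidueField.mapₐ q qb (Ideal.Quotient.mkₐ k J) hc
  have hf : ∀ x : Λ, f (algebraMap Λ q.ResidueField x) =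
      algebraMap (Λ ⧸ J) qb.ResidueField (Ideal.Quotient.mk J x) := fun x => by
    simp [f]
  have hsurj : Function.Surjective f := by
    intro y
    obtain ⟨a, b, hb, rfl⟩ := IsFractionRing.div_surjective (A := (Λ ⧸ J) ⧸ qb) y
    obtain ⟨a, rfl⟩ := Ideal.Quotient.mk_surjective a
    obtain ⟨a, rfl⟩ := Ideal.Quotient.mk_surjective a
    obtain ⟨b, rfl⟩ := Ideal.Quotient.mk_surjective b
    obtain ⟨b, rfl⟩ := Ideal.Quotient.mk_surjective b
    exact ⟨algebraMap Λ q.ResidueField a / algebraMap Λ q.ResidueField b, by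
      rw [map_div₀, hf, hf]; rfl⟩
  exact Algebra.FormallySmooth.of_equiv (AlgEquiv.ofBijective f ⟨f.toRingHom.injective, hsurj⟩)

theorem flat_localization_quotient {P Λ : Type u} [CommRing P] [CommRing Λ] [Algebra P Λ] (K : Ideal P)
    (q : Ideal Λ) [q.IsPrime] (hK : K.map (algebraMap P Λ) ≤ q)
    [(q.map (Ideal.Quotient.mk (K.map (algebraMap P Λ)))).IsPrime] [Module.Flat P (Localization.AtPrime q)] :
    Module.Flat (P ⧸ K) (Localization.AtPrime (q.map (Ideal.Quotient.mk (K.map (algebraMap P Λ))))) := by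
  let J := K.map (algebraMap P Λ)
  let L := Localization.AtPrime q
  let qb := q.map (Ideal.Quotient.mk J)
  let T := L ⧸ K.map (algebraMap P L)
  haveI : Module.Flat (P ⧸ K) T :=
    Module.Flat.of_linearEquiv (Algebra.TensorProduct.quotIdealMapEquivQuotTensor L K).toLinearEquiv
  have hsub : Algebra.algebraMapSubmonoid (Λ ⧸ J) q.primeCompl = qb.primeCompl := by
    ext x
    obtain ⟨x, rfl⟩ := Ideal.Quotient.mk_surjective x
    have hmem : Ideal.Quotient.mk J x ∈ qb ↔ x ∈ q := by
      rw [← Ideal.mem_comap, Ideal.comap_map_of_surjective _ Ideal.Quotient.mk_surjective,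
        ← RingHom.ker_eq_comap_bot, Ideal.mk_ker, sup_eq_left.2 hK]
    constructor
    · rintro ⟨y, hy, hyx⟩ hx
      have hy' : Ideal.Quotient.mk J y ∈ qb := by
        rw [show Ideal.Quotient.mk J y = Ideal.Quotient.mk J x from hyx]; exact hx
      exact hy ((Ideal.mem_comap.2 hy' : y ∈ qb.comap (Ideal.Quotient.mk J)) |> fun h => by
        rwa [Ideal.comap_map_of_surjective _ Ideal.Quotient.mk_surjective, ← RingHom.ker_eq_comap_bot, Ideal.mk_ker,
          sup_eq_left.2 hK] at h)
    · exact fun hx => ⟨x, fun h => hx (hmem.2 h), rfl⟩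
  haveI : IsLocalization qb.primeCompl (L ⧸ J.map (algebraMap Λ L)) := hsub ▸ inferInstance
  let e₀ := IsLocalization.algEquiv qb.primeCompl (L ⧸ J.map (algebraMap Λ L)) (Localization.AtPrime qb)
  have hJ : J.map (algebraMap Λ L) = K.map (algebraMap P L) := by
    rw [Ideal.map_map, ← IsScalarTower.algebraMap_eq]
  let e : T ≃+* Localization.AtPrime qb := (Ideal.quotEquivOfEq hJ.symm).trans e₀.toRingEquiv
  refine Module.Flat.of_linearEquiv (AlgEquiv.ofRingEquiv (f := e) fun x => ?_).symm.toLinearEquiv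
  obtain ⟨x, rfl⟩ := Ideal.Quotient.mk_surjective x
  show e₀ (Ideal.Quotient.mk _ (algebraMap P L x)) = _
  rw [IsScalarTower.algebraMap_apply P Λ L]
  exact (e₀.commutes (Ideal.Quotient.mk J (algebraMap P Λ x))).trans
    ((IsScalarTower.algebraMap_apply (P ⧸ K) (Λ ⧸ J) (Localization.AtPrime qb) (Ideal.Quotient.mk K x)).symm)

set_option maxHeartbeats 1000000 in
/-- The local problem over a field can be resolved at a regular point with separable residue field. -/
theorem resolvable_regular_separable {k A Λ : Type u} [Field k] [CommRing A]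
    [Algebra k A] [Algebra.FinitePresentation k A] [CommRing Λ] [Algebra k Λ] [IsNoetherianRing Λ]
    (φ : A →ₐ[k] Λ) (q : Ideal Λ) [q.IsPrime] (hmin : q ∈ (Smoothing.singRad k φ).minimalPrimes)
    [IsRegularLocalRing (Localization.AtPrime q)]
    [Algebra.IsGeometricallyReduced k q.ResidueField] : Smoothing.Resolvable k φ q := by
  classical
  let L := Localization.AtPrime q
  haveI : Algebra.FormallySmooth k q.ResidueField :=
    Sep12.formallySmooth_iff_isGeometricallyReduced.2 inferInstance
  haveI : IsNoetherianRing A := Algebra.FiniteType.isNoetherianRing k A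
  obtain ⟨r, a, ha, hsing⟩ := exists_finset_standard (R := k) (A := A)
  let I' := Ideal.span (Set.range fun j => φ (a j))
  have hI1 : I' ≤ Smoothing.singRad k φ := by
    refine Ideal.span_le.2 ?_
    rintro _ ⟨j, rfl⟩
    exact Ideal.le_radical (Ideal.mem_map_of_mem φ (mem_singularIdeal_of_isStrictlyStandard (ha j)))
  have hI2 : Smoothing.singRad k φ ≤ I'.radical := by
    refine (Ideal.radical_isRadical I').radical_le_iff.2 (Ideal.map_le_iff_le_comap.2 fun x hx => ?_)
    rw [hsing] at hx
    obtain ⟨N, hN⟩ := hx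
    refine ⟨N, ?_⟩
    rw [← map_pow]
    have h := Ideal.mem_map_of_mem φ hN
    rwa [Ideal.map_span, ← Set.range_comp] at h
  have hI'q : I' ≤ q := hI1.trans hmin.1.2
  have hrad : IsLocalRing.maximalIdeal L ≤ (I'.map (algebraMap Λ L)).radical := by
    rw [Ideal.radical_eq_sInf]
    refine le_sInf fun J hJ => ?_
    haveI := hJ.2
    have h1 : I' ≤ J.comap (algebraMap Λ L) := Ideal.map_le_iff_le_comap.1 hJ.1
    have h2 : J.comap (algebraMap Λ L) ≤ q := fun x hx => by
      by_contra hxq
      exact hJ.2.ne_top (Ideal.eq_top_of_isUnit_mem _ hx (IsLocalization.map_units L (⟨x, hxq⟩ : q.primeCompl)))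
    have h3 : q ≤ J.comap (algebraMap Λ L) :=
      hmin.2 ⟨inferInstance, hI2.trans ((Ideal.IsPrime.radical_le_iff inferInstance).2 h1)⟩ h2
    rw [← Localization.AtPrime.map_eq_maximalIdeal]
    exact Ideal.map_le_iff_le_comap.2 h3
  obtain ⟨n₀, hn₀⟩ := Ideal.exists_pow_le_of_le_radical_of_fg hrad (IsNoetherian.noetherian _)
  let n := n₀ + 1
  have hpow : (q ^ n).map (algebraMap Λ L) ≤ I'.map (algebraMap Λ L) := by
    rw [Ideal.map_pow, Localization.AtPrime.map_eq_maximalIdeal]
    exact (Ideal.pow_le_pow_right (Nat.le_succ n₀)).trans hn₀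
  obtain ⟨d, hd⟩ : ∃ d : ℕ, ringKrullDim L = d :=
    ⟨_, (IsRegularLocalRing.spanFinrank_maximalIdeal (R := L)).symm⟩
  rcases Nat.eq_zero_or_pos d with hd0 | hd0
  · have hqmin : q ∈ minimalPrimes Λ := by
      rw [← Ideal.height_eq_zero_iff]
      have h := IsLocalization.AtPrime.ringKrullDim_eq_height q L
      rw [hd, hd0] at h
      exact_mod_cast h.symm
    refine resolvable_of_flat_minimal (k := k) φ q hqmin ?_ fun x => ⟨x, by rw [sub_self]; exact Submodule.zero_mem _⟩
    have hbot : IsLocalRing.maximalIdeal L = ⊥ := by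
      have h := IsRegularLocalRing.spanFinrank_maximalIdeal (R := L)
      rw [hd, hd0] at h
      exact (Submodule.spanFinrank_eq_zero_iff_eq_bot (IsLocalRing.maximalIdeal L).fg_of_isNoetherianRing).1
        (by exact_mod_cast h)
    rw [(q.comap (algebraMap k Λ)).eq_bot_of_prime, Ideal.map_bot]
    exact hbot.symm
  let P := MvPolynomial (Fin d) k
  let C0 := Chart k d n a
  haveI : Algebra.FinitePresentation P C0 := finitePresentation_chart k d n a
  have hxmem : ∀ i, algebraMap P C0 (X i) ∈ Smoothing.singularIdeal P C0 := fun i => by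
    refine (PrimeSpectrum.isRadical_vanishingIdeal _) ⟨n, ?_⟩
    refine (Ideal.span_le.2 ?_ : _ ≤ Smoothing.singularIdeal P C0) (pow_mem_span_chart (n := n) (a := a) i)
    rintro _ ⟨j, rfl⟩
    exact mem_singularIdeal_of_smooth_away (smooth_chart_away ha j)
  obtain ⟨C, _, _, hC, ι, σ, hσι, hιsing, e, he, hestd⟩ := exists_retract_standard_pow (fun i => (X i : P)) hxmem
  haveI := hC
  obtain ⟨π, hπspan, hπI, hπann⟩ := exists_parameters_fixed I' q n (e * 8) d (by omega) (by omega) hpow hd
  choose lam hlam using fun i => (Submodule.mem_span_range_iff_exists_fun Λ).1 (hπI i)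
  have hπq : ∀ i, π i ∈ q := fun i => Ideal.IsPrime.mem_of_pow_mem ‹_› n (hI'q (hπI i))
  letI : Algebra P Λ := (MvPolynomial.aeval π : P →ₐ[k] Λ).toRingHom.toAlgebra
  haveI : IsScalarTower k P Λ := IsScalarTower.of_algebraMap_eq fun c => ((MvPolynomial.aeval π).commutes c).symm
  have hXπ : ∀ i, algebraMap P Λ (X i) = π i := fun i => aeval_X π i
  let ψB : P ⊗[k] A →ₐ[P] Λ := Algebra.TensorProduct.lift (Algebra.ofId P Λ) φ fun _ _ => Commute.all _ _
  have hψ1 : ∀ p : P, ψB (p ⊗ₜ[k] (1 : A)) = algebraMap P Λ p := fun p => by simp [ψB]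
  have hψ2 : ∀ x : A, ψB ((1 : P) ⊗ₜ[k] x) = φ x := fun x => by simp [ψB]
  let φ₀ : C0 →ₐ[P] Λ := Ideal.Quotient.liftₐ _ (MvPolynomial.aevalTower ψB fun il : Fin d × Fin r => lam il.1 il.2)
    fun x hx => by
      refine (Ideal.span_le.2 ?_ : _ ≤ RingHom.ker
        (MvPolynomial.aevalTower ψB fun il : Fin d × Fin r => lam il.1 il.2).toRingHom) hx
      rintro _ ⟨i, rfl⟩
      show MvPolynomial.aevalTower ψB _ (chartRel k d n a i) = 0
      rw [chartRel, map_sub, map_sum]
      simp only [map_mul, aevalTower_C, aevalTower_X, hψ1, hψ2, map_pow, hXπ]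
      rw [sub_eq_zero, ← hlam i]
      exact Finset.sum_congr rfl fun j _ => (mul_comm _ _).trans (smul_eq_mul _ _).symm |>.symm |>.symm
  let φ₁ : C →ₐ[P] Λ := φ₀.comp σ
  letI : Algebra k C := ((algebraMap P C).comp (algebraMap k P)).toAlgebra
  haveI : IsScalarTower k P C := IsScalarTower.of_algebraMap_eq fun _ => rfl
  let incl : A →ₐ[k] C0 :=
    ((IsScalarTower.toAlgHom P (P ⊗[k] A) C0).restrictScalars k).comp Algebra.TensorProduct.includeRight
  have hincl : ∀ x, φ₁ (ι (incl x)) = φ x := fun x => by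
    show φ₀ (σ (ι (incl x))) = φ x
    rw [show σ (ι (incl x)) = incl x from congr($hσι (incl x))]
    show MvPolynomial.aevalTower ψB _ (MvPolynomial.C ((1 : P) ⊗ₜ[k] x)) = φ x
    rw [aevalTower_C, hψ2]
  let Pw : Fin d → P := fun i => X i ^ e
  have hPw8 : ∀ i, Pw i ^ 8 = X i ^ (e * 8) := fun i => (pow_mul _ _ _).symm
  let K : Ideal P := Ideal.span (Set.range fun i => Pw i ^ 8)
  have hKq : K.map (algebraMap P Λ) ≤ q := by
    rw [Ideal.map_le_iff_le_comap, Ideal.span_le]
    rintro _ ⟨i, rfl⟩
    show algebraMap P Λ (Pw i ^ 8) ∈ q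
    rw [hPw8, map_pow, hXπ]
    exact Ideal.pow_mem_of_mem _ (hπq i) _ (by omega)
  haveI hqb : (q.map (Ideal.Quotient.mk (K.map (algebraMap P Λ)))).IsPrime :=
    Ideal.map_isPrime_of_surjective Ideal.Quotient.mk_surjective (by rw [Ideal.mk_ker]; exact hKq)
  obtain ⟨φK, hφK⟩ := exists_quotient_algHom φ₁ K
  have hclear : ∀ x ∈ q, ∃ s ∉ q, s * x ∈ Ideal.span (Set.range π) := fun x hx => by
    have h := Ideal.mem_map_of_mem (algebraMap Λ L) hx
    rw [← hπspan, Set.range_comp' (algebraMap Λ L) π, ← Ideal.map_span,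
      IsLocalization.algebraMap_mem_map_algebraMap_iff q.primeCompl L] at h
    exact h
  have hres : Smoothing.Resolvable (P ⧸ K) φK (q.map (Ideal.Quotient.mk (K.map (algebraMap P Λ)))) := by
    haveI : Algebra.FinitePresentation P (C ⧸ K.map (algebraMap P C)) :=
      Algebra.FinitePresentation.quotient (Ideal.FG.map (IsNoetherian.noetherian K) _)
    haveI : Algebra.FinitePresentation (P ⧸ K) (C ⧸ K.map (algebraMap P C)) :=
      Algebra.FinitePresentation.of_restrict_scalars_finitePresentation P _ _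
    haveI : IsScalarTower k (P ⧸ K) (Λ ⧸ K.map (algebraMap P Λ)) := IsScalarTower.of_algebraMap_eq fun c =>
      congrArg (Ideal.Quotient.mk (K.map (algebraMap P Λ))) (IsScalarTower.algebraMap_apply k P Λ c)
    haveI : Algebra.FormallySmooth k (q.map (Ideal.Quotient.mk (K.map (algebraMap P Λ)))).ResidueField :=
      formallySmooth_residueField_map _ q hKq
    haveI : Module.Flat P L := by
      rw [← RingHom.flat_algebraMap_iff]
      have hspan : Ideal.span (Set.range fun i => algebraMap Λ L (π i)) = IsLocalRing.maximalIdeal L :=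
        hπspan.trans Localization.AtPrime.map_eq_maximalIdeal
      convert FlatMor66.flat_mvPolynomial_of_regular (k := k) d L (fun i => algebraMap Λ L (π i))
        (fun i => hspan ▸ Ideal.subset_span ⟨i, rfl⟩) (CAlg1.isRegular_params hd _ hspan).toIsWeaklyRegular using 1
      refine MvPolynomial.ringHom_ext (fun c => ?_) fun i => ?_
      · show algebraMap P L (algebraMap k P c) = aeval (R := k) (fun i => algebraMap Λ L (π i)) (algebraMap k P c)
        rw [AlgHom.commutes, ← IsScalarTower.algebraMap_apply]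
      · show algebraMap P L (X i) = aeval (R := k) (fun i => algebraMap Λ L (π i)) (X i)
        rw [aeval_X, IsScalarTower.algebraMap_apply P Λ L, hXπ]
    haveI := flat_localization_quotient K q hKq
    refine resolvable_of_flat_minimal (k := k) φK _ ⟨⟨hqb, bot_le⟩, fun p hp hle => ?_⟩ ?_ ?_
    · haveI := hp.1
      intro y hy
      obtain ⟨x, rfl⟩ := Ideal.Quotient.mk_surjective y
      have hxq : x ∈ q := by
        have h : x ∈ (q.map (Ideal.Quotient.mk (K.map (algebraMap P Λ)))).comap (Ideal.Quotient.mk _) := hy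
        rwa [Ideal.comap_map_of_surjective _ Ideal.Quotient.mk_surjective, ← RingHom.ker_eq_comap_bot, Ideal.mk_ker,
          sup_eq_left.2 hKq] at h
      let p' := p.comap (Ideal.Quotient.mk (K.map (algebraMap P Λ)))
      have hp'q : p' ≤ q := fun z hz => by
        have h : z ∈ (q.map (Ideal.Quotient.mk (K.map (algebraMap P Λ)))).comap (Ideal.Quotient.mk _) := hle hz
        rwa [Ideal.comap_map_of_surjective _ Ideal.Quotient.mk_surjective, ← RingHom.ker_eq_comap_bot, Ideal.mk_ker,
          sup_eq_left.2 hKq] at h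
      have hπp : ∀ i, π i ∈ p' := fun i => by
        refine Ideal.IsPrime.mem_of_pow_mem inferInstance (e * 8) ?_
        show Ideal.Quotient.mk _ (π i ^ (e * 8)) ∈ p
        rw [← hXπ, ← map_pow, ← hPw8,
          Ideal.Quotient.eq_zero_iff_mem.2 (Ideal.mem_map_of_mem (algebraMap P Λ) (Ideal.subset_span ⟨i, rfl⟩ : Pw i ^ 8 ∈ K))]
        exact Submodule.zero_mem _
      obtain ⟨s, hs, hsx⟩ := hclear x hxq
      exact ((inferInstance : p'.IsPrime).mem_or_mem ((Ideal.span_le.2 (by rintro _ ⟨i, rfl⟩; exact hπp i) :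
        Ideal.span (Set.range π) ≤ p') hsx)).resolve_left fun h => hs (hp'q h)
    · let Λb := Λ ⧸ K.map (algebraMap P Λ)
      let qb : Ideal Λb := q.map (Ideal.Quotient.mk _)
      let Lb := Localization.AtPrime qb
      refine le_antisymm (Ideal.map_le_iff_le_comap.2 fun x hx => ?_) ?_
      · rw [Ideal.mem_comap, IsScalarTower.algebraMap_apply (P ⧸ K) Λb Lb, ← Localization.AtPrime.map_eq_maximalIdeal]
        exact Ideal.mem_map_of_mem _ hx
      · rw [← Localization.AtPrime.map_eq_maximalIdeal (I := qb), Ideal.map_le_iff_le_comap, Ideal.map_le_iff_le_comap]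
        intro x hx
        obtain ⟨s, hs, hsx⟩ := hclear x hx
        let R' := (qb.comap (algebraMap (P ⧸ K) Λb)).map (algebraMap (P ⧸ K) Lb)
        have hu : IsUnit (algebraMap Λb Lb (Ideal.Quotient.mk _ s)) :=
          IsLocalization.map_units Lb (⟨Ideal.Quotient.mk _ s, fun h => hs (by
            have h' : s ∈ qb.comap (Ideal.Quotient.mk _) := h
            rwa [Ideal.comap_map_of_surjective _ Ideal.Quotient.mk_surjective, ← RingHom.ker_eq_comap_bot, Ideal.mk_ker,
              sup_eq_left.2 hKq] at h')⟩ : qb.primeCompl)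
        have hsp : Ideal.span (Set.range π) ≤ R'.comap ((algebraMap Λb Lb).comp (Ideal.Quotient.mk _)) := by
          refine Ideal.span_le.2 ?_
          rintro _ ⟨i, rfl⟩
          show algebraMap Λb Lb (Ideal.Quotient.mk _ (π i)) ∈ R'
          have h1 : algebraMap (P ⧸ K) Λb (Ideal.Quotient.mk K (X i)) = Ideal.Quotient.mk _ (π i) :=
            congrArg (Ideal.Quotient.mk _) (hXπ i)
          rw [← h1, ← IsScalarTower.algebraMap_apply (P ⧸ K) Λb Lb]
          refine Ideal.mem_map_of_mem _ ?_
          show algebraMap (P ⧸ K) Λb (Ideal.Quotient.mk K (X i)) ∈ qb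
          rw [h1]
          exact Ideal.mem_map_of_mem _ (hπq i)
        have hmem : algebraMap Λb Lb (Ideal.Quotient.mk _ (s * x)) ∈ R' := hsp hsx
        rw [map_mul, map_mul, Ideal.unit_mul_mem_iff_mem _ hu] at hmem
        exact hmem
    · intro y
      obtain ⟨y, rfl⟩ := Ideal.Quotient.mk_surjective y
      have key : ∀ p : P, ∃ c : k, algebraMap P Λ p - algebraMap k Λ c ∈ q := fun p => by
        induction p using MvPolynomial.induction_on with
        | C c =>
          refine ⟨c, ?_⟩
          rw [show (MvPolynomial.C c : P) = algebraMap k P c from rfl, ← IsScalarTower.algebraMap_apply, sub_self]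
          exact Submodule.zero_mem _
        | add p p' hp hp' =>
          obtain ⟨c, hc⟩ := hp; obtain ⟨c', hc'⟩ := hp'
          exact ⟨c + c', by rw [map_add, map_add, add_sub_add_comm]; exact Ideal.add_mem _ hc hc'⟩
        | mul_X p i _ => exact ⟨0, by rw [map_mul, hXπ, map_zero, sub_zero]; exact Ideal.mul_mem_left _ _ (hπq i)⟩
      obtain ⟨c, hc⟩ := key y
      exact ⟨c, Ideal.mem_map_of_mem (Ideal.Quotient.mk (K.map (algebraMap P Λ))) hc⟩
  obtain ⟨B, _, _, hBfp, g, h, hgh, hle, hs⟩ := S6822.result φ₁ q hd0 Pw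
    (fun i => by
      show algebraMap P Λ (X i ^ e) ∈ q
      rw [map_pow, hXπ]
      exact Ideal.pow_mem_of_mem _ (hπq i) _ he)
    (fun i x hx => by
      obtain ⟨x, rfl⟩ := Ideal.Quotient.mk_surjective x
      rw [← map_pow, ← map_mul, Ideal.Quotient.eq_zero_iff_mem] at hx
      rw [← map_mul, Ideal.Quotient.eq_zero_iff_mem]
      simp only [hPw8] at hx ⊢
      refine mem_span_powers_of_mul e (e * 8) i _ ?_
      rwa [← mul_assoc, ← pow_two])
    (fun i x hx => by
      have hJ : (fun j : {j : Fin d // (j : ℕ) < (i : ℕ)} => algebraMap P Λ (Pw j) ^ 8) =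
          fun j : {j : Fin d // (j : ℕ) < (i : ℕ)} => π j ^ (e * 8) := funext fun j => by
        rw [← map_pow, hPw8, map_pow, hXπ]
      obtain ⟨x, rfl⟩ := Ideal.Quotient.mk_surjective x
      rw [← map_pow, ← map_mul, Ideal.Quotient.eq_zero_iff_mem, hJ, map_pow, hXπ, ← pow_mul,
        ← Ideal.Quotient.eq_zero_iff_mem, map_mul, map_pow] at hx
      rw [← map_mul, Ideal.Quotient.eq_zero_iff_mem, hJ, map_pow, hXπ, ← Ideal.Quotient.eq_zero_iff_mem, map_mul,
        map_pow]
      obtain ⟨e', he'⟩ : ∃ e', e = e' + 1 := ⟨e - 1, by omega⟩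
      have h1 := mul_pow_eq_zero _ (hπann i) (2 * e' + 1) _ (by rw [show 2 * e' + 1 + 1 = e * 2 by omega]; exact hx)
      rw [show (Ideal.Quotient.mk (Ideal.span (Set.range fun j : {j : Fin d // (j : ℕ) < (i : ℕ)} => π j ^ (e * 8))) (π i)) ^ e =
        Ideal.Quotient.mk _ (π i) ^ e' * Ideal.Quotient.mk _ (π i) by rw [← pow_succ, ← he'], mul_assoc, h1, mul_zero])
    hestd K rfl φK hφK hres
  letI : Algebra k B := ((algebraMap P B).comp (algebraMap k P)).toAlgebra
  haveI : IsScalarTower k P B := IsScalarTower.of_algebraMap_eq fun _ => rfl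
  haveI : Algebra.Smooth k P := ⟨inferInstance, inferInstance⟩
  have hbase : Smoothing.singRad P h ≤ Smoothing.singRad k (h.restrictScalars k) :=
    Ideal.radical_mono (Ideal.map_mono singularIdeal_le_of_smooth_base)
  refine ⟨B, inferInstance, inferInstance, Algebra.FinitePresentation.trans k P B,
    (g.restrictScalars k).comp ((ι.restrictScalars k).comp incl), h.restrictScalars k, AlgHom.ext fun x => ?_, ?_,
    fun hc => hs (hbase.trans hc)⟩
  · show h (g (ι (incl x))) = φ x
    rw [← AlgHom.comp_apply h g, hgh]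
    exact hincl x
  · refine (hI2.trans ((Ideal.radical_isRadical _).radical_le_iff.2 (Ideal.span_le.2 ?_))).trans hbase
    rintro _ ⟨j, rfl⟩
    show φ (a j) ∈ Smoothing.singRad P h
    rw [← hincl]
    exact hle (Ideal.le_radical (Ideal.mem_map_of_mem φ₁ (hιsing _ (mem_singularIdeal_of_smooth_away
      (smooth_chart_away ha j)))))

end Groth.Agent.Smooth28
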