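import Groth.Agent.Smooth28.SynChart

/-! Syntomic algebras lift along surjections. -/

set_option autoImplicit false
universe u

open MvPolynomial Matrix Groth.Agent.RelGCI94

namespace Groth.Agent.Smooth28

variable {R : Type u} [CommRing R]

theorem mem_sq_of_map_mem_sq {n m : ℕ} (I : Ideal R) (f : Fin m → MvPolynomial (Fin n) R) (y : MvPolynomial (Fin n) R)
    (hy : MvPolynomial.map (Ideal.Quotient.mk I) y ∈
      Ideal.span (Set.range fun i => MvPolynomial.map (Ideal.Quotient.mk I) (f i)) ^ 2) :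
    y ∈ I.map MvPolynomial.C ⊔ Ideal.span (Set.range f) ^ 2 := by
  let red := MvPolynomial.map (σ := Fin n) (Ideal.Quotient.mk I)
  have h1 : y ∈ ((Ideal.span (Set.range f) ^ 2).map red).comap red := by
    rw [Ideal.map_pow, Ideal.map_span, ← Set.range_comp]
    exact hy
  rw [Ideal.comap_map_of_surjective red (MvPolynomial.map_surjective (Ideal.Quotient.mk I) Ideal.Quotient.mk_surjective),
    ← RingHom.ker_eq_comap_bot, MvPolynomial.ker_map, Ideal.mk_ker, sup_comm] at h1
  exact h1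

/-- The algebra glued from the charts. -/
theorem exists_open_chart {P' : Type u} [CommRing P'] [Algebra R P'] (J N : Ideal P')
    (h : ∀ q : Ideal P', q.IsPrime → N ≤ q → ∃ a ∉ q, Synt.IsSyntomic R (Localization.Away (Ideal.Quotient.mk J a))) :
    ∃ l, l - 1 ∈ N ∧ Synt.IsSyntomic R (Localization.Away (Ideal.Quotient.mk J l)) := by
  let S : Set P' := {a | Synt.IsSyntomic R (Localization.Away (Ideal.Quotient.mk J a))}
  have htop : Ideal.span S ⊔ N = ⊤ := by
    by_contra hne
    obtain ⟨q, hq, hle⟩ := Ideal.exists_le_maximal _ hne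
    obtain ⟨a, ha, hs⟩ := h q hq.isPrime (le_sup_right.trans hle)
    exact ha (hle (Submodule.mem_sup_left (Ideal.subset_span hs)))
  obtain ⟨l, hl, j, hj, hlj⟩ := Submodule.mem_sup.1 ((Ideal.eq_top_iff_one _).1 htop)
  refine ⟨l, by rw [show l - 1 = -j by rw [← hlj]; ring]; exact neg_mem hj, ?_⟩
  let l' := Ideal.Quotient.mk J l
  refine isSyntomic_of_local fun p => ?_
  let q := (p.asIdeal.comap (algebraMap (P' ⧸ J) (Localization.Away l'))).comap (Ideal.Quotient.mk J)
  have hlq : l ∉ q := fun hm => p.2.ne_top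
    (Ideal.eq_top_of_isUnit_mem _ hm (IsLocalization.Away.algebraMap_isUnit (S := Localization.Away l') l'))
  obtain ⟨a, ha, haq⟩ : ∃ a ∈ S, a ∉ q := by
    by_contra hall
    push Not at hall
    exact hlq ((Ideal.span_le.2 hall) hl)
  refine ⟨algebraMap (P' ⧸ J) _ (Ideal.Quotient.mk J a), haq, ?_⟩
  exact isSyntomic_congr (awayAwayEquiv R l' (Ideal.Quotient.mk J a)).symm
    (isSyntomic_of_away ha (algebraMap (P' ⧸ J) _ l') _)

theorem exists_lift_of_presentation (I : Ideal R) {n m : ℕ} (f : Fin m → MvPolynomial (Fin n) R)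
    (h₀ : Synt.IsSyntomic (R ⧸ I) (MvPolynomial (Fin n) (R ⧸ I) ⧸
      Ideal.span (Set.range fun i => MvPolynomial.map (Ideal.Quotient.mk I) (f i)))) :
    ∃ (A : Type u) (_ : CommRing A) (_ : Algebra R A), Synt.IsSyntomic R A ∧
      ∃ ψ : A →ₐ[R] MvPolynomial (Fin n) R ⧸ (I.map MvPolynomial.C ⊔ Ideal.span (Set.range f)),
        Function.Surjective ψ ∧ RingHom.ker ψ.toRingHom = I.map (algebraMap R A) := by
  classical
  let red : MvPolynomial (Fin n) R →+* MvPolynomial (Fin n) (R ⧸ I) := MvPolynomial.map (Ideal.Quotient.mk I)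
  obtain ⟨E₀, hE₀, hrel, hE₀2⟩ := exists_conormal_idem (fun i => red (f i))
    fun Q hQ hI => locFree_of_isSyntomic _ h₀ Q hQ hI
  choose E hE using fun i j => MvPolynomial.map_surjective (σ := Fin n) (Ideal.Quotient.mk I)
    Ideal.Quotient.mk_surjective (E₀ i j)
  have hmap : (Matrix.of E).map red = E₀ := Matrix.ext hE
  let K := I.map MvPolynomial.C ⊔ Ideal.span (Set.range f)
  obtain ⟨P', _, _, _, _, hstd, θ, E', hid, hθE, hθ⟩ := exists_etale_split I f (Matrix.of E) K rfl
    (fun i => mem_sq_of_map_mem_sq I f _ (by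
      rw [map_sub, map_sum]
      simp only [map_mul, Matrix.of_apply, hE]
      exact hE₀ i))
    (fun i j => mem_of_map_mem_span I f _ (by
      rw [map_sub, Matrix.mul_apply, map_sum]
      simp only [map_mul, Matrix.of_apply, hE]
      rw [← Matrix.mul_apply]
      exact Ideal.pow_le_self two_ne_zero (hE₀2 i j)))
  let J : Ideal P' := Ideal.span (Set.range (E' *ᵥ fun j => algebraMap (MvPolynomial (Fin n) R) P' (f j)))
  obtain ⟨l, hl, hA⟩ := exists_open_chart (R := R) J (RingHom.ker θ.toRingHom) fun q hq hle =>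
    exists_syntomic_chart I f (Matrix.of E) K rfl h₀ (fun c hc j => by
      rw [show (Matrix.of E).map (MvPolynomial.map (Ideal.Quotient.mk I)) = E₀ from hmap]
      exact hrel c hc j) P' θ E' hid hθE J rfl hθ q hle
  let T := MvPolynomial (Fin n) R ⧸ K
  let θR : P' →ₐ[R] T := θ.restrictScalars R
  let θJ : (P' ⧸ J) →ₐ[R] T := Ideal.Quotient.liftₐ J θR fun x hx => hθ.ge (Submodule.mem_sup_right hx)
  have hl1 : θJ (Ideal.Quotient.mk J l) = 1 := by
    have h1 : θ (l - 1) = 0 := hl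
    rwa [map_sub, map_one, sub_eq_zero] at h1
  let A := Localization.Away (Ideal.Quotient.mk J l)
  let ψ : A →ₐ[R] T := IsLocalization.liftAlgHom (M := Submonoid.powers (Ideal.Quotient.mk J l)) (S := A) (f := θJ) (by
    rintro ⟨_, k, rfl⟩
    rw [map_pow, hl1, one_pow]
    exact isUnit_one)
  have hψ : ∀ x, ψ (algebraMap _ A (Ideal.Quotient.mk J x)) = θ x := fun x => IsLocalization.lift_eq _ _
  refine ⟨A, inferInstance, inferInstance, hA, ψ, fun t => ?_, le_antisymm (fun z hz => ?_) ?_⟩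
  · obtain ⟨y, rfl⟩ := Ideal.Quotient.mk_surjective t
    exact ⟨algebraMap _ A (Ideal.Quotient.mk J (algebraMap _ P' y)), (hψ _).trans (θ.commutes y)⟩
  · obtain ⟨k, x, hx⟩ := IsLocalization.Away.surj (Ideal.Quotient.mk J l) z
    obtain ⟨x, rfl⟩ := Ideal.Quotient.mk_surjective x
    have h1 : θ x = 0 := by
      rw [← hψ, ← hx, map_mul, show ψ z = 0 from hz, zero_mul]
    obtain ⟨y, hy, w, hw, hyw⟩ := Submodule.mem_sup.1 (hθ.le (h1 : x ∈ RingHom.ker θ.toRingHom))
    refine (Ideal.mul_unit_mem_iff_mem _ ((IsLocalization.Away.algebraMap_isUnit (S := A) (Ideal.Quotient.mk J l)).pow k)).1 ?_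
    rw [hx, ← hyw, map_add, Ideal.Quotient.eq_zero_iff_mem.2 hw, add_zero]
    have h2 := Ideal.mem_map_of_mem (algebraMap (P' ⧸ J) A) (Ideal.mem_map_of_mem (Ideal.Quotient.mk J) hy)
    rwa [Ideal.map_map, Ideal.map_map, show ((algebraMap (P' ⧸ J) A).comp (Ideal.Quotient.mk J)).comp (algebraMap R P') =
      algebraMap R A from RingHom.ext fun r => ((IsScalarTower.algebraMap_apply R (P' ⧸ J) A r).trans
        (congrArg _ (IsScalarTower.algebraMap_apply R P' (P' ⧸ J) r))).symm] at h2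
  · refine Ideal.map_le_iff_le_comap.2 fun r hr => ?_
    show ψ (algebraMap R A r) = 0
    rw [AlgHom.commutes, IsScalarTower.algebraMap_apply R (MvPolynomial (Fin n) R) T]
    exact Ideal.Quotient.eq_zero_iff_mem.2 (Submodule.mem_sup_left (Ideal.mem_map_of_mem _ hr))

theorem nonempty_algEquiv_quotient (I : Ideal R) {A T A₀ : Type u} [CommRing A] [Algebra R A] [CommRing T]
    [Algebra R T] [CommRing A₀] [Algebra (R ⧸ I) A₀] (ψ : A →ₐ[R] T) (hψs : Function.Surjective ψ)
    (hψk : RingHom.ker ψ.toRingHom = I.map (algebraMap R A)) (ρ : T →+* A₀) (hρ : Function.Bijective ρ)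
    (hρR : ∀ r, ρ (algebraMap R T r) = algebraMap (R ⧸ I) A₀ (Ideal.Quotient.mk I r)) :
    Nonempty ((A ⧸ I.map (algebraMap R A)) ≃ₐ[R ⧸ I] A₀) := by
  let τ : (A ⧸ I.map (algebraMap R A)) →+* A₀ := Ideal.Quotient.lift _ (ρ.comp ψ.toRingHom) fun x hx => by
    show ρ (ψ.toRingHom x) = 0
    rw [RingHom.mem_ker.1 (hψk.ge hx), map_zero]
  let τ' : (A ⧸ I.map (algebraMap R A)) →ₐ[R ⧸ I] A₀ :=
    { τ with
      commutes' := fun r => by
        obtain ⟨r, rfl⟩ := Ideal.Quotient.mk_surjective r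
        exact (congrArg ρ (ψ.commutes r)).trans (hρR r) }
  refine ⟨AlgEquiv.ofBijective τ' ⟨?_, Ideal.Quotient.lift_surjective_of_surjective _ _ (hρ.2.comp hψs)⟩⟩
  refine RingHom.lift_injective_of_ker_le_ideal _ _ fun x hx => hψk.le ?_
  exact hρ.1 ((RingHom.mem_ker.1 hx).trans (map_zero ρ).symm)

/-- **Syntomic algebras lift along surjections of rings.** -/
theorem exists_syntomic_lift {A₀ : Type u} [CommRing A₀] (I : Ideal R) [Algebra (R ⧸ I) A₀]
    (h : Synt.IsSyntomic (R ⧸ I) A₀) :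
    ∃ (A : Type u) (_ : CommRing A) (_ : Algebra R A), Synt.IsSyntomic R A ∧
      Nonempty ((A ⧸ I.map (algebraMap R A)) ≃ₐ[R ⧸ I] A₀) := by
  classical
  obtain ⟨n, φ, hφ, hfg⟩ := h.2.1.out
  obtain ⟨m, f₀, hf₀⟩ := Submodule.fg_iff_exists_fin_generating_family.1 hfg
  choose f hf using fun i => MvPolynomial.map_surjective (σ := Fin n) (Ideal.Quotient.mk I)
    Ideal.Quotient.mk_surjective (f₀ i)
  obtain rfl : (fun i => MvPolynomial.map (Ideal.Quotient.mk I) (f i)) = f₀ := funext hf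
  let eA := (Ideal.quotientEquivAlgOfEq (R ⧸ I) hf₀).trans (Ideal.quotientKerAlgEquivOfSurjective hφ)
  obtain ⟨A, _, _, hA, ψ, hψs, hψk⟩ := exists_lift_of_presentation I f (isSyntomic_congr eA.symm h)
  let K := I.map MvPolynomial.C ⊔ Ideal.span (Set.range f)
  let π : MvPolynomial (Fin n) R →+* A₀ := φ.toRingHom.comp (MvPolynomial.map (Ideal.Quotient.mk I))
  have hπs : Function.Surjective π := hφ.comp (MvPolynomial.map_surjective _ Ideal.Quotient.mk_surjective)
  have hπK : RingHom.ker π = K := by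
    refine le_antisymm (fun y hy => mem_of_map_mem_span I f y (hf₀.ge hy)) (sup_le ?_ ?_)
    · refine Ideal.map_le_iff_le_comap.2 fun r hr => ?_
      show φ (MvPolynomial.map (Ideal.Quotient.mk I) (C r)) = 0
      rw [MvPolynomial.map_C, Ideal.Quotient.eq_zero_iff_mem.2 hr, map_zero, map_zero]
    · refine Ideal.span_le.2 ?_
      rintro _ ⟨i, rfl⟩
      exact hf₀.le (Ideal.subset_span ⟨i, rfl⟩)
  exact ⟨A, inferInstance, inferInstance, hA,
    nonempty_algEquiv_quotient I ψ hψs hψk (Ideal.Quotient.lift K π fun x hx => hπK.ge hx)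
      ⟨RingHom.lift_injective_of_ker_le_ideal K _ hπK.le, Ideal.Quotient.lift_surjective_of_surjective K _ hπs⟩
      fun r => by
        show φ (MvPolynomial.map (Ideal.Quotient.mk I) (C r)) = _
        rw [MvPolynomial.map_C, ← MvPolynomial.algebraMap_eq, AlgHom.commutes]⟩

end Groth.Agent.Smooth28
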