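import Groth.Agent.Smooth28.SynBundle
import Groth.Agent.Smooth28.Retract

/-! A syntomic algebra is a smooth retract of a relative global complete intersection. -/

set_option autoImplicit false
universe u

open MvPolynomial

namespace Groth.Agent.Smooth28

variable {R : Type u} [CommRing R] {n m : ℕ}

theorem idem_sub_apply_eq_zero {A : Type u} [CommRing A] (e : Fin m → Fin m → A)
    (he : ∀ i j, e i j = ∑ k, e i k * e k j) (i : Fin m) :
    (∑ j, C (e i j) * X j) - ∑ k, C (e i k) * ∑ j, (C (e k j) * X j : MvPolynomial (Fin m) A) = 0 := by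
  rw [sub_eq_zero]
  simp only [Finset.mul_sum, ← mul_assoc, ← map_mul]
  rw [Finset.sum_comm]
  refine Finset.sum_congr rfl fun j _ => ?_
  rw [← Finset.sum_mul, ← map_sum, ← he]

theorem exists_bundle_maps (f : Fin m → MvPolynomial (Fin n) R)
    (E : Matrix (Fin m) (Fin m) (MvPolynomial (Fin n) R))
    (hE2 : ∀ i j, (E * E) i j - E i j ∈ Ideal.span (Set.range f)) :
    ∃ (a : (MvPolynomial (Fin n) R ⧸ Ideal.span (Set.range f)) →ₐ[R]
        MvPolynomial (Fin (n + m)) R ⧸ bundleIdeal f E)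
      (ρ : (MvPolynomial (Fin (n + m)) R ⧸ bundleIdeal f E) →ₐ[R]
        MvPolynomial (Fin n) R ⧸ Ideal.span (Set.range f)),
      (∀ x, ρ (a x) = x) ∧ a.toRingHom.FormallySmooth := by
  classical
  let A := MvPolynomial (Fin n) R ⧸ Ideal.span (Set.range f)
  let C₀ := MvPolynomial (Fin (n + m)) R ⧸ bundleIdeal f E
  let a : A →ₐ[R] C₀ := Ideal.quotientMapₐ (bundleIdeal f E) (oldVars (R := R) (n := n) (m := m)) (Ideal.span_le.2 (by
    rintro _ ⟨i, rfl⟩
    exact Ideal.subset_span (Or.inl ⟨i, rfl⟩)))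
  let mkA : MvPolynomial (Fin n) R →ₐ[R] A := Ideal.Quotient.mkₐ R _
  have hlift : ∀ {T : Type u} [CommRing T] [Algebra R T] [Algebra A T] [IsScalarTower R A T] (v : Fin m → T),
      ∀ x : MvPolynomial (Fin n) R, aeval (Fin.append (fun i => algebraMap A T (mkA (X i))) v) (oldVars (m := m) x) =
        algebraMap A T (mkA x) := by
    intro T _ _ _ _ v x
    rw [oldVars, aeval_rename]
    exact AlgHom.congr_fun (show aeval ((Fin.append (fun i => algebraMap A T (mkA (X i))) v) ∘ Fin.castAdd m) =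
      (IsScalarTower.toAlgHom R A T).comp mkA from algHom_ext fun i => by simp) x
  let ρ₀ : MvPolynomial (Fin (n + m)) R →ₐ[R] A := aeval (Fin.append (fun i => algebraMap A A (mkA (X i))) 0)
  have hρ : ∀ x ∈ bundleIdeal f E, ρ₀ x = 0 := by
    intro x hx
    refine (Ideal.span_le (I := RingHom.ker ρ₀)).2 ?_ hx
    rintro _ (⟨i, rfl⟩ | ⟨i, rfl⟩) <;> rw [SetLike.mem_coe, RingHom.mem_ker]
    · rw [hlift]
      exact Ideal.Quotient.eq_zero_iff_mem.2 (Ideal.subset_span ⟨i, rfl⟩)
    · simp [ρ₀, bundleEq]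
  refine ⟨a, Ideal.Quotient.liftₐ _ ρ₀ hρ, fun x => ?_, ?_⟩
  · obtain ⟨x, rfl⟩ := Ideal.Quotient.mk_surjective x
    exact hlift _ x
  let _ : Algebra A C₀ := a.toRingHom.toAlgebra
  have : IsScalarTower R A C₀ := IsScalarTower.of_algebraMap_eq fun r => (a.commutes r).symm
  let Ay := MvPolynomial (Fin m) A
  let v : Fin m → Ay := fun i => ∑ j, C (mkA (E i j)) * X j
  let σ₀ : MvPolynomial (Fin (n + m)) R →ₐ[R] Ay := aeval (Fin.append (fun i => algebraMap A Ay (mkA (X i))) v)
  have hσl : ∀ x : MvPolynomial (Fin n) R, σ₀ (oldVars x) = C (mkA x) := fun x => hlift v x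
  have hσ : ∀ x ∈ bundleIdeal f E, σ₀ x = 0 := by
    intro x hx
    refine (Ideal.span_le (I := RingHom.ker σ₀)).2 ?_ hx
    rintro _ (⟨i, rfl⟩ | ⟨i, rfl⟩) <;> rw [SetLike.mem_coe, RingHom.mem_ker]
    · show σ₀ (oldVars (f i)) = 0
      rw [hσl, show mkA (f i) = 0 from Ideal.Quotient.eq_zero_iff_mem.2 (Ideal.subset_span ⟨i, rfl⟩), map_zero]
    · have h1 : σ₀ (bundleEq E i) = v i - ∑ k, C (mkA (E i k)) * v k := by
        rw [bundleEq, map_sub, map_sum, show σ₀ (X (Fin.natAdd n i)) = v i from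
          (aeval_X _ _).trans (Fin.append_right _ _ i)]
        refine congrArg (v i - ·) (Finset.sum_congr rfl fun k _ => ?_)
        rw [map_mul, hσl, show σ₀ (X (Fin.natAdd n k)) = v k from (aeval_X _ _).trans (Fin.append_right _ _ k)]
      rw [h1]
      exact idem_sub_apply_eq_zero (fun i j => mkA (E i j)) (fun i j => by
        rw [show mkA (E i j) = mkA ((E * E) i j) from (Ideal.Quotient.eq.2 (hE2 i j)).symm, Matrix.mul_apply, map_sum]
        simp only [map_mul]) i
  let σ' : C₀ →ₐ[R] Ay := Ideal.Quotient.liftₐ _ σ₀ hσ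
  let σ : C₀ →ₐ[A] Ay :=
    { σ'.toRingHom with
      commutes' := fun x => by
        obtain ⟨x, rfl⟩ := Ideal.Quotient.mk_surjective x
        exact hlift v x }
  let s : Ay →ₐ[A] C₀ := aeval fun j => Ideal.Quotient.mk (bundleIdeal f E) (X (Fin.natAdd n j))
  suffices hs : s.comp σ = AlgHom.id A C₀ from
    (RingHom.formallySmooth_algebraMap (R := A) (S := C₀)).2 (@formallySmooth_of_retract A Ay C₀ _ _ _ _ _ inferInstance s σ hs)
  refine AlgHom.ext fun x => ?_
  obtain ⟨x, rfl⟩ := Ideal.Quotient.mk_surjective x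
  refine AlgHom.congr_fun (show (s.restrictScalars R).comp σ₀ = Ideal.Quotient.mkₐ R (bundleIdeal f E) from
    algHom_ext fun i => ?_) x
  induction i using Fin.addCases with
  | left j =>
    simp only [AlgHom.comp_apply, AlgHom.restrictScalars_apply, σ₀, aeval_X, Fin.append_left, AlgHom.commutes]
    exact congrArg (Ideal.Quotient.mk (bundleIdeal f E)) (rename_X _ _)
  | right j =>
    have h0 : Ideal.Quotient.mk (bundleIdeal f E) (bundleEq E j) = 0 :=
      Ideal.Quotient.eq_zero_iff_mem.2 (Ideal.subset_span (Or.inr ⟨j, rfl⟩))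
    rw [bundleEq, map_sub, map_sum, sub_eq_zero] at h0
    show s (σ₀ (X (Fin.natAdd n j))) = Ideal.Quotient.mk (bundleIdeal f E) (X (Fin.natAdd n j))
    rw [show σ₀ (X (Fin.natAdd n j)) = v j from (aeval_X _ _).trans (Fin.append_right _ _ j), h0]
    refine (map_sum s _ _).trans (Finset.sum_congr rfl fun k _ => ?_)
    rw [map_mul, map_mul]
    exact congr (congrArg _ (aeval_C _ _)) (aeval_X _ _)

/-- **Syntomic algebras are smooth retracts of relative global complete intersections.** -/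
theorem exists_smooth_retract_relGCI {A : Type u} [CommRing A] [Algebra R A] (h : Synt.IsSyntomic R A) :
    ∃ (n c : ℕ) (F : Fin c → MvPolynomial (Fin n) R), Synt.IsRelGCI R n c F ∧
      Module.Flat R (Synt.RelGCIRing R n c F) ∧
      ∃ (_ : Algebra A (Synt.RelGCIRing R n c F)) (_ : IsScalarTower R A (Synt.RelGCIRing R n c F)),
        Algebra.Smooth A (Synt.RelGCIRing R n c F) ∧
        ∃ ρ : Synt.RelGCIRing R n c F →ₐ[R] A, ∀ a : A, ρ (algebraMap A (Synt.RelGCIRing R n c F) a) = a := by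
  classical
  obtain ⟨n, φ, hφ, hfg⟩ := h.2.1.out
  obtain ⟨m, f, hf⟩ := Submodule.fg_iff_exists_fin_generating_family.1 hfg
  let eA : (MvPolynomial (Fin n) R ⧸ Ideal.span (Set.range f)) ≃ₐ[R] A :=
    (Ideal.quotientEquivAlgOfEq R hf).trans (Ideal.quotientKerAlgEquivOfSurjective hφ)
  have h' := RelGCI94.isSyntomic_congr eA.symm h
  obtain ⟨E, hE, hE', hE2⟩ := exists_conormal_idem f fun Q hQ hI => locFree_of_isSyntomic f h' Q hQ hI
  obtain ⟨g, ⟨e⟩⟩ := exists_away_bundle f E hE hE2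
  obtain ⟨a, ρ, hρ, ha⟩ := exists_bundle_maps f E fun i j => Ideal.pow_le_self two_ne_zero (hE2 i j)
  have hF := isRelGCI_bundle f h' E hE' e
  let F := RelGCI94.F' R (n + m) m (bundleRel f E) g
  let a' : A →ₐ[R] Synt.RelGCIRing R (n + m + 1) (m + 1) F := (e.symm.toAlgHom.comp a).comp eA.symm.toAlgHom
  refine ⟨_, _, F, hF, RelGCI94.flat_relGCIRing R _ _ F hF, a'.toRingHom.toAlgebra, ?_⟩
  let _ := a'.toRingHom.toAlgebra
  have : IsScalarTower R A (Synt.RelGCIRing R (n + m + 1) (m + 1) F) :=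
    IsScalarTower.of_algebraMap_eq fun r => (a'.commutes r).symm
  refine ⟨this, ⟨?_, ?_⟩, (eA.toAlgHom.comp ρ).comp e.toAlgHom, fun x => ?_⟩
  · have h1 : eA.symm.toAlgHom.toRingHom.FormallySmooth :=
      RingHom.FormallySmooth.of_bijective (f := eA.symm.toAlgHom.toRingHom) eA.symm.bijective
    have h2 : e.symm.toAlgHom.toRingHom.FormallySmooth :=
      RingHom.FormallySmooth.of_bijective (f := e.symm.toAlgHom.toRingHom) e.symm.bijective
    exact RingHom.formallySmooth_algebraMap.1 ((h1.comp ha).comp h2)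
  · have : Algebra.FinitePresentation R (Synt.RelGCIRing R (n + m + 1) (m + 1) F) :=
      RelGCI94.finitePresentation_relGCIRing R _ _ F
    have : Algebra.FinitePresentation R A := h.2.1
    exact Algebra.FinitePresentation.of_restrict_scalars_finitePresentation R A _
  · show eA (ρ (e (e.symm (a (eA.symm x))))) = x
    rw [e.apply_symm_apply, hρ, eA.apply_symm_apply]

end Groth.Agent.Smooth28
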