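import Groth.Agent.S2162
import Groth.Agent.S2022
import Groth.Agent.S2030
import Groth.Agent.S2031
import Groth.Agent.S6822
import Groth.Agent.Sep12.Basic
import Groth.Agent.Smooth28.Singular
import Mathlib.RingTheory.Flat.TorsionFree
import Mathlib.RingTheory.Etale.Kaehler
import Mathlib.RingTheory.DiscreteValuationRing.Basic

/-! Neron desingularization of extensions of discrete valuation rings. -/

set_option autoImplicit false
set_option linter.style.haveILetI false
universe u

open TensorProduct

namespace Groth.Agent.Smooth28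

/-- A finitely generated subdomain of a separable extension is smooth at the generic point. -/
theorem isSmoothAt_bot_of_geomReduced {R K L D : Type u} [CommRing R] [IsDomain R] [CommRing D] [IsDomain D]
    [Algebra R D] [FaithfulSMul R D] [Algebra.FiniteType R D] [Field K] [Field L] [Algebra R K] [IsFractionRing R K]
    [Algebra K L] [Algebra R L] [IsScalarTower R K L] [Algebra.IsGeometricallyReduced K L]
    (i : D →ₐ[R] L) (hi : Function.Injective i) : Algebra.IsSmoothAt R (⊥ : Ideal D) := by
  let L' := FractionRing D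
  have hR : Function.Injective (algebraMap R L') := by
    rw [IsScalarTower.algebraMap_eq R D L']
    exact (IsFractionRing.injective D L').comp (FaithfulSMul.algebraMap_injective R D)
  letI : Algebra K L' := (IsFractionRing.lift hR).toAlgebra
  haveI : IsScalarTower R K L' := IsScalarTower.of_algebraMap_eq fun r =>
    (IsFractionRing.lift_algebraMap (K := K) hR r).symm
  have hij : Function.Injective i.toRingHom := hi
  let j : L' →+* L := IsFractionRing.lift hij
  have hj : j.comp (algebraMap K L') = algebraMap K L := by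
    refine IsLocalization.ringHom_ext (nonZeroDivisors R) (RingHom.ext fun r => ?_)
    show j (algebraMap K L' (algebraMap R K r)) = algebraMap K L (algebraMap R K r)
    rw [← IsScalarTower.algebraMap_apply R K L', ← IsScalarTower.algebraMap_apply R K L,
      IsScalarTower.algebraMap_apply R D L', IsFractionRing.lift_algebraMap]
    exact i.commutes r
  haveI : Algebra.IsGeometricallyReduced K L' :=
    Algebra.IsGeometricallyReduced.of_injective { j with commutes' := fun x => congr($hj x) } j.injective
  exact (S2162.result (R := R) (S := D) (K := K) (L := L')).2 inferInstance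

/-- A separable field extension is a union of smooth algebras. -/
theorem indSmooth_field {k κ : Type u} [Field k] [Field κ] [Algebra k κ] [Algebra.IsGeometricallyReduced k κ] :
    Smoothing.IndSmooth k κ := by
  intro A _ _ hA f
  let D := f.range
  haveI : Algebra.FiniteType k D := Algebra.FiniteType.of_surjective f.rangeRestrict f.rangeRestrict_surjective
  haveI : Algebra.FinitePresentation k D := Algebra.FinitePresentation.of_finiteType.mp inferInstance
  haveI := isSmoothAt_bot_of_geomReduced (K := k) D.val Subtype.val_injective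
  obtain ⟨a, ha, hsm⟩ := Algebra.IsSmoothAt.exists_notMem_smooth k (⊥ : Ideal D)
  have hu : IsUnit (D.val a) := isUnit_iff_ne_zero.2 fun h => ha (by simpa using h)
  refine ⟨Localization.Away a, inferInstance, inferInstance, hsm,
    (IsScalarTower.toAlgHom k D (Localization.Away a)).comp f.rangeRestrict,
    IsLocalization.Away.liftAlgHom a hu, AlgHom.ext fun x => ?_⟩
  exact IsLocalization.Away.lift_eq a (g := D.val.toRingHom) hu _

theorem singularIdeal_eq_top (R D : Type u) [CommRing R] [CommRing D] [Algebra R D] [Algebra.Smooth R D] :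
    Smoothing.singularIdeal R D = ⊤ := by
  rw [Smoothing.singularIdeal, Algebra.smoothLocus_eq_univ, Set.compl_univ, PrimeSpectrum.vanishingIdeal_empty]

theorem singRad_eq_top {R D Λ : Type u} [CommRing R] [CommRing D] [Algebra R D] [Algebra.Smooth R D]
    [CommRing Λ] [Algebra R Λ] (h : D →ₐ[R] Λ) : Smoothing.singRad R h = ⊤ := by
  rw [Smoothing.singRad, singularIdeal_eq_top, Ideal.map_top, Ideal.radical_top]

/-- A point of the smooth locus with unit value gives a smooth factorization. -/
theorem exists_smooth_of_resolved {R B Λ : Type u} [CommRing R] [CommRing B] [Algebra R B]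
    [Algebra.FinitePresentation R B] [CommRing Λ] [IsLocalRing Λ] [Algebra R Λ] (h : B →ₐ[R] Λ)
    (hs : ¬ Smoothing.singRad R h ≤ IsLocalRing.maximalIdeal Λ) :
    ∃ (B' : Type u) (_ : CommRing B') (_ : Algebra R B'), Algebra.Smooth R B' ∧
      ∃ (g : B →ₐ[R] B') (h' : B' →ₐ[R] Λ), h'.comp g = h := by
  obtain ⟨s, hs, hsu⟩ : ∃ s ∈ Smoothing.singularIdeal R B, IsUnit (h s) := by
    by_contra hc
    push Not at hc
    refine hs (Ideal.IsRadical.radical_le_iff (IsLocalRing.maximalIdeal.isMaximal Λ).isPrime.isRadical |>.2 ?_)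
    exact Ideal.map_le_iff_le_comap.2 fun s hs => (IsLocalRing.mem_maximalIdeal _).2 (hc s hs)
  have hsub : (PrimeSpectrum.basicOpen s : Set (PrimeSpectrum B)) ⊆ Algebra.smoothLocus R B := by
    intro q hq
    by_contra hq'
    exact hq ((PrimeSpectrum.mem_vanishingIdeal _ _).1 hs q hq')
  exact ⟨Localization.Away s, inferInstance, inferInstance, Algebra.basicOpen_subset_smoothLocus_iff_smooth.1 hsub,
    IsScalarTower.toAlgHom R B _, IsLocalization.Away.liftAlgHom s hsu,
    AlgHom.ext fun x => IsLocalization.Away.lift_eq s (g := h.toRingHom) hsu x⟩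

theorem isElementaryStandard_mul {R A : Type u} [CommRing R] [CommRing A] [Algebra R A] {a : A}
    (ha : Smoothing.IsElementaryStandard R A a) (r : A) : Smoothing.IsElementaryStandard R A (a * r) := by
  obtain ⟨P, ⟨a', ha'⟩, hk⟩ := ha
  refine ⟨P, ⟨a' * r, by rw [ha']; ring⟩, fun t ht j hj => ?_⟩
  obtain ⟨t₀, ht₀⟩ := P.surj a
  obtain ⟨s, hs⟩ := P.surj r
  have h1 : t - t₀ * s ∈ Ideal.span (Set.range P.rel) := by
    rw [← P.ker_eq, RingHom.mem_ker]
    simp [ht, ht₀, hs]
  have h2 : (t - t₀ * s) * P.rel j ∈ Ideal.span (Set.range P.rel) ^ 2 := by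
    rw [pow_two]
    exact Ideal.mul_mem_mul h1 (Ideal.subset_span ⟨j, rfl⟩)
  have h3 := Ideal.add_mem _ (Ideal.mul_mem_left _ s (hk t₀ ht₀ j hj)) (Ideal.mem_sup_right h2)
  rwa [show s * (t₀ * P.rel j) + (t - t₀ * s) * P.rel j = t * P.rel j by ring] at h3

/-- Smoothness with stably free differentials passes to another localization away from the element. -/
theorem exists_standard_pow_of_equiv {R D C : Type u} [CommRing R] [CommRing D] [Algebra R D]
    [CommRing C] [Algebra R C] [Algebra.FinitePresentation R C] {b : D} {c : C}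
    (hb : Smoothing.IsStrictlyStandard R D b)
    (e : Localization.Away b ≃ₐ[R] Localization.Away c) :
    ∃ n₀ : ℕ, ∀ n, n₀ ≤ n → Smoothing.IsStrictlyStandard R C (c ^ n) := by
  obtain ⟨hsm, p, q, ⟨ε⟩⟩ := S2030.result b hb
  letI : Algebra (Localization.Away b) (Localization.Away c) := e.toAlgHom.toRingHom.toAlgebra
  haveI : IsScalarTower R (Localization.Away b) (Localization.Away c) :=
    IsScalarTower.of_algebraMap_eq fun r => (e.commutes r).symm
  haveI : Algebra.FormallyEtale (Localization.Away b) (Localization.Away c) :=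
    Algebra.FormallyEtale.of_equiv (AlgEquiv.ofBijective (Algebra.ofId (Localization.Away b) (Localization.Away c))
      e.bijective)
  haveI : Algebra.Smooth R (Localization.Away c) := Algebra.Smooth.of_equiv e
  let K := KaehlerDifferential.tensorKaehlerEquivOfFormallyEtale R (Localization.Away b) (Localization.Away c)
  let ε' := (TensorProduct.AlgebraTensorModule.congr (LinearEquiv.refl (Localization.Away c) (Localization.Away c)) ε)
  exact S2031.result c p q
    (((K.symm.prodCongr (TensorProduct.piScalarRight (Localization.Away b) (Localization.Away c)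
        (Localization.Away c) (Fin p)).symm).trans
      (TensorProduct.prodRight (Localization.Away b) (Localization.Away c) _ _ _).symm).trans
      (ε'.trans (TensorProduct.piScalarRight (Localization.Away b) (Localization.Away c)
        (Localization.Away c) (Fin q))))

theorem exists_quotient_algHom {R A Λ : Type u} [CommRing R] [CommRing A] [Algebra R A] [CommRing Λ] [Algebra R Λ]
    (φ : A →ₐ[R] Λ) (K : Ideal R) :
    ∃ φK : (A ⧸ K.map (algebraMap R A)) →ₐ[R ⧸ K] (Λ ⧸ K.map (algebraMap R Λ)),
      ∀ a : A, φK (Ideal.Quotient.mk _ a) = Ideal.Quotient.mk _ (φ a) := by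
  have hle : K.map (algebraMap R A) ≤ (K.map (algebraMap R Λ)).comap φ.toRingHom := by
    rw [← Ideal.map_le_iff_le_comap, Ideal.map_map]
    exact le_of_eq (congrArg (fun m => Ideal.map m K) φ.comp_algebraMap)
  refine ⟨{ Ideal.quotientMap (K.map (algebraMap R Λ)) φ.toRingHom hle with commutes' := fun x => ?_ }, fun a => rfl⟩
  obtain ⟨r, rfl⟩ := Ideal.Quotient.mk_surjective x
  exact congrArg (Ideal.Quotient.mk _) (φ.commutes r)

theorem indSmooth_quotient_pow {R Λ : Type u} [CommRing R] [CommRing Λ] [IsLocalRing R] [IsLocalRing Λ]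
    [Algebra R Λ] [IsLocalHom (algebraMap R Λ)] [Module.Flat R Λ] {π : R}
    (hπ : IsLocalRing.maximalIdeal R = Ideal.span {π})
    (he : (IsLocalRing.maximalIdeal R).map (algebraMap R Λ) = IsLocalRing.maximalIdeal Λ)
    [Algebra.IsGeometricallyReduced (IsLocalRing.ResidueField R) (IsLocalRing.ResidueField Λ)]
    (K : Ideal R) {n : ℕ} (hK : π ^ n ∈ K) (hKm : K ≤ IsLocalRing.maximalIdeal R) :
    Smoothing.IndSmooth (R ⧸ K) (Λ ⧸ K.map (algebraMap R Λ)) := by
  let R' := R ⧸ K
  let Λ' := Λ ⧸ K.map (algebraMap R Λ)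
  haveI : Module.Flat R' Λ' :=
    Module.Flat.of_linearEquiv (Algebra.TensorProduct.quotIdealMapEquivQuotTensor Λ K).toLinearEquiv
  have hI : IsNilpotent (Ideal.span {Ideal.Quotient.mk K π}) := by
    refine ⟨n, ?_⟩
    rw [Ideal.span_singleton_pow, ← map_pow, Ideal.Quotient.eq_zero_iff_mem.2 hK, Ideal.span_singleton_zero,
      Ideal.zero_eq_bot]
  refine S2022.result (Ideal.span {Ideal.Quotient.mk K π}) hI ?_
  let k := IsLocalRing.ResidueField R
  let κ := IsLocalRing.ResidueField Λ
  intro A _ _ hA f
  let I := Ideal.span {Ideal.Quotient.mk K π}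
  let J := I.map (algebraMap R' Λ')
  have hker₁ : ∀ x ∈ I, Ideal.Quotient.lift K (IsLocalRing.residue R) (fun r hr => (IsLocalRing.residue_eq_zero_iff r).2
      (hKm hr)) x = 0 := by
    intro x hx
    obtain ⟨y, rfl⟩ := Ideal.mem_span_singleton'.1 hx
    obtain ⟨y, rfl⟩ := Ideal.Quotient.mk_surjective y
    rw [← map_mul, Ideal.Quotient.lift_mk]
    exact (IsLocalRing.residue_eq_zero_iff _).2 (Ideal.mul_mem_left _ _ (hπ ▸ Ideal.mem_span_singleton_self π))
  let e₁ : (R' ⧸ I) →+* k := Ideal.Quotient.lift I _ hker₁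
  have he₁ : Function.Bijective e₁ := by
    refine ⟨(injective_iff_map_eq_zero _).2 fun x hx => ?_, fun y => ?_⟩
    · obtain ⟨x, rfl⟩ := Ideal.Quotient.mk_surjective x
      obtain ⟨x, rfl⟩ := Ideal.Quotient.mk_surjective x
      rw [Ideal.Quotient.lift_mk, Ideal.Quotient.lift_mk, IsLocalRing.residue_eq_zero_iff, hπ,
        Ideal.mem_span_singleton'] at hx
      obtain ⟨r, rfl⟩ := hx
      rw [Ideal.Quotient.eq_zero_iff_mem, map_mul]
      exact Ideal.mul_mem_left _ _ (Ideal.mem_span_singleton_self _)
    · obtain ⟨r, rfl⟩ := IsLocalRing.residue_surjective y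
      exact ⟨Ideal.Quotient.mk _ (Ideal.Quotient.mk _ r), rfl⟩
  have hJ : J = Ideal.span {Ideal.Quotient.mk (K.map (algebraMap R Λ)) (algebraMap R Λ π)} := by
    simp only [J, I, Ideal.map_span, Set.image_singleton]
    rfl
  have hKΛ : K.map (algebraMap R Λ) ≤ IsLocalRing.maximalIdeal Λ := (Ideal.map_mono hKm).trans he.le
  have hker₂ : ∀ x ∈ J, Ideal.Quotient.lift (K.map (algebraMap R Λ)) (IsLocalRing.residue Λ)
      (fun r hr => (IsLocalRing.residue_eq_zero_iff r).2 (hKΛ hr)) x = 0 := by
    intro x hx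
    rw [hJ] at hx
    obtain ⟨y, rfl⟩ := Ideal.mem_span_singleton'.1 hx
    obtain ⟨y, rfl⟩ := Ideal.Quotient.mk_surjective y
    rw [← map_mul, Ideal.Quotient.lift_mk]
    refine (IsLocalRing.residue_eq_zero_iff _).2 (Ideal.mul_mem_left _ _ (he.le ?_))
    exact Ideal.mem_map_of_mem _ (hπ ▸ Ideal.mem_span_singleton_self π)
  let e₂ : (Λ' ⧸ J) →+* κ := Ideal.Quotient.lift J _ hker₂
  have he₂ : Function.Bijective e₂ := by
    refine ⟨(injective_iff_map_eq_zero _).2 fun x hx => ?_, fun y => ?_⟩
    · obtain ⟨x, rfl⟩ := Ideal.Quotient.mk_surjective x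
      obtain ⟨x, rfl⟩ := Ideal.Quotient.mk_surjective x
      rw [Ideal.Quotient.lift_mk, Ideal.Quotient.lift_mk, IsLocalRing.residue_eq_zero_iff, ← he, hπ, Ideal.map_span,
        Set.image_singleton, Ideal.mem_span_singleton'] at hx
      obtain ⟨r, rfl⟩ := hx
      rw [Ideal.Quotient.eq_zero_iff_mem, map_mul, hJ]
      exact Ideal.mul_mem_left _ _ (Ideal.mem_span_singleton_self _)
    · obtain ⟨r, rfl⟩ := IsLocalRing.residue_surjective y
      exact ⟨Ideal.Quotient.mk _ (Ideal.Quotient.mk _ r), rfl⟩
  let E₁ := RingEquiv.ofBijective e₁ he₁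
  letI : Field (R' ⧸ I) := (E₁.toMulEquiv.isField (Field.toIsField k)).toField
  let E₂ := RingEquiv.ofBijective e₂ he₂
  letI : Field (Λ' ⧸ J) := (E₂.toMulEquiv.isField (Field.toIsField κ)).toField
  letI : Algebra k (R' ⧸ I) := E₁.symm.toRingHom.toAlgebra
  letI : Algebra (R' ⧸ I) κ := ((algebraMap k κ).comp e₁).toAlgebra
  haveI : IsScalarTower k (R' ⧸ I) κ := IsScalarTower.of_algebraMap_eq fun x =>
    (congrArg (algebraMap k κ) (E₁.apply_symm_apply x)).symm
  haveI : Algebra.FormallyEtale k (R' ⧸ I) := Algebra.FormallyEtale.of_equiv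
    (AlgEquiv.ofBijective (Algebra.ofId k (R' ⧸ I)) E₁.symm.bijective)
  haveI : Algebra.FormallySmooth k κ := Sep12.formallySmooth_iff_isGeometricallyReduced.2 inferInstance
  haveI : Algebra.FormallySmooth (R' ⧸ I) κ := Algebra.FormallySmooth.of_restrictScalars k (R' ⧸ I) κ
  have hcomm : ∀ x : R' ⧸ I, E₂ (algebraMap (R' ⧸ I) (Λ' ⧸ J) x) = algebraMap (R' ⧸ I) κ x := by
    intro x
    obtain ⟨x, rfl⟩ := Ideal.Quotient.mk_surjective x
    obtain ⟨x, rfl⟩ := Ideal.Quotient.mk_surjective x
    rfl
  haveI : Algebra.FormallySmooth (R' ⧸ I) (Λ' ⧸ J) :=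
    Algebra.FormallySmooth.of_equiv (AlgEquiv.ofRingEquiv (f := E₂.symm) fun x => by
      rw [← hcomm x, RingEquiv.symm_apply_apply])
  haveI : Algebra.IsGeometricallyReduced (R' ⧸ I) (Λ' ⧸ J) :=
    Sep12.formallySmooth_iff_isGeometricallyReduced.1 inferInstance
  exact indSmooth_field (k := R' ⧸ I) (κ := Λ' ⧸ J) A hA f

/-- Neron desingularization: an unramified extension of discrete valuation rings with separable
residue and fraction field extensions is ind-smooth. -/
theorem indSmooth_dvr {R Λ K L : Type u} [CommRing R] [IsDomain R]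
    [IsDiscreteValuationRing R] [CommRing Λ] [IsDomain Λ] [IsDiscreteValuationRing Λ] [Algebra R Λ]
    [Module.IsTorsionFree R Λ] (hinj : Function.Injective (algebraMap R Λ)) [IsLocalHom (algebraMap R Λ)]
    (he : (IsLocalRing.maximalIdeal R).map (algebraMap R Λ) = IsLocalRing.maximalIdeal Λ)
    [Algebra.IsGeometricallyReduced (IsLocalRing.ResidueField R) (IsLocalRing.ResidueField Λ)]
    [Field K] [Algebra R K] [IsFractionRing R K] [Field L] [Algebra Λ L] [IsFractionRing Λ L]
    [Algebra K L] [Algebra R L] [IsScalarTower R K L] [IsScalarTower R Λ L]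
    [Algebra.IsGeometricallyReduced K L] :
    Smoothing.IndSmooth R Λ := by
  intro A _ _ hA f
  obtain ⟨π, hπirr⟩ := IsDiscreteValuationRing.exists_irreducible R
  have hπ : IsLocalRing.maximalIdeal R = Ideal.span {π} := hπirr.maximalIdeal_eq
  have hπΛ : Irreducible (algebraMap R Λ π) := by
    rw [IsDiscreteValuationRing.irreducible_iff_uniformizer, ← he, hπ, Ideal.map_span, Set.image_singleton]
  let D := f.range
  haveI : Algebra.FiniteType R D := Algebra.FiniteType.of_surjective f.rangeRestrict f.rangeRestrict_surjective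
  haveI : Algebra.FinitePresentation R D := Algebra.FinitePresentation.of_finiteType.mp inferInstance
  haveI : FaithfulSMul R D := (faithfulSMul_iff_algebraMap_injective R D).2 fun x y h =>
    hinj (congrArg Subtype.val h)
  haveI := isSmoothAt_bot_of_geomReduced (K := K) ((IsScalarTower.toAlgHom R Λ L).comp D.val)
    ((IsFractionRing.injective Λ L).comp Subtype.val_injective)
  obtain ⟨a, ha, hstd⟩ := exists_elementaryStandard_notMem (R := R) (⊥ : Ideal D)
  let b : D := a * algebraMap R D π
  have hb : Smoothing.IsStrictlyStandard R D b :=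
    isStrictlyStandard_of_isElementaryStandard (isElementaryStandard_mul hstd _)
  have ha0 : (a : Λ) ≠ 0 := fun h => ha (Ideal.mem_bot.2 (Subtype.ext h))
  have hb0 : (b : Λ) ≠ 0 := mul_ne_zero ha0 hπΛ.ne_zero
  obtain ⟨m, w, hw⟩ := IsDiscreteValuationRing.eq_unit_mul_pow_irreducible hb0 hπΛ
  let v : Λ := (↑w⁻¹ : Λ)
  have hbv : (b : Λ) * v = algebraMap R Λ π ^ m := by
    rw [hw, mul_comm (w : Λ), mul_assoc, Units.mul_inv, mul_one]
  let C : Subalgebra R Λ := D ⊔ Algebra.adjoin R {v}
  haveI : Algebra.FiniteType R C := (Subalgebra.fg_iff_finiteType _).1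
    (((Subalgebra.fg_iff_finiteType _).2 ‹_›).sup (Subalgebra.fg_adjoin_finset {v} |> fun h => by simpa using h))
  haveI : Algebra.FinitePresentation R C := Algebra.FinitePresentation.of_finiteType.mp inferInstance
  let j : D →ₐ[R] C := Subalgebra.inclusion le_sup_left
  let c : C := algebraMap R C π
  have hc0 : c ≠ 0 := fun h => hπΛ.ne_zero (congrArg Subtype.val h)
  letI : Algebra D (Localization.Away c) := ((algebraMap C (Localization.Away c)).comp j.toRingHom).toAlgebra
  haveI : IsScalarTower R D (Localization.Away c) := IsScalarTower.of_algebraMap_eq fun r => by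
    show _ = algebraMap C (Localization.Away c) (j (algebraMap R D r))
    rw [j.commutes, ← IsScalarTower.algebraMap_apply]
  have hπu : IsUnit (algebraMap C (Localization.Away c) c) := IsLocalization.Away.algebraMap_isUnit c
  let v' : C := ⟨v, Algebra.mem_sup_right (Algebra.subset_adjoin rfl)⟩
  have hbv' : j b * v' = c ^ m := Subtype.ext hbv
  have hclear : ∀ x : Λ, x ∈ C → ∃ k : ℕ, x * (b : Λ) ^ k ∈ D := by
    intro x hx
    rw [show C = Algebra.adjoin R ((D : Set Λ) ∪ {v}) by
      rw [Algebra.adjoin_union, Algebra.adjoin_eq]] at hx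
    induction hx using Algebra.adjoin_induction with
    | mem y hy =>
      rcases hy with hy | rfl
      · exact ⟨0, by simpa using hy⟩
      · exact ⟨1, by rw [pow_one, mul_comm, hbv]; exact pow_mem (D.algebraMap_mem π) m⟩
    | algebraMap r => exact ⟨0, by simpa using D.algebraMap_mem r⟩
    | add y z _ _ hy hz =>
      obtain ⟨k, hk⟩ := hy; obtain ⟨l, hl⟩ := hz
      refine ⟨k + l, ?_⟩
      rw [show (y + z) * (b : Λ) ^ (k + l) = y * (b : Λ) ^ k * (b : Λ) ^ l + z * (b : Λ) ^ l * (b : Λ) ^ k by ring]
      exact add_mem (mul_mem hk (pow_mem b.2 l)) (mul_mem hl (pow_mem b.2 k))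
    | mul y z _ _ hy hz =>
      obtain ⟨k, hk⟩ := hy; obtain ⟨l, hl⟩ := hz
      refine ⟨k + l, ?_⟩
      rw [show y * z * (b : Λ) ^ (k + l) = (y * (b : Λ) ^ k) * (z * (b : Λ) ^ l) by ring]
      exact mul_mem hk hl
  haveI : IsLocalization.Away b (Localization.Away c) := by
    refine IsLocalization.Away.mk b ?_ (fun z => ?_) fun x y h => ⟨0, ?_⟩
    · exact isUnit_of_mul_isUnit_left (y := algebraMap C (Localization.Away c) v') (by
        show IsUnit (algebraMap C (Localization.Away c) (j b) * _)
        rw [← map_mul, hbv', map_pow]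
        exact hπu.pow m)
    · obtain ⟨n, x, hx⟩ := IsLocalization.Away.surj c z
      obtain ⟨k, hk⟩ := hclear x x.2
      refine ⟨n + k, ⟨_, hk⟩ * a ^ n, ?_⟩
      show z * algebraMap C (Localization.Away c) (j b) ^ (n + k) =
        algebraMap C (Localization.Away c) (j (⟨_, hk⟩ * a ^ n))
      have hjb : j b = j a * c := by rw [map_mul, AlgHom.commutes]
      have hjx : j ⟨_, hk⟩ = x * j b ^ k := Subtype.ext rfl
      simp only [b, map_mul, map_pow, AlgHom.commutes] at hjx ⊢
      simp only [hjx, map_mul, map_pow, ← hx, c, pow_add, mul_pow]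
      ring
    · have hle : Submonoid.powers c ≤ nonZeroDivisors C := by
        rintro _ ⟨n, rfl⟩
        exact mem_nonZeroDivisors_of_ne_zero (pow_ne_zero n hc0)
      rw [pow_zero, one_mul, one_mul]
      exact Subalgebra.inclusion_injective le_sup_left (IsLocalization.injective (Localization.Away c) hle h)
  obtain ⟨n₀, hn₀⟩ := exists_standard_pow_of_equiv (c := c) hb
    ((IsLocalization.algEquiv (Submonoid.powers b) (Localization.Away b) (Localization.Away c)).restrictScalars R)
  let e := n₀ + 1
  let P : Fin 1 → R := fun _ => π ^ e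
  let Kd : Ideal R := Ideal.span (Set.range fun i => P i ^ 8)
  have hKd : Kd ≤ IsLocalRing.maximalIdeal R := by
    rw [Ideal.span_le]
    rintro _ ⟨i, rfl⟩
    exact Ideal.pow_mem_of_mem _ (Ideal.pow_mem_of_mem _ (hπ ▸ Ideal.mem_span_singleton_self π) e (by omega)) 8 (by norm_num)
  obtain ⟨φK, hφK⟩ := exists_quotient_algHom C.val Kd
  haveI : Module.Flat R Λ := inferInstance
  have hres : Smoothing.Resolvable (R ⧸ Kd) φK
      ((IsLocalRing.maximalIdeal Λ).map (Ideal.Quotient.mk (Kd.map (algebraMap R Λ)))) := by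
    haveI : Algebra.FinitePresentation R (C ⧸ Kd.map (algebraMap R C)) :=
      Algebra.FinitePresentation.quotient (Ideal.FG.map (IsNoetherian.noetherian Kd) _)
    haveI : Algebra.FinitePresentation (R ⧸ Kd) (C ⧸ Kd.map (algebraMap R C)) :=
      Algebra.FinitePresentation.of_restrict_scalars_finitePresentation R _ _
    obtain ⟨B, _, _, hB, g, h, hgh⟩ := indSmooth_quotient_pow hπ he Kd (n := e * 8)
      (Ideal.subset_span ⟨0, (pow_mul π e 8).symm⟩) hKd _ inferInstance φK
    haveI := hB
    refine ⟨B, inferInstance, inferInstance, inferInstance, g, h, hgh, ?_, ?_⟩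
    · rw [singRad_eq_top h]; exact le_top
    · rw [singRad_eq_top h, top_le_iff]
      intro htop
      have h1 := Ideal.comap_map_of_surjective (Ideal.Quotient.mk (Kd.map (algebraMap R Λ)))
        Ideal.Quotient.mk_surjective (I := IsLocalRing.maximalIdeal Λ)
      rw [htop, Ideal.comap_top, ← RingHom.ker_eq_comap_bot, Ideal.mk_ker,
        sup_eq_left.mpr ((Ideal.map_mono hKd).trans he.le)] at h1
      exact (IsLocalRing.maximalIdeal.isMaximal Λ).ne_top h1.symm
  obtain ⟨B, _, _, hBfp, g, h, hgh, -, hs⟩ := S6822.result C.val (IsLocalRing.maximalIdeal Λ) one_pos P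
    (fun i => by
      rw [map_pow]
      exact Ideal.pow_mem_of_mem _ (he.le (Ideal.mem_map_of_mem _ (hπ ▸ Ideal.mem_span_singleton_self π))) e (by omega))
    (fun i x hx => by
      obtain ⟨x, rfl⟩ := Ideal.Quotient.mk_surjective x
      haveI : IsEmpty {j : Fin 1 // (j : ℕ) < (i : ℕ)} := ⟨fun j => absurd j.2 (by omega)⟩
      simp only [← map_pow, ← map_mul, Ideal.Quotient.eq_zero_iff_mem, Set.range_eq_empty, Ideal.span_empty,
        Ideal.mem_bot, mul_eq_zero, pow_eq_zero_iff (two_ne_zero)] at hx ⊢
      exact hx)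
    (fun i x hx => by
      obtain ⟨x, rfl⟩ := Ideal.Quotient.mk_surjective x
      haveI : IsEmpty {j : Fin 1 // (j : ℕ) < (i : ℕ)} := ⟨fun j => absurd j.2 (by omega)⟩
      simp only [← map_pow, ← map_mul, Ideal.Quotient.eq_zero_iff_mem, Set.range_eq_empty, Ideal.span_empty,
        Ideal.mem_bot, mul_eq_zero] at hx ⊢
      exact hx.imp_left fun h => (pow_eq_zero_iff two_ne_zero).1 ((map_pow _ _ _).symm.trans h))
    (fun i => by
      rw [map_pow]
      exact hn₀ e (by omega))
    Kd rfl φK hφK hres
  obtain ⟨B', _, _, hB', g', h', hh'⟩ := exists_smooth_of_resolved h hs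
  refine ⟨B', inferInstance, inferInstance, hB', (g'.comp g).comp (j.comp f.rangeRestrict), h', ?_⟩
  ext x
  show h' (g' (g (j (f.rangeRestrict x)))) = f x
  rw [← AlgHom.comp_apply h', hh', ← AlgHom.comp_apply h, hgh]
  rfl

end Groth.Agent.Smooth28
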