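import Groth.Agent.Smooth28.Split
import Mathlib.RingTheory.Etale.Kaehler
import Mathlib.Algebra.Module.LocalizedModule.Basic
import Mathlib.LinearAlgebra.Quotient.Basic

/-!
Differentials of a localization of a presented algebra as the cokernel of the Jacobian.
-/

namespace Groth.Agent.Smooth28

open MvPolynomial KaehlerDifferential

universe u v w t

variable {R : Type u} [CommRing R] {ι : Type v} [Fintype ι] {A : Type w} [CommRing A] [Algebra R A]
variable {κ : Type*} (S : Type t) [CommRing S] [Algebra R S] [Algebra A S] [IsScalarTower R A S]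

/-- The differential of `x`, in coordinates over `S`. -/
noncomputable def jacRow (φ : MvPolynomial ι R →ₐ[R] A) (x : MvPolynomial ι R) : ι → S :=
  fun i => algebraMap A S (φ (pderiv i x))

/-- The map sending the `i`-th basis vector to `d Xᵢ`. -/
noncomputable def toOmega (φ : MvPolynomial ι R →ₐ[R] A) : (ι → S) →ₗ[S] Ω[S⁄R] :=
  Fintype.linearCombination S fun i => D R S (algebraMap A S (φ (X i)))

variable (φ : MvPolynomial ι R →ₐ[R] A)

omit [IsScalarTower R A S] [Algebra R S] [Fintype ι] in
theorem jacRow_add (x y : MvPolynomial ι R) : jacRow S φ (x + y) = jacRow S φ x + jacRow S φ y := by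
  ext i; simp [jacRow]

omit [IsScalarTower R A S] [Algebra R S] [Fintype ι] in
theorem jacRow_sub (x y : MvPolynomial ι R) : jacRow S φ (x - y) = jacRow S φ x - jacRow S φ y := by
  ext i; simp [jacRow]

omit [IsScalarTower R A S] [Algebra R S] [Fintype ι] in
theorem jacRow_sum {α : Type*} (s : Finset α) (g : α → MvPolynomial ι R) :
    jacRow S φ (∑ j ∈ s, g j) = ∑ j ∈ s, jacRow S φ (g j) := by
  ext i; simp [jacRow]

omit [IsScalarTower R A S] [Algebra R S] [Fintype ι] in
theorem jacRow_mul {p x : MvPolynomial ι R} (hx : φ x = 0) :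
    jacRow S φ (p * x) = algebraMap A S (φ p) • jacRow S φ x := by
  ext i; simp [jacRow, pderiv_mul, hx]

omit [IsScalarTower R A S] [Algebra R S] [Fintype ι] in
theorem jacRow_eq_zero_of_sq {x : MvPolynomial ι R} (hx : x ∈ RingHom.ker φ.toRingHom ^ 2) :
    jacRow S φ x = 0 := by
  ext i
  have : φ (pderiv i x) = 0 := pderiv_mem_of_mem_sq hx i
  simp [jacRow, this]

theorem toOmega_jacRow (x : MvPolynomial ι R) :
    toOmega S φ (jacRow S φ x) = D R S (algebraMap A S (φ x)) := by
  let g : MvPolynomial ι R →ₐ[R] S := (IsScalarTower.toAlgHom R A S).comp φ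
  have hg : aeval (fun i => g (X i)) = g := (MvPolynomial.aeval_unique g).symm
  rw [toOmega, Fintype.linearCombination_apply, show algebraMap A S (φ x) = g x from rfl, ← hg,
    derivation_aeval, hg]
  rfl

variable {φ} in
theorem toOmega_surjective (hφ : Function.Surjective φ) (M : Submonoid A) [IsLocalization M S] :
    Function.Surjective (toOmega S φ) := by
  rw [← LinearMap.range_eq_top, eq_top_iff, ← span_range_map_derivation_of_isLocalization R A S M,
    Submodule.span_le]
  rintro _ ⟨c, rfl⟩
  obtain ⟨p, rfl⟩ := hφ c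
  exact ⟨jacRow S φ p, by rw [toOmega_jacRow]; simp⟩

variable {φ} in
theorem ker_toOmega (hφ : Function.Surjective φ) (M : Submonoid A) [IsLocalization M S]
    (f : κ → MvPolynomial ι R) (hker : RingHom.ker φ.toRingHom = Ideal.span (Set.range f)) :
    LinearMap.ker (toOmega S φ) = Submodule.span S (Set.range fun j => jacRow S φ (f j)) := by
  classical
  set K := Submodule.span S (Set.range fun j => jacRow S φ (f j)) with hK
  have hf : ∀ j, φ (f j) = 0 := fun j =>
    show f j ∈ RingHom.ker φ.toRingHom from hker ▸ Ideal.subset_span ⟨j, rfl⟩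
  refine le_antisymm ?_ (Submodule.span_le.2 ?_)
  swap
  · rintro _ ⟨j, rfl⟩
    show toOmega S φ (jacRow S φ (f j)) = 0
    rw [toOmega_jacRow, hf j, map_zero, map_zero]
  have hdiff : ∀ x, φ x = 0 → jacRow S φ x ∈ K := by
    intro x hx
    have hx' : x ∈ Ideal.span (Set.range f) := hker ▸ (show x ∈ RingHom.ker φ.toRingHom from hx)
    clear hx
    induction hx' using Submodule.span_induction with
    | mem y hy => obtain ⟨j, rfl⟩ := hy; exact Submodule.subset_span ⟨j, rfl⟩
    | zero => convert K.zero_mem; ext i; simp [jacRow]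
    | add y z _ _ hy hz => rw [jacRow_add]; exact K.add_mem hy hz
    | smul r y hy' hy =>
      rw [smul_eq_mul, jacRow_mul S φ (show φ y = 0 from
        show y ∈ RingHom.ker φ.toRingHom from hker.symm ▸ hy')]
      exact K.smul_mem _ hy
  choose s hs using hφ
  have hind : ∀ x y, φ x = φ y → K.mkQ (jacRow S φ x) = K.mkQ (jacRow S φ y) := fun x y hxy => by
    rw [← sub_eq_zero, ← map_sub, ← jacRow_sub, Submodule.mkQ_apply, Submodule.Quotient.mk_eq_zero]
    exact hdiff _ (by rw [map_sub, hxy, sub_self])
  let L : A →ₗ[R] (ι → S) ⧸ K :=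
    { toFun := fun c => K.mkQ (jacRow S φ (s c))
      map_add' := fun c c' => by
        rw [hind (s (c + c')) (s c + s c') (by simp [hs]), jacRow_add, map_add]
      map_smul' := fun r c => by
        rw [hind (s (r • c)) (r • s c) (by simp [hs]), RingHom.id_apply]
        have : jacRow S φ (r • s c) = r • jacRow S φ (s c) := by
          ext i
          show algebraMap A S (φ (pderiv i (r • s c))) = r • algebraMap A S (φ (pderiv i (s c)))
          rw [Derivation.map_smul, map_smul, ← IsScalarTower.toAlgHom_apply R, map_smul,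
            IsScalarTower.toAlgHom_apply]
        rw [this, LinearMap.map_smul_of_tower] }
  let δ : Derivation R A ((ι → S) ⧸ K) := Derivation.mk' L fun c c' => by
    show K.mkQ (jacRow S φ (s (c * c'))) = c • K.mkQ (jacRow S φ (s c')) + c' • K.mkQ (jacRow S φ (s c))
    rw [← algebraMap_smul S c, ← algebraMap_smul S c']
    rw [hind (s (c * c')) (s c * s c') (by simp [hs]), ← map_smul, ← map_smul, ← map_add]
    congr 1
    ext i
    simp [jacRow, hs, Algebra.smul_def]
  have hu : ∀ x : M, IsUnit (algebraMap A (Module.End A ((ι → S) ⧸ K)) x) := by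
    intro x
    rw [Module.End.isUnit_iff]
    have h : Function.Bijective fun m : (ι → S) ⧸ K => algebraMap A S x • m :=
      (IsLocalization.map_units S x).smul_bijective
    simpa [Function.Bijective, Function.Injective, Function.Surjective, Module.algebraMap_end_apply,
      algebraMap_smul] using h
  let G : Ω[S⁄R] →ₗ[A] (ι → S) ⧸ K :=
    IsLocalizedModule.lift M (KaehlerDifferential.map R R A S) δ.liftKaehlerDifferential hu
  let G' : Ω[S⁄R] →ₗ[S] (ι → S) ⧸ K := LinearMap.extendScalarsOfIsLocalization M S G
  have hG : ∀ i, G' (D R S (algebraMap A S (φ (X i)))) = K.mkQ (Pi.single i 1) := by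
    intro i
    have h := IsLocalizedModule.lift_apply M (KaehlerDifferential.map R R A S)
      δ.liftKaehlerDifferential hu (D R A (φ (X i)))
    rw [KaehlerDifferential.map_D, Derivation.liftKaehlerDifferential_comp_D] at h
    rw [show G' (D R S (algebraMap A S (φ (X i)))) = δ (φ (X i)) from h]
    show K.mkQ (jacRow S φ (s (φ (X i)))) = _
    rw [hind (s (φ (X i))) (X i) (hs _)]
    congr 1
    ext j
    simp only [jacRow, pderiv_X, Pi.single_apply]
    by_cases hij : i = j <;> simp [hij, eq_comm]
  intro v hv
  rw [← Submodule.Quotient.mk_eq_zero, ← Submodule.mkQ_apply]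
  have h0 := congrArg G' (show toOmega S φ v = 0 from hv)
  rw [map_zero, toOmega, Fintype.linearCombination_apply, map_sum] at h0
  simp only [map_smul, hG] at h0
  rw [← h0]
  conv_lhs => rw [pi_eq_sum_univ' v]
  simp

variable {φ} in
/-- The projection on the kernel of `toOmega` given by a splitting. -/
theorem exists_projection (hφ : Function.Surjective φ) (a : A) [IsLocalization.Away a S]
    (f : κ → MvPolynomial ι R) (hker : RingHom.ker φ.toRingHom = Ideal.span (Set.range f))
    (u : MvPolynomial ι R) (k : ℕ) (hu : φ u = a ^ k) (h : HasSplit φ u) :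
    ∃ ρ : (ι → S) →ₗ[S] (ι → S),
      (∀ v, ρ v ∈ LinearMap.ker (toOmega S φ)) ∧ ∀ v ∈ LinearMap.ker (toOmega S φ), ρ v = v := by
  obtain ⟨h, hh, H⟩ := h
  obtain ⟨w, hw⟩ := ((IsLocalization.Away.algebraMap_isUnit a (S := S)).pow k).exists_left_inv
  let ρ : (ι → S) →ₗ[S] (ι → S) := Fintype.linearCombination S fun i => w • jacRow S φ (h i)
  refine ⟨ρ, fun v => ?_, fun v hv => ?_⟩
  · simp only [ρ, Fintype.linearCombination_apply]
    refine Submodule.sum_mem _ fun i _ => Submodule.smul_mem _ _ (Submodule.smul_mem _ _ ?_)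
    show toOmega S φ (jacRow S φ (h i)) = 0
    rw [toOmega_jacRow, hh i, map_zero, map_zero]
  · rw [ker_toOmega S hφ (Submonoid.powers a) f hker] at hv
    induction hv using Submodule.span_induction with
    | zero => simp
    | add y z _ _ hy hz => rw [map_add, hy, hz]
    | smul r y _ hy => rw [map_smul, hy]
    | mem y hy =>
      obtain ⟨j, rfl⟩ := hy
      have hfj : φ (f j) = 0 :=
        show f j ∈ RingHom.ker φ.toRingHom from hker ▸ Ideal.subset_span ⟨j, rfl⟩
      have h0 := jacRow_eq_zero_of_sq S φ (H _ hfj)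
      rw [jacRow_sub, jacRow_mul S φ hfj, jacRow_sum, sub_eq_zero, hu, map_pow] at h0
      simp only [jacRow_mul S φ (hh _)] at h0
      calc ρ (jacRow S φ (f j)) = w • ∑ i, jacRow S φ (f j) i • jacRow S φ (h i) := by
            simp only [ρ, Fintype.linearCombination_apply, Finset.smul_sum, smul_comm w]
        _ = w • (algebraMap A S a ^ k • jacRow S φ (f j)) := by rw [h0]; rfl
        _ = jacRow S φ (f j) := by rw [smul_smul, hw, one_smul]

end Groth.Agent.Smooth28
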