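import Groth.Agent.Desc59.SmoothRing
import Groth.Agent.Smooth28.Omega
import Groth.Agent.Smooth28.AtSmooth
import Groth.Agent.Smooth28.Elem
import Groth.Agent.Smooth28.LiftingDefs
import Mathlib.RingTheory.Nakayama
import Mathlib.RingTheory.DiscreteValuationRing.Basic
import Mathlib.RingTheory.Localization.FractionRing

/-!
Smoothness at the special point when the differentials stay free.
-/

namespace Groth.Agent.Smooth28

open MvPolynomial TensorProduct

universe u

/-- A maximal set of independent rows with a nonvanishing minor. -/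
theorem exists_rows_cols {K : Type u} [Field K] {m n : ℕ} (row : Fin m → Fin n → K) :
    ∃ (c : ℕ) (rows : Fin c ↪ Fin m) (cols : Fin c ↪ Fin n),
      (Matrix.of fun r s : Fin c => row (rows r) (cols s)).det ≠ 0 ∧
      ∀ l, row l ∈ Submodule.span K (Set.range fun r => row (rows r)) := by
  classical
  obtain ⟨ι, emb, hemb, hspan, hli⟩ := exists_linearIndependent' K row
  haveI : Finite ι := Finite.of_injective emb hemb
  let e := (Finite.equivFin ι).symm
  let rows : Fin (Nat.card ι) ↪ Fin m := ⟨fun r => emb (e r), hemb.comp e.injective⟩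
  have hli' : LinearIndependent K (fun r => row (rows r)) := hli.comp e e.injective
  let M : Matrix (Fin (Nat.card ι)) (Fin n) K := Matrix.of fun r i => row (rows r) i
  obtain ⟨G, hG⟩ := (Fintype.linearCombination K fun r => row (rows r)).exists_leftInverse_of_injective
    (LinearMap.ker_eq_bot.2 (linearIndependent_iff_injective_fintypeLinearCombination.1 hli'))
  let N : Matrix (Fin n) (Fin (Nat.card ι)) K := Matrix.of fun i r => G (Pi.single i 1) r
  have hMN : M * N = 1 := by
    ext r r'
    have h1 : G (row (rows r)) = Pi.single r (1 : K) := by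
      have := LinearMap.congr_fun hG (Pi.single r (1 : K))
      simpa [Fintype.linearCombination_apply_single] using this
    rw [pi_eq_sum_univ' (row (rows r)), map_sum] at h1
    have h2 := congrFun h1 r'
    simp only [Finset.sum_apply, map_smul, Pi.smul_apply, smul_eq_mul] at h2
    simp only [Matrix.mul_apply, M, N, Matrix.of_apply]
    rw [h2, Matrix.one_apply, Pi.single_apply]
    simp [eq_comm]
  obtain ⟨cols, hcols⟩ : ∃ cols, (M.submatrix id cols).det ≠ 0 := by
    by_contra hc
    simp only [not_exists, not_not] at hc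
    have := det_mul_mem_span_minors M N
    rw [hMN, Matrix.det_one] at this
    have hbot : Ideal.span (Set.range fun cols => (M.submatrix id cols).det) = ⊥ := by
      rw [Ideal.span_eq_bot]; rintro _ ⟨c, rfl⟩; exact hc c
    rw [hbot] at this
    exact one_ne_zero this
  have hinj : Function.Injective cols := by
    intro i j hij
    by_contra hne
    exact hcols (Matrix.det_zero_of_column_eq hne fun r => by simp [hij])
  refine ⟨Nat.card ι, rows, ⟨cols, hinj⟩, hcols, fun l => ?_⟩
  rw [show (fun r => row (rows r)) = (row ∘ emb) ∘ e from rfl, EquivLike.range_comp (row ∘ emb) e,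
    hspan]
  exact Submodule.subset_span ⟨l, rfl⟩

/-- The Jacobian rows cut out a saturated submodule when the differentials have no torsion. -/
theorem mem_span_jac_of_smul {R A Λ : Type u} [CommRing R] [CommRing A] [Algebra R A]
    [CommRing Λ] [IsDomain Λ] [Algebra A Λ] {n m : ℕ} (f : Fin m → MvPolynomial (Fin n) R)
    (φ : MvPolynomial (Fin n) R →ₐ[R] A) (hφ : Function.Surjective φ)
    (hker : RingHom.ker φ.toRingHom = Ideal.span (Set.range f))
    [Module.Free Λ (Λ ⊗[A] Ω[A⁄R])] {t : Λ} (ht : t ≠ 0) {w : Fin n → Λ}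
    (hw : t • w ∈ Submodule.span Λ
      (Set.range fun j (i : Fin n) => algebraMap A Λ (φ (pderiv i (f j))))) :
    w ∈ Submodule.span Λ (Set.range fun j (i : Fin n) => algebraMap A Λ (φ (pderiv i (f j)))) := by
  classical
  set N := Submodule.span Λ (Set.range fun j (i : Fin n) => algebraMap A Λ (φ (pderiv i (f j))))
  haveI : IsLocalization (⊥ : Submonoid A) A :=
    IsLocalization.of_le_isUnit (fun x hx => by rw [Submonoid.mem_bot.1 hx]; exact isUnit_one)
  let T := toOmega A φ
  have hT : Function.Surjective T := toOmega_surjective A hφ ⊥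
  let toΛ : (Fin n → A) →ₗ[A] (Fin n → Λ) := (Algebra.linearMap A Λ).compLeft (Fin n)
  let u : (Fin n → A) →ₗ[A] (Fin n → Λ) ⧸ N := (N.mkQ.restrictScalars A).comp toΛ
  have hu : LinearMap.ker T ≤ LinearMap.ker u := by
    rw [ker_toOmega A hφ ⊥ f hker, Submodule.span_le]
    rintro _ ⟨j, rfl⟩
    show N.mkQ (toΛ (jacRow A φ (f j))) = 0
    rw [Submodule.mkQ_apply, Submodule.Quotient.mk_eq_zero]
    exact Submodule.subset_span ⟨j, rfl⟩
  let G : Ω[A⁄R] →ₗ[A] (Fin n → Λ) ⧸ N :=
    ((LinearMap.ker T).liftQ u hu).comp (T.quotKerEquivOfSurjective hT).symm.toLinearMap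
  let Ψ : (Fin n → Λ) →ₗ[Λ] Λ ⊗[A] Ω[A⁄R] :=
    Fintype.linearCombination Λ fun i => (1 : Λ) ⊗ₜ[A] T (Pi.single i 1)
  let G' : Λ ⊗[A] Ω[A⁄R] →ₗ[Λ] (Fin n → Λ) ⧸ N := LinearMap.liftBaseChange Λ G
  have hGT : ∀ v, G (T v) = N.mkQ (toΛ v) := fun v => by
    show ((LinearMap.ker T).liftQ u hu) ((T.quotKerEquivOfSurjective hT).symm (T v)) = _
    rw [show (T.quotKerEquivOfSurjective hT).symm (T v) = Submodule.Quotient.mk v from
      (LinearEquiv.symm_apply_eq _).2 rfl, Submodule.liftQ_apply]
    rfl
  have hGΨ : ∀ v, G' (Ψ v) = N.mkQ v := fun v => by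
    simp only [Ψ, Fintype.linearCombination_apply, map_sum, map_smul, G',
      LinearMap.liftBaseChange_tmul, one_smul, hGT]
    conv_rhs => rw [pi_eq_sum_univ' v, map_sum]
    refine Finset.sum_congr rfl fun i _ => ?_
    rw [map_smul]
    congr 2
    funext j
    simp [toΛ, Pi.single_apply, apply_ite (algebraMap A Λ)]
  have hΨN : ∀ v ∈ N, Ψ v = 0 := by
    intro v hv
    refine (Submodule.span_le.2 ?_ : N ≤ LinearMap.ker Ψ) hv
    rintro _ ⟨j, rfl⟩
    show Ψ (fun i => algebraMap A Λ (φ (pderiv i (f j)))) = 0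
    have h1 : ∀ i, algebraMap A Λ (φ (pderiv i (f j))) • ((1 : Λ) ⊗ₜ[A] T (Pi.single i 1)) =
        (1 : Λ) ⊗ₜ[A] T ((φ (pderiv i (f j))) • Pi.single i 1) := fun i => by
      rw [algebraMap_smul, ← TensorProduct.tmul_smul, map_smul]
    simp only [Ψ, Fintype.linearCombination_apply, h1, ← TensorProduct.tmul_sum, ← map_sum]
    rw [show (∑ x, φ (pderiv x (f j)) • (Pi.single x 1 : Fin n → A)) = jacRow A φ (f j) from
        (pi_eq_sum_univ' (jacRow A φ (f j))).symm,
      toOmega_jacRow, show φ (f j) = 0 from show f j ∈ RingHom.ker φ.toRingHom from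
        hker ▸ Ideal.subset_span ⟨j, rfl⟩, map_zero, map_zero, TensorProduct.tmul_zero]
  have h0 : t • Ψ w = 0 := by rw [← map_smul]; exact hΨN _ hw
  have h1 : Ψ w = 0 := (smul_eq_zero.1 h0).resolve_left ht
  have h2 := hGΨ w
  rw [h1, map_zero] at h2
  exact (Submodule.Quotient.mk_eq_zero N).1 h2.symm

theorem isDomain_atPrime_of_smooth_over_dvr {R T : Type u} [CommRing R] [IsDomain R]
    [IsDiscreteValuationRing R] [CommRing T] [Algebra R T] [Algebra.Smooth R T] (P : Ideal T)
    [P.IsPrime] : IsDomain (Localization.AtPrime P) :=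
  ((Desc59.SmoothRing.normal_iff R T P).2
    ⟨IsLocalization.isDomain_localization (Ideal.primeCompl_le_nonZeroDivisors _),
      isIntegrallyClosed_of_isLocalization _ (P.under R).primeCompl (Ideal.primeCompl_le_nonZeroDivisors _)⟩).1

theorem sum_sum_mul {S : Type*} [CommRing S] {α β : Type*} [Fintype α] [Fintype β] (u : α → S)
    (w : α → β → S) (v : β → S) :
    ∑ x, (∑ j, u j * w j x) * v x = ∑ j, u j * ∑ x, w j x * v x := by
  simp only [Finset.sum_mul, Finset.mul_sum, mul_assoc]
  rw [Finset.sum_comm]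

theorem isSmoothAt_special_of_free_kaehler {R Λ A : Type u} [CommRing R] [IsDomain R]
    [IsDiscreteValuationRing R] [CommRing Λ] [IsDomain Λ] [IsDiscreteValuationRing Λ]
    [CommRing A] [Algebra R A] [Algebra.FiniteType R A] [Algebra A Λ]
    [(RingHom.ker (algebraMap A Λ)).IsPrime]
    (hq : Algebra.IsSmoothAt R (RingHom.ker (algebraMap A Λ)))
    [Module.Free Λ (Λ ⊗[A] Ω[A⁄R])] :
    Algebra.IsSmoothAt R ((IsLocalRing.maximalIdeal Λ).comap (algebraMap A Λ)) := by
  classical
  haveI := hq
  haveI : Algebra.FinitePresentation R A := Algebra.FinitePresentation.of_finiteType.1 ‹_›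
  obtain ⟨n, φ, hφ, hfg⟩ := (inferInstance : Algebra.FinitePresentation R A).out
  obtain ⟨m, f, hf⟩ := Submodule.fg_iff_exists_fin_generating_family.1 hfg
  have hker : RingHom.ker φ.toRingHom = Ideal.span (Set.range f) := hf.symm
  have hf0 : ∀ j, φ (f j) = 0 := fun j =>
    show f j ∈ RingHom.ker φ.toRingHom from hker ▸ Ideal.subset_span ⟨j, rfl⟩
  let ev : MvPolynomial (Fin n) R →+* Λ := (algebraMap A Λ).comp φ.toRingHom
  let kk := IsLocalRing.ResidueField Λ
  let res : Λ →+* kk := IsLocalRing.residue Λ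
  let jac : Fin m → Fin n → Λ := fun j i => ev (pderiv i (f j))
  obtain ⟨c, rows, cols, hdet, hspan⟩ := exists_rows_cols fun j i => res (jac j i)
  let Mc : Matrix (Fin c) (Fin c) Λ := Matrix.of fun r s => jac (rows r) (cols s)
  have hMc : IsUnit Mc.det := by
    by_contra h
    apply hdet
    rw [show (Matrix.of fun r s : Fin c => res (jac (rows r) (cols s))) = res.mapMatrix Mc from rfl,
      ← RingHom.map_det]
    exact (IsLocalRing.residue_eq_zero_iff _).2 ((IsLocalRing.mem_maximalIdeal _).2 h)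
  -- all rows are combinations of the chosen ones
  let N : Submodule Λ (Fin n → Λ) := Submodule.span Λ (Set.range jac)
  let N' : Submodule Λ (Fin n → Λ) := Submodule.span Λ (Set.range fun r => jac (rows r))
  obtain ⟨ϖ, hϖ⟩ := IsDiscreteValuationRing.exists_irreducible Λ
  have hmax : IsLocalRing.maximalIdeal Λ = Ideal.span {ϖ} := hϖ.maximalIdeal_eq
  have hNN : N ≤ N' := by
    refine Submodule.le_of_le_smul_of_le_jacobson_bot (I := IsLocalRing.maximalIdeal Λ)
      (Submodule.fg_span (Set.finite_range _)) (IsLocalRing.maximalIdeal_le_jacobson _) ?_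
    refine Submodule.span_le.2 ?_
    rintro _ ⟨l, rfl⟩
    obtain ⟨β, hβ⟩ := (Submodule.mem_span_range_iff_exists_fun _).1 (hspan l)
    choose β' hβ' using fun r => IsLocalRing.residue_surjective (β r)
    let v := jac l - ∑ r, β' r • jac (rows r)
    have hv : ∀ i, ∃ w, ϖ * w = v i := fun i => by
      have h1 : v i ∈ IsLocalRing.maximalIdeal Λ := by
        rw [← IsLocalRing.residue_eq_zero_iff]
        have h2 := congrFun hβ i
        simp only [Finset.sum_apply, Pi.smul_apply, smul_eq_mul] at h2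
        show res (v i) = 0
        simp only [v, Pi.sub_apply, Finset.sum_apply, Pi.smul_apply, smul_eq_mul, map_sub, map_sum,
          map_mul, res, hβ']
        rw [sub_eq_zero]
        exact h2.symm
      rw [hmax] at h1
      obtain ⟨w, hw⟩ := Ideal.mem_span_singleton'.1 h1
      exact ⟨w, by rw [mul_comm]; exact hw⟩
    choose w hw using hv
    have hvw : ϖ • w = v := funext hw
    have hwN : w ∈ N := mem_span_jac_of_smul f φ hφ hker hϖ.ne_zero (by
      rw [hvw]
      exact sub_mem (Submodule.subset_span ⟨l, rfl⟩)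
        (Submodule.sum_mem _ fun r _ => N.smul_mem _ (Submodule.subset_span ⟨rows r, rfl⟩)))
    rw [SetLike.mem_coe, show jac l = (∑ r, β' r • jac (rows r)) + ϖ • w by rw [hvw]; simp [v]]
    exact Submodule.add_mem_sup (Submodule.sum_mem _ fun r _ => N'.smul_mem _ (Submodule.subset_span ⟨r, rfl⟩))
      (Submodule.smul_mem_smul (hmax ▸ Ideal.mem_span_singleton_self ϖ) hwN)
  -- comparison with the generic point
  obtain ⟨g', c', rows', cols', hnot, hg'⟩ := exists_standard_data f φ hφ hker (RingHom.ker (algebraMap A Λ))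
  choose a ha using fun r => (Submodule.mem_span_range_iff_exists_fun _).1 (hg' _ (hf0 (rows r)))
  choose b hb using fun r =>
    (Submodule.mem_span_range_iff_exists_fun _).1 (hNN (Submodule.subset_span ⟨rows' r, rfl⟩))
  let γ := ev g'
  have hγd : γ ≠ 0 ∧ ev (Smoothing.jacobianMinor f rows' cols') ≠ 0 := by
    constructor <;> intro h <;> refine hnot ?_ <;> rw [RingHom.mem_ker, map_mul] <;>
      simp only [γ, ev, RingHom.comp_apply, AlgHom.toRingHom_eq_coe, RingHom.coe_coe] at h <;>
      rw [h] <;> simp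
  obtain ⟨hγ, hd'⟩ := hγd
  have hev0 : ∀ j, ev (f j) = 0 := fun j => by
    show algebraMap A Λ (φ (f j)) = 0
    rw [hf0, map_zero]
  let aΛ : Matrix (Fin c) (Fin c') Λ := Matrix.of fun r r' => ev (a r r')
  let bΛ : Matrix (Fin c') (Fin c) Λ := Matrix.of fun r' r => b r' r
  have hJ : ∀ r i, γ * jac (rows r) i = ∑ r', aΛ r r' * jac (rows' r') i := fun r i => by
    have h1 := congrArg (fun p => ev (pderiv i p)) (ha r)
    simp only [smul_eq_mul, Function.comp_apply, map_sum, pderiv_mul, map_add, map_mul, hev0,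
      mul_zero, zero_add] at h1
    exact h1.symm
  have hJ' : ∀ r' i, jac (rows' r') i = ∑ r, bΛ r' r * jac (rows r) i := fun r' i => by
    have h1 := congrFun (hb r') i
    simp only [Finset.sum_apply, Pi.smul_apply, smul_eq_mul] at h1
    exact h1.symm
  have hab : aΛ * bΛ = γ • (1 : Matrix (Fin c) (Fin c) Λ) := by
    have h1 : aΛ * bΛ * Mc = γ • Mc := by
      ext r s
      simp only [Matrix.mul_apply, Matrix.smul_apply, smul_eq_mul, Mc, Matrix.of_apply]
      rw [sum_sum_mul, hJ]
      exact Finset.sum_congr rfl fun j _ => by rw [hJ' j]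
    have h2 := congrArg (· * Mc⁻¹) h1
    simpa [Matrix.mul_assoc, Matrix.mul_nonsing_inv _ hMc, Matrix.smul_mul] using h2
  have hba : bΛ * aΛ = γ • (1 : Matrix (Fin c') (Fin c') Λ) := by
    let M' : Matrix (Fin c') (Fin c') Λ := Matrix.of fun r s => jac (rows' r) (cols' s)
    have hM' : M'.det ≠ 0 := by
      rw [show M' = ev.mapMatrix (Matrix.of fun r s : Fin c' => pderiv (cols' s) (f (rows' r))) from rfl,
        ← RingHom.map_det]
      exact hd'
    have h1 : bΛ * aΛ * M' = γ • M' := by
      ext r s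
      simp only [Matrix.mul_apply, Matrix.smul_apply, smul_eq_mul, M', Matrix.of_apply]
      rw [sum_sum_mul, hJ' r, Finset.mul_sum]
      exact Finset.sum_congr rfl fun j _ => by rw [← hJ j, mul_left_comm]
    have h2 := congrArg (· * M'.adjugate) h1
    simp only [Matrix.mul_assoc, Matrix.mul_adjugate, Matrix.smul_mul] at h2
    rw [← Matrix.mul_assoc, Matrix.mul_smul, Matrix.mul_one] at h2
    exact smul_right_injective _ hM' (h2.trans (smul_comm _ _ _))
  let K := FractionRing Λ
  have hinv : ∀ {p q : ℕ} (X : Matrix (Fin p) (Fin q) Λ) (Y : Matrix (Fin q) (Fin p) Λ),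
      X * Y = γ • 1 → p ≤ q := by
    intro p q X Y h
    have hγK : algebraMap Λ K γ ≠ 0 := fun h0 => hγ (IsFractionRing.injective Λ K (by rw [h0, map_zero]))
    have h1 := card_le_of_mul_eq_one (X.map (algebraMap Λ K)) ((algebraMap Λ K γ)⁻¹ • Y.map (algebraMap Λ K)) (by
      rw [Matrix.mul_smul, ← Matrix.map_mul, h, Matrix.map_smul' _ _ _ (map_mul _),
        Matrix.map_one _ (map_zero _) (map_one _), smul_smul, inv_mul_cancel₀ hγK, one_smul])
    simpa using h1
  obtain rfl : c = c' := le_antisymm (hinv _ _ hab) (hinv _ _ hba)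
  let aP : Matrix (Fin c) (Fin c) (MvPolynomial (Fin n) R) := Matrix.of a
  let δ := aP.det * g'
  have hδ : ev δ ≠ 0 := by
    rw [map_mul, RingHom.map_det, show ev.mapMatrix aP = aΛ from rfl]
    refine mul_ne_zero (fun h0 => ?_) hγ
    have h1 := congrArg Matrix.det hab
    rw [Matrix.det_mul, h0, zero_mul, Matrix.det_smul, Matrix.det_one, mul_one] at h1
    exact hγ (eq_zero_of_pow_eq_zero h1.symm)
  let J := Ideal.span (Set.range (f ∘ rows))
  have hδJ : ∀ x, φ x = 0 → δ * x ∈ J := by
    have hrow : ∀ r', aP.det * f (rows' r') ∈ J := by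
      intro r'
      have h1 : aP.det * f (rows' r') = ∑ r, aP.adjugate r' r * (g' * f (rows r)) := by
        have h2 : ∀ r, g' * f (rows r) = ∑ k, aP r k * f (rows' k) := fun r => by
          rw [← ha r]; rfl
        simp only [h2, Finset.mul_sum, ← mul_assoc]
        rw [Finset.sum_comm]
        simp only [← Finset.sum_mul, ← Matrix.mul_apply, Matrix.adjugate_mul, Matrix.smul_apply,
          Matrix.one_apply, smul_eq_mul, mul_ite, mul_one, mul_zero, ite_mul, zero_mul,
          Finset.sum_ite_eq, Finset.mem_univ, if_true]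
      rw [h1]
      exact Submodule.sum_mem _ fun r _ =>
        Ideal.mul_mem_left _ _ (Ideal.mul_mem_left _ _ (Ideal.subset_span ⟨r, rfl⟩))
    intro x hx
    rw [mul_assoc]
    obtain ⟨e, he⟩ := (Submodule.mem_span_range_iff_exists_fun _).1 (hg' x hx)
    rw [← he, Finset.mul_sum]
    refine Submodule.sum_mem _ fun r _ => ?_
    rw [smul_eq_mul, mul_left_comm]
    exact Ideal.mul_mem_left _ _ (hrow r)
  -- the standard smooth algebra and its local ring
  let P0 : Ideal (MvPolynomial (Fin n) R) := (IsLocalRing.maximalIdeal Λ).comap ev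
  haveI : P0.IsPrime := Ideal.IsPrime.comap _
  let g := Smoothing.jacobianMinor f rows cols
  have hgP : g ∉ P0 := fun h => hdet (by
    rw [show (Matrix.of fun r s : Fin c => res (jac (rows r) (cols s))) =
      res.mapMatrix (ev.mapMatrix (Matrix.of fun r s : Fin c => pderiv (cols s) (f (rows r)))) from rfl,
      ← RingHom.map_det, ← RingHom.map_det]
    exact (IsLocalRing.residue_eq_zero_iff _).2 h)
  let mk : MvPolynomial (Fin n) R →ₐ[R] MvPolynomial (Fin n) R ⧸ J := Ideal.Quotient.mkₐ R J
  let T := Localization.Away (mk g)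
  haveI : Algebra.IsStandardSmooth R T :=
    isStandardSmooth_of_data mk Ideal.Quotient.mk_surjective (f ∘ rows) Ideal.mk_ker id cols
      cols.injective (mk g) dvd_rfl g rfl
      (fun y hy => Ideal.mem_sup_left (Ideal.mul_mem_left _ _ (Ideal.Quotient.eq_zero_iff_mem.1 hy))) T
  have hevJ : ∀ x ∈ J, ev x = 0 := fun x hx =>
    (Ideal.span_le.2 (by rintro _ ⟨r, rfl⟩; exact hev0 _) : J ≤ RingHom.ker ev) hx
  let εT : T →+* Λ := IsLocalization.lift (M := Submonoid.powers (mk g))
    (g := Ideal.Quotient.lift J ev hevJ) (by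
      rintro ⟨_, k, rfl⟩
      rw [map_pow]
      refine IsUnit.pow k ?_
      by_contra h
      exact hgP ((IsLocalRing.mem_maximalIdeal _).2 h))
  let PT : Ideal T := (IsLocalRing.maximalIdeal Λ).comap εT
  haveI : PT.IsPrime := Ideal.IsPrime.comap _
  haveI := isDomain_atPrime_of_smooth_over_dvr (R := R) PT
  let toT : MvPolynomial (Fin n) R →+* Localization.AtPrime PT :=
    ((algebraMap T (Localization.AtPrime PT)).comp (algebraMap (MvPolynomial (Fin n) R ⧸ J) T)).comp mk.toRingHom
  have hεT : ∀ y, εT (algebraMap (MvPolynomial (Fin n) R ⧸ J) T (mk y)) = ev y := fun y =>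
    IsLocalization.lift_eq _ (mk y)
  have hclear : ∀ y, toT y = 0 → ∃ s ∉ P0, s * y ∈ J := by
    intro y hy
    obtain ⟨⟨s, hs⟩, hsy⟩ := (IsLocalization.map_eq_zero_iff PT.primeCompl _ _).1 hy
    obtain ⟨⟨s0, ⟨_, k, rfl⟩⟩, hs0⟩ := IsLocalization.surj (Submonoid.powers (mk g)) s
    obtain ⟨s1, rfl⟩ := Ideal.Quotient.mk_surjective s0
    have h1 : algebraMap (MvPolynomial (Fin n) R ⧸ J) T (mk (s1 * y)) = 0 := by
      rw [map_mul, map_mul, show algebraMap (MvPolynomial (Fin n) R ⧸ J) T (mk s1) =
        s * algebraMap _ T (mk g ^ k) from hs0.symm]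
      linear_combination algebraMap (MvPolynomial (Fin n) R ⧸ J) T (mk g ^ k) * hsy
    obtain ⟨⟨_, l, rfl⟩, hl⟩ :=
      (IsLocalization.map_eq_zero_iff (Submonoid.powers (mk g)) _ _).1 h1
    refine ⟨g ^ l * s1, fun h => ?_, ?_⟩
    · refine (‹P0.IsPrime›.mem_or_mem h).elim (fun h => hgP (‹P0.IsPrime›.mem_of_pow_mem _ h)) fun h => hs ?_
      show εT s ∈ IsLocalRing.maximalIdeal Λ
      have h2 : εT s * εT (algebraMap _ T (mk g ^ k)) ∈ IsLocalRing.maximalIdeal Λ := by
        rw [← map_mul, show s * algebraMap _ T (mk g ^ k) = algebraMap _ T (mk s1) from hs0, hεT]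
        exact h
      refine ((IsLocalRing.maximalIdeal.isMaximal Λ).isPrime.mem_or_mem h2).resolve_right fun h3 => ?_
      rw [← map_pow mk, hεT, map_pow] at h3
      exact hgP ((IsLocalRing.maximalIdeal.isMaximal Λ).isPrime.mem_of_pow_mem _ h3)
    · rw [← Ideal.Quotient.eq_zero_iff_mem, mul_assoc]
      show mk _ = 0
      rw [map_mul, map_pow]
      exact hl
  have hδ0 : toT δ ≠ 0 := fun h => by
    obtain ⟨s, hs, hsy⟩ := hclear δ h
    have h1 := hevJ _ hsy
    rw [map_mul] at h1
    refine hs ?_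
    show ev s ∈ IsLocalRing.maximalIdeal Λ
    rw [(mul_eq_zero.1 h1).resolve_right hδ]
    exact zero_mem _
  have hkill : ∀ j, ∃ s ∉ P0, s * f j ∈ J := fun j => hclear _ (by
    have h1 : toT (δ * f j) = 0 := by
      simp only [toT, RingHom.comp_apply, AlgHom.toRingHom_eq_coe, RingHom.coe_coe]
      rw [show mk (δ * f j) = 0 from Ideal.Quotient.eq_zero_iff_mem.2 (hδJ _ (hf0 j)), map_zero, map_zero]
    rw [map_mul] at h1
    exact (mul_eq_zero.1 h1).resolve_left hδ0)
  choose s hs hsJ using hkill
  let e := (∏ j, s j) * g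
  have heP : e ∉ P0 := P0.primeCompl.mul_mem (P0.primeCompl.prod_mem fun j _ => hs j) hgP
  haveI : Algebra.IsStandardSmooth R (Localization.Away (φ e)) :=
    isStandardSmooth_of_data φ hφ f hker rows cols cols.injective (φ e) (map_dvd φ (dvd_mul_left _ _)) e rfl
      (fun x hx => Ideal.mem_sup_left (by
        have hx' : x ∈ Ideal.span (Set.range f) := hker ▸ (show x ∈ RingHom.ker φ.toRingHom from hx)
        refine Submodule.span_induction ?_ (by simp) (fun a b _ _ ha hb => ?_) (fun p a _ ha => ?_) hx'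
        · rintro _ ⟨j, rfl⟩
          simp only [e]
          rw [← Finset.prod_erase_mul _ _ (Finset.mem_univ j), show
            (∏ x ∈ Finset.univ.erase j, s x) * s j * g * f j =
              (∏ x ∈ Finset.univ.erase j, s x) * g * (s j * f j) by ring]
          exact Ideal.mul_mem_left _ _ (hsJ j)
        · rw [mul_add]; exact add_mem ha hb
        · rw [smul_eq_mul, mul_left_comm]; exact Ideal.mul_mem_left _ _ ha)) (Localization.Away (φ e))
  haveI : Algebra.Smooth R (Localization.Away (φ e)) := inferInstance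
  exact isSmoothAt_of_smooth_away (φ e) _ heP

end Groth.Agent.Smooth28
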