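import Groth.Agent.Smooth28.AtSmooth
import Groth.Agent.Smooth28.Elem
import Groth.Agent.Smooth28.LiftingDefs
import Mathlib.RingTheory.Smooth.Flat
import Mathlib.RingTheory.Flat.EquationalCriterion
import Mathlib.RingTheory.Nakayama

/-!
Tools for desingularization.
-/

namespace Groth.Agent.Smooth28

open MvPolynomial

universe u

variable {R : Type u} [CommRing R] {n m c : ℕ}

/-- Flat algebras inherit annihilator inclusions. -/
theorem flat_kill {E : Type*} [CommRing E] [Algebra R E] [Module.Flat R E] {s q : R}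
    (h : ∀ a : R, s * a = 0 → q * a = 0) {e : E} (he : algebraMap R E s * e = 0) :
    algebraMap R E q * e = 0 := by
  obtain ⟨k, a, y, hy, ha⟩ := Module.Flat.isTrivialRelation_of_sum_smul_eq_zero
    (ι := Fin 1) (f := fun _ => s) (x := fun _ => e) (by simpa [Algebra.smul_def] using he)
  have hsum : e = ∑ j, a 0 j • y j := hy 0
  rw [hsum, Finset.mul_sum]
  refine Finset.sum_eq_zero fun j _ => ?_
  have h1 : q * a 0 j = 0 := h _ (by simpa using ha j)
  rw [Algebra.smul_def, ← mul_assoc, ← map_mul, h1, map_zero, zero_mul]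

theorem exists_taylor_scaled (r0 : Fin n → R) (t : R) (f : MvPolynomial (Fin n) R) :
    ∃ q : MvPolynomial (Fin n) R,
      aeval (fun i => MvPolynomial.C (r0 i) + MvPolynomial.C t * X i) f =
        MvPolynomial.C (eval r0 f) +
          MvPolynomial.C t * ∑ i, MvPolynomial.C (eval r0 (pderiv i f)) * X i +
          MvPolynomial.C (t ^ 2) * q := by
  classical
  induction f using MvPolynomial.induction_on with
  | C r => exact ⟨0, by simp⟩
  | add p p' hp hp' =>
    obtain ⟨q, hq⟩ := hp
    obtain ⟨q', hq'⟩ := hp'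
    refine ⟨q + q', ?_⟩
    simp only [map_add, hq, hq', add_mul, Finset.sum_add_distrib, mul_add]
    ring
  | mul_X p j hp =>
    obtain ⟨q, hq⟩ := hp
    refine ⟨q * (MvPolynomial.C (r0 j) + MvPolynomial.C t * X j) +
      (∑ i, MvPolynomial.C (eval r0 (pderiv i p)) * X i) * X j, ?_⟩
    have h1 : ∑ i, MvPolynomial.C (eval r0 (pderiv i (p * X j))) * X i =
        (∑ i, MvPolynomial.C (eval r0 (pderiv i p)) * X i) * MvPolynomial.C (r0 j) +
          MvPolynomial.C (eval r0 p) * X j := by
      simp only [pderiv_mul, map_add, map_mul, eval_X, add_mul, Finset.sum_add_distrib]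
      congr 1
      · rw [Finset.sum_mul]
        exact Finset.sum_congr rfl fun i _ => by ring
      · rw [Finset.sum_eq_single j (fun i _ hi => by simp [pderiv_X_of_ne (Ne.symm hi)]) (by simp)]
        simp
    rw [map_mul, aeval_X, hq, h1, map_mul, eval_X, map_mul, map_pow]
    ring

/-- The algebra of the desingularization. -/
noncomputable def desingRels (f : Fin m → MvPolynomial (Fin n) R)
    (x : Fin n → MvPolynomial (Fin (n + c)) R) (g : Fin c → MvPolynomial (Fin (n + c)) R) :
    Fin (c + m) → MvPolynomial (Fin (n + c)) R :=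
  Fin.append g fun j => aeval x (f j)

theorem desing_smooth_at_pi (π r : R) (hr : ∀ y : R, π ^ 2 * y = 0 → π * (r * y) = 0)
    (f : Fin m → MvPolynomial (Fin n) R) (rows : Fin c → Fin m)
    (x : Fin n → MvPolynomial (Fin (n + c)) R) (g : Fin c → MvPolynomial (Fin (n + c)) R)
    (hgx : ∀ k, aeval x (f (rows k)) = MvPolynomial.C (π ^ 3) * g k)
    (v : Fin m → MvPolynomial (Fin (n + c)) R)
    (hv : ∀ j, aeval x (f j) = MvPolynomial.C (π ^ 2) * v j)
    (hder : ∀ k i, pderiv (Fin.natAdd n i) (g k) - (if k = i then 1 else 0) ∈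
      Ideal.span {MvPolynomial.C π})
    (htail : ∀ j, MvPolynomial.C π * f j ∈
      Ideal.span (Set.range (f ∘ rows)) ⊔ Ideal.span (Set.range f) ^ 2)
    (Q : Ideal (MvPolynomial (Fin (n + c)) R ⧸ Ideal.span (Set.range (desingRels f x g)))) [Q.IsPrime]
    (hπQ : algebraMap R _ π ∈ Q) (hrQ : algebraMap R _ r ∉ Q) : Algebra.IsSmoothAt R Q := by
  classical
  let q : Ideal (MvPolynomial (Fin (n + c)) R) := Q.comap (Ideal.Quotient.mk _)
  haveI : q.IsPrime := Ideal.IsPrime.comap _
  have hπq : MvPolynomial.C π ∈ q := hπQ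
  have hrq : MvPolynomial.C r ∉ q := hrQ
  have hgq : ∀ k, g k ∈ q := fun k => by
    show Ideal.Quotient.mk _ (g k) ∈ Q
    rw [Ideal.Quotient.eq_zero_iff_mem.2 (Ideal.subset_span (show g k ∈ Set.range (desingRels f x g) from ⟨Fin.castAdd m k, Fin.append_left _ _ k⟩))]
    exact zero_mem _
  let cols : Fin c → Fin (n + c) := Fin.natAdd n
  let Δ := Smoothing.jacobianMinor g id cols
  have hΔ1 : Δ - 1 ∈ Ideal.span {MvPolynomial.C π} := by
    rw [← Ideal.Quotient.eq, map_one]
    simp only [Δ, Smoothing.jacobianMinor, RingHom.map_det]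
    convert Matrix.det_one (n := Fin c)
    ext1 k i
    simp only [RingHom.mapMatrix_apply, Matrix.map_apply, Matrix.of_apply, id, cols]
    rw [Ideal.Quotient.eq.2 (hder k i), Matrix.one_apply]
    split_ifs <;> simp
  have hspanq : Ideal.span {MvPolynomial.C π} ≤ q := (Ideal.span_singleton_le_iff_mem _).2 hπq
  have hΔq : Δ ∉ q := fun h => ‹q.IsPrime›.ne_top ((Ideal.eq_top_iff_one _).2 (by
    simpa using sub_mem h (hspanq hΔ1)))
  -- the standard smooth cover
  let mkE : MvPolynomial (Fin (n + c)) R →ₐ[R]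
      MvPolynomial (Fin (n + c)) R ⧸ Ideal.span (Set.range g) := Ideal.Quotient.mkₐ R _
  let E := Localization.Away (mkE Δ)
  haveI : Algebra.IsStandardSmooth R E :=
    isStandardSmooth_of_data mkE Ideal.Quotient.mk_surjective g Ideal.mk_ker id cols
      (Fin.natAdd_injective _ _) (mkE Δ) dvd_rfl Δ rfl
      (fun y hy => Ideal.mem_sup_left (Ideal.mul_mem_left _ _ (Ideal.Quotient.eq_zero_iff_mem.1 hy))) E
  haveI : Algebra.Smooth R E := inferInstance
  let ev : MvPolynomial (Fin (n + c)) R →ₐ[R] E :=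
    (IsScalarTower.toAlgHom R (MvPolynomial (Fin (n + c)) R ⧸ Ideal.span (Set.range g)) E).comp mkE
  have hev0 : ∀ y, ev y = 0 → ∃ l : ℕ, Δ ^ l * y ∈ Ideal.span (Set.range g) := fun y hy => by
    obtain ⟨⟨_, l, rfl⟩, hl⟩ := (IsLocalization.map_eq_zero_iff (Submonoid.powers (mkE Δ)) E _).1 hy
    exact ⟨l, Ideal.Quotient.eq_zero_iff_mem.1 (by rw [map_mul, map_pow]; exact hl)⟩
  have hevg : ∀ k, ev (g k) = 0 := fun k => by
    show algebraMap (MvPolynomial (Fin (n + c)) R ⧸ Ideal.span (Set.range g)) E (mkE (g k)) = 0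
    rw [show mkE (g k) = 0 from Ideal.Quotient.eq_zero_iff_mem.2 (Ideal.subset_span ⟨k, rfl⟩)]
    exact map_zero (algebraMap (MvPolynomial (Fin (n + c)) R ⧸ Ideal.span (Set.range g)) E)
  set t : E := algebraMap R E π
  let F : Fin m → E := fun j => ev (aeval x (f j))
  let I : Ideal E := Ideal.span (Set.range F)
  have hFrows : ∀ k, F (rows k) = 0 := fun k => by simp only [F, hgx, map_mul, hevg, mul_zero]
  have hI : I ≤ Ideal.span {t ^ 2} := Ideal.span_le.2 (by
    rintro _ ⟨j, rfl⟩
    show F j ∈ _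
    simp only [F, hv, map_mul, algHom_C, map_pow]
    exact Ideal.mul_mem_right _ _ (Ideal.mem_span_singleton_self _))
  have hπI : ∀ j, t * F j ∈ I ^ 2 := fun j => by
    have h := Ideal.mem_map_of_mem (ev.comp (aeval x)) (htail j)
    rw [Ideal.map_sup, Ideal.map_pow, Ideal.map_span, Ideal.map_span, ← Set.range_comp,
      ← Set.range_comp, map_mul, algHom_C] at h
    refine (sup_le ?_ le_rfl : _ ⊔ I ^ 2 ≤ I ^ 2) h
    refine Ideal.span_le.2 ?_
    rintro _ ⟨k, rfl⟩
    show F (rows k) ∈ I ^ 2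
    rw [hFrows]
    exact zero_mem _
  let M : Submodule E E := Ideal.span {t} * I
  have hM : M ≤ Ideal.span {t} • M := by
    show Ideal.span {t} * I ≤ Ideal.span {t} * (Ideal.span {t} * I)
    refine Ideal.mul_le.2 ?_
    intro a ha b hb
    obtain ⟨a', rfl⟩ := Ideal.mem_span_singleton'.1 ha
    rw [mul_assoc]
    refine Ideal.mul_mem_left _ _ ?_
    have h1 : t * b ∈ I ^ 2 := by
      refine Submodule.span_induction ?_ (by simp) (fun a b _ _ ha hb => ?_) (fun e a _ ha => ?_) hb
      · rintro _ ⟨j, rfl⟩; exact hπI j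
      · rw [mul_add]; exact add_mem ha hb
      · rw [smul_eq_mul, mul_left_comm]; exact Ideal.mul_mem_left _ _ ha
    rw [← mul_assoc, Ideal.span_singleton_mul_span_singleton, ← pow_two]
    exact Ideal.mul_mono hI le_rfl (pow_two I ▸ h1)
  have hMfg : M.FG := Submodule.FG.mul (Submodule.fg_span (Set.finite_singleton t))
    (Submodule.fg_span (Set.finite_range F))
  obtain ⟨d, hd1, hd⟩ :=
    Submodule.exists_sub_one_mem_and_smul_eq_zero_of_fg_of_le_smul _ M hMfg hM
  have hrd : ∀ j, algebraMap R E r * (d * F j) = 0 := fun j => by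
    have h1 : d * (t * F j) = 0 :=
      hd _ (Ideal.mul_mem_mul (Ideal.mem_span_singleton_self t) (Ideal.subset_span ⟨j, rfl⟩))
    have h2 : F j = t ^ 2 * ev (v j) := by simp only [F, hv, map_mul, algHom_C, map_pow]; rfl
    have h3 : algebraMap R E (π ^ 3) * (d * ev (v j)) = 0 := by
      rw [map_pow, ← h1, h2]; ring
    have h4 := flat_kill (q := r * π ^ 2) (fun a ha => by
      linear_combination hr (π * a) (by linear_combination ha)) h3
    rw [map_mul, map_pow] at h4
    rw [h2, ← h4]; ring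
  -- clearing the denominator
  obtain ⟨⟨d', ⟨_, k, rfl⟩⟩, hdd⟩ := IsLocalization.surj (Submonoid.powers (mkE Δ)) d
  obtain ⟨d'', rfl⟩ := Ideal.Quotient.mk_surjective d'
  have hdd' : d * ev Δ ^ k = ev d'' := by
    show d * algebraMap _ E (mkE Δ) ^ k = algebraMap _ E (mkE d'')
    rw [← map_pow]; exact hdd
  have hd''q : d'' ∉ q := fun hmem => by
    obtain ⟨e, he⟩ := Ideal.mem_span_singleton'.1 hd1
    obtain ⟨⟨e', ⟨_, k', rfl⟩⟩, hee⟩ := IsLocalization.surj (Submonoid.powers (mkE Δ)) e
    obtain ⟨e'', rfl⟩ := Ideal.Quotient.mk_surjective e'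
    have hee' : e * ev Δ ^ k' = ev e'' := by
      show e * algebraMap _ E (mkE Δ) ^ k' = algebraMap _ E (mkE e'')
      rw [← map_pow]; exact hee
    have h0 : ev (Δ ^ k' * (d'' - Δ ^ k) - e'' * MvPolynomial.C π * Δ ^ k) = 0 := by
      simp only [map_sub, map_mul, map_pow, algHom_C, ← hdd', ← hee']
      linear_combination (-(ev Δ ^ k' * ev Δ ^ k)) * he
    obtain ⟨l, hl⟩ := hev0 _ h0
    have h5 : Δ ^ l * (Δ ^ k' * (d'' - Δ ^ k) - e'' * MvPolynomial.C π * Δ ^ k) ∈ q :=
      (Ideal.span_le.2 (by rintro _ ⟨i, rfl⟩; exact hgq i) : _ ≤ q) hl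
    have h6 := ((‹q.IsPrime›.mem_or_mem h5).resolve_left fun h => hΔq (‹q.IsPrime›.mem_of_pow_mem _ h))
    have h7 : Δ ^ k' * (d'' - Δ ^ k) ∈ q := by
      have := add_mem h6 (q.mul_mem_right (Δ ^ k) (q.mul_mem_left e'' hπq))
      rwa [sub_add_cancel] at this
    have h8 := (‹q.IsPrime›.mem_or_mem h7).resolve_left fun h => hΔq (‹q.IsPrime›.mem_of_pow_mem _ h)
    exact hΔq (‹q.IsPrime›.mem_of_pow_mem k (by simpa using sub_mem hmem h8))
  have hkill : ∀ j, ∃ l : ℕ, Δ ^ l * (MvPolynomial.C r * d'' * aeval x (f j)) ∈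
      Ideal.span (Set.range g) := fun j => hev0 _ (by
    rw [map_mul, map_mul, algHom_C, ← hdd']
    linear_combination ev Δ ^ k * hrd j)
  choose l hl using hkill
  let e : MvPolynomial (Fin (n + c)) R := Δ ^ (∑ j, l j + 1) * (MvPolynomial.C r * d'')
  have he : ∀ i, e * desingRels f x g i ∈ Ideal.span (Set.range g) := by
    intro i
    induction i using Fin.addCases with
    | left k =>
      simp only [desingRels, Fin.append_left]
      exact Ideal.mul_mem_left _ _ (Ideal.subset_span ⟨k, rfl⟩)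
    | right j =>
      simp only [desingRels, Fin.append_right, e]
      have h9 : l j ≤ ∑ i, l i + 1 :=
        (Finset.single_le_sum (fun i _ => Nat.zero_le (l i)) (Finset.mem_univ j)).trans (Nat.le_succ _)
      rw [← Nat.sub_add_cancel h9, pow_add, mul_assoc, mul_assoc]
      exact Ideal.mul_mem_left _ _ (hl j)
  have heq : e ∉ q := fun h =>
    (‹q.IsPrime›.mem_or_mem h).elim (fun h => hΔq (‹q.IsPrime›.mem_of_pow_mem _ h))
      fun h => (‹q.IsPrime›.mem_or_mem h).elim hrq hd''q
  let mkB : MvPolynomial (Fin (n + c)) R →ₐ[R]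
      MvPolynomial (Fin (n + c)) R ⧸ Ideal.span (Set.range (desingRels f x g)) :=
    Ideal.Quotient.mkₐ R _
  have hrowsB : desingRels f x g ∘ Fin.castAdd m = g := funext fun k => by simp [desingRels]
  have hminor : Smoothing.jacobianMinor (desingRels f x g) (Fin.castAdd m) cols = Δ := by
    simp only [Δ, Smoothing.jacobianMinor, desingRels, Fin.append_left, id]
  haveI : Algebra.IsStandardSmooth R (Localization.Away (mkB e)) :=
    isStandardSmooth_of_data mkB Ideal.Quotient.mk_surjective (desingRels f x g) Ideal.mk_ker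
      (Fin.castAdd m) cols (Fin.natAdd_injective _ _) (mkB e)
      (by rw [hminor]; exact map_dvd mkB (Dvd.dvd.mul_right (dvd_pow_self Δ (Nat.succ_ne_zero _)) _))
      e rfl
      (fun y hy => Ideal.mem_sup_left (by
        rw [hrowsB]
        have hy' : y ∈ Ideal.span (Set.range (desingRels f x g)) := Ideal.Quotient.eq_zero_iff_mem.1 hy
        refine Submodule.span_induction ?_ (by simp) (fun a b _ _ ha hb => ?_) (fun p a _ ha => ?_) hy'
        · rintro _ ⟨i, rfl⟩; exact he i
        · rw [mul_add]; exact add_mem ha hb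
        · rw [smul_eq_mul, mul_left_comm]; exact Ideal.mul_mem_left _ _ ha))
      (Localization.Away (mkB e))
  haveI : Algebra.FinitePresentation R
      (MvPolynomial (Fin (n + c)) R ⧸ Ideal.span (Set.range (desingRels f x g))) :=
    Algebra.FinitePresentation.quotient (Submodule.fg_span (Set.finite_range _))
  haveI : Algebra.Smooth R (Localization.Away (mkB e)) := inferInstance
  exact isSmoothAt_of_smooth_away (mkB e) Q heq

end Groth.Agent.Smooth28
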