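import Groth.Agent.Smooth28.Conormal
import Groth.Agent.Smooth28.AtSmooth
import Groth.Agent.Smooth28.Elem
import Groth.Agent.Smooth28.DesingTools
import Groth.Prelude.Def_BlowUp2
import Mathlib.RingTheory.DiscreteValuationRing.Basic

/-!
Smoothness of the Néron blow-up.
-/

namespace Groth.Agent.Smooth28

open MvPolynomial

universe u

/-- Near a point with separable residue field, the centre is generated by the uniformiser and elements
whose differentials complete those of the leading equations to an independent family. -/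
theorem exists_centre_generators {R k : Type u} [CommRing R] [IsNoetherianRing R] [Field k] [Algebra R k] {π : R}
    (hk : Function.Surjective (algebraMap R k)) (hkπ : RingHom.ker (algebraMap R k) = Ideal.span {π})
    {n c : ℕ} (Q : Ideal (MvPolynomial (Fin n) R)) [Q.IsPrime] (hπQ : MvPolynomial.C π ∈ Q)
    [Algebra k Q.ResidueField] [IsScalarTower R k Q.ResidueField]
    [Algebra.FormallySmooth k Q.ResidueField]
    (f : Fin c → MvPolynomial (Fin n) R) (hf : ∀ r, f r ∈ Q) (cols : Fin c → Fin n)
    (hminor : (Matrix.of fun r s : Fin c => pderiv (cols s) (f r)).det ∉ Q) :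
    ∃ (e : ℕ) (h : Fin e → MvPolynomial (Fin n) R) (cols' : Fin (c + e) ↪ Fin n)
      (s : MvPolynomial (Fin n) R), (∀ k, h k ∈ Q) ∧ s ∉ Q ∧
      (Matrix.of fun r s : Fin (c + e) => pderiv (cols' s) (Fin.append f h r)).det ∉ Q ∧
      ∀ x ∈ Q, s * x ∈ Ideal.span (Set.range (Fin.append f h)) ⊔ Ideal.span {MvPolynomial.C π} := by
  classical
  obtain ⟨M, q, hq⟩ := Submodule.fg_iff_exists_fin_generating_family.1 (IsNoetherian.noetherian Q)
  let P := MvPolynomial (Fin n) R
  let evκ : P →+* Q.ResidueField := algebraMap P Q.ResidueField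
  have hevκ : ∀ x, evκ x = 0 ↔ x ∈ Q := fun x => Ideal.algebraMap_residueField_eq_zero
  let row : P → Fin n → Q.ResidueField := fun y i => evκ (pderiv i y)
  have hindep : LinearIndependent Q.ResidueField fun r => row (f r) := by
    refine LinearIndependent.of_comp (LinearMap.funLeft Q.ResidueField Q.ResidueField cols) ?_
    refine Matrix.linearIndependent_rows_of_det_ne_zero
      (A := Matrix.of fun r s : Fin c => evκ (pderiv (cols s) (f r))) ?_
    rw [show (Matrix.of fun r s : Fin c => evκ (pderiv (cols s) (f r))) =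
      evκ.mapMatrix (Matrix.of fun r s : Fin c => pderiv (cols s) (f r)) from rfl, ← RingHom.map_det]
    exact fun h => hminor ((hevκ _).1 h)
  obtain ⟨e, sel, cols', hdet, hspan⟩ := exists_extend_rows (fun r => row (f r)) hindep (fun l => row (q l))
  let fh : Fin (c + e) → P := Fin.append f (q ∘ sel)
  have happ : Fin.append (fun r => row (f r)) ((fun l => row (q l)) ∘ sel) = row ∘ fh := by
    funext i
    induction i using Fin.addCases <;> simp [fh]
  rw [happ] at hdet hspan
  have hqQ : ∀ l, q l ∈ Q := fun l => hq ▸ Submodule.subset_span ⟨l, rfl⟩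
  have hfhQ : ∀ r, fh r ∈ Q := fun r => by
    induction r using Fin.addCases with
    | left r => simp only [fh, Fin.append_left]; exact hf r
    | right r => simp only [fh, Fin.append_right]; exact hqQ _
  let J : Ideal P := Ideal.span (Set.range fh) ⊔ Ideal.span {MvPolynomial.C π}
  have hgen : ∀ l, ∃ t ∉ Q, t * q l ∈ J ⊔ Q * Q := by
    intro l
    obtain ⟨β, hβ⟩ := (Submodule.mem_span_range_iff_exists_fun _).1 (hspan l)
    obtain ⟨s, b, hs, hb⟩ := exists_clear_denominators Q β
    let y := s * q l - ∑ r, b r * fh r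
    have hy : y ∈ Q :=
      sub_mem (Q.mul_mem_left _ (hqQ l)) (Submodule.sum_mem _ fun r _ => Q.mul_mem_left _ (hfhQ r))
    have hd : ∀ i, pderiv i y ∈ Q := fun i => by
      rw [← hevκ]
      have h1 := congrFun hβ i
      simp only [Finset.sum_apply, Pi.smul_apply, smul_eq_mul, row, Function.comp_apply] at h1
      simp only [y, map_sub, map_sum]
      rw [pderiv_mul, map_add, map_mul, map_mul, (hevκ _).2 (hqQ l), mul_zero, zero_add]
      rw [← h1, Finset.mul_sum, sub_eq_zero]
      refine Finset.sum_congr rfl fun r _ => ?_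
      rw [← mul_assoc, show evκ s * β r = evκ (b r) from hb r, pderiv_mul, map_add, map_mul, map_mul,
        (hevκ _).2 (hfhQ r), mul_zero, zero_add]
    obtain ⟨s', hs', hs'y⟩ := exists_mul_mem_sq_of_pderiv_mem hk hkπ Q hπQ hy hd
    refine ⟨s' * s, Q.primeCompl.mul_mem hs' hs, ?_⟩
    rw [show s' * s * q l = s' * y + s' * ∑ r, b r * fh r by simp [y]; ring]
    refine add_mem ((sup_le ?_ ?_ : Q ^ 2 ⊔ Ideal.span {MvPolynomial.C π} ≤ J ⊔ Q * Q) hs'y)
      (Ideal.mem_sup_left (Ideal.mem_sup_left (Ideal.mul_mem_left _ _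
        (Submodule.sum_mem _ fun r _ => Ideal.mul_mem_left _ _ (Ideal.subset_span ⟨r, rfl⟩)))))
    · rw [pow_two]; exact le_sup_right
    · exact le_sup_of_le_left le_sup_right
  choose t ht htq using hgen
  obtain ⟨g, d, hgd, hgJ⟩ := exists_sub_pow_mem_and_mul_mem (IsNoetherian.noetherian Q) (∏ l, t l)
    (J := J) (Q := Q) fun x hx => by
      rw [← hq] at hx
      obtain ⟨u, rfl⟩ := (Submodule.mem_span_range_iff_exists_fun _).1 hx
      rw [Finset.mul_sum]
      refine Submodule.sum_mem _ fun l _ => ?_
      rw [← Finset.prod_erase_mul _ _ (Finset.mem_univ l), smul_eq_mul,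
        show (∏ x ∈ Finset.univ.erase l, t x) * t l * (u l * q l) =
          (∏ x ∈ Finset.univ.erase l, t x) * u l * (t l * q l) by ring]
      exact Ideal.mul_mem_left _ _ (htq l)
  refine ⟨e, q ∘ sel, cols', g, fun k => hqQ _, fun hgQ => ?_, fun hdet' => hdet ?_, hgJ⟩
  · have h1 := sub_mem hgQ hgd
    rw [sub_sub_cancel] at h1
    exact (Q.primeCompl.prod_mem fun l _ => ht l) (‹Q.IsPrime›.mem_of_pow_mem _ h1)
  · rw [show (Matrix.of fun r s : Fin (c + e) => (row ∘ fh) r (cols' s)) =
      evκ.mapMatrix (Matrix.of fun r s : Fin (c + e) => pderiv (cols' s) (fh r)) from rfl,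
      ← RingHom.map_det]
    exact (hevκ _).2 hdet'

set_option maxHeartbeats 1000000 in
theorem isSmoothAt_blowup {R A : Type u} [CommRing R] [IsDomain R] [IsNoetherianRing R]
    [CommRing A] [Algebra R A] (π : R) (hπ0 : π ≠ 0)
    {n m : ℕ} (φ : MvPolynomial (Fin n) R →ₐ[R] A) (hφ : Function.Surjective φ)
    {c : ℕ} (f : Fin c → MvPolynomial (Fin n) R) (hf : ∀ r, φ (f r) = 0)
    (g0 : MvPolynomial (Fin n) R) (hg0 : ∀ x, φ x = 0 → g0 * x ∈ Ideal.span (Set.range f))
    (p : Ideal A) (hπp : algebraMap R A π ∈ p) {e : ℕ} (h : Fin e → MvPolynomial (Fin n) R)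
    (hh : ∀ k, φ (h k) ∈ p) (cols : Fin (c + e) ↪ Fin n) (q : Fin m → MvPolynomial (Fin n) R)
    (hq : ∀ x, φ x ∈ p → x ∈ Ideal.span (Set.range q)) (hqp : ∀ l, φ (q l) ∈ p)
    (s : MvPolynomial (Fin n) R)
    (hs : ∀ l, s * q l ∈ Ideal.span (Set.range (Fin.append f h)) ⊔ Ideal.span {MvPolynomial.C π})
    (Q' : Ideal (BlowUp.affineAlgebra A p (algebraMap R A π))) [Q'.IsPrime]
    (hQ' : algebraMap A _ (φ (g0 * (Matrix.of fun r k : Fin (c + e) =>
      pderiv (cols k) (Fin.append f h r)).det * s)) ∉ Q') :
    Algebra.IsSmoothAt R Q' := by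
  classical
  let a : A := algebraMap R A π
  let A' := BlowUp.affineAlgebra A p a
  let frac : ∀ y : A, y ∈ p → A' := fun y hy =>
    ⟨IsLocalization.mk' (Localization.Away a) y ⟨a, Submonoid.mem_powers a⟩,
      Algebra.subset_adjoin ⟨y, hy, rfl⟩⟩
  have hfrac : ∀ y hy, algebraMap A A' a * frac y hy = algebraMap A A' y := fun y hy => by
    apply Subtype.ext
    show algebraMap A (Localization.Away a) a * IsLocalization.mk' _ y _ = algebraMap A _ y
    exact IsLocalization.mk'_spec' _ y ⟨a, Submonoid.mem_powers a⟩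
  have hcancel : ∀ z w : A', algebraMap A A' a * z = algebraMap A A' a * w → z = w := fun z w hzw => by
    apply Subtype.ext
    exact (IsLocalization.Away.algebraMap_isUnit a).mul_left_cancel (congrArg Subtype.val hzw)
  have hzero : ∀ y, algebraMap A A' y = 0 → ∃ K : ℕ, a ^ K * y = 0 := fun y hy => by
    obtain ⟨⟨_, K, rfl⟩, hK⟩ := (IsLocalization.map_eq_zero_iff (Submonoid.powers a)
      (Localization.Away a) y).1 (congrArg Subtype.val hy)
    exact ⟨K, hK⟩
  choose d hd using fun l => Submodule.mem_sup.1 (hs l)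
  choose hdmem d0 hd0 hdeq using hd
  choose u hu using fun l => (Submodule.mem_span_range_iff_exists_fun _).1 (hdmem l)
  choose w hw using fun l => Ideal.mem_span_singleton'.1 (hd0 l)
  -- variables and equations
  let ι : MvPolynomial (Fin n) R →ₐ[R] MvPolynomial (Fin (n + (e + m))) R := rename (Fin.castAdd (e + m))
  let yi : Fin e → Fin (n + (e + m)) := fun k => Fin.natAdd n (Fin.castAdd m k)
  let zi : Fin m → Fin (n + (e + m)) := fun l => Fin.natAdd n (Fin.natAdd e l)
  let Yr : Fin e → MvPolynomial (Fin (n + (e + m))) R := fun k => ι (h k) - MvPolynomial.C π * X (yi k)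
  let Zr : Fin m → MvPolynomial (Fin (n + (e + m))) R := fun l =>
    ι s * X (zi l) - ι (w l) - ∑ k, ι (u l (Fin.natAdd c k)) * X (yi k)
  let L : Fin (c + e + m) → MvPolynomial (Fin (n + (e + m))) R :=
    Fin.append (Fin.append (fun r => ι (f r)) Yr) Zr
  let colsL : Fin (c + e + m) → Fin (n + (e + m)) :=
    Fin.append (fun k => Fin.castAdd (e + m) (cols k)) zi
  have hcolsL : Function.Injective colsL := by
    rw [Fin.append_injective_iff]
    refine ⟨(Fin.castAdd_injective _ _).comp cols.injective,
      (Fin.natAdd_injective _ _).comp (Fin.natAdd_injective _ _), fun i j hij => ?_⟩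
    simp [zi, Fin.ext_iff] at hij
    omega
  let minor0 := (Matrix.of fun r k : Fin (c + e) => pderiv (cols k) (Fin.append f h r)).det
  have hx0 : ∀ (y : MvPolynomial (Fin n) R) (j : Fin (e + m)), pderiv (Fin.natAdd n j) (ι y) = 0 :=
    fun y j => pderiv_natAdd_rename y j
  have hx1 : ∀ (j : Fin (e + m)) (i : Fin n),
      pderiv (Fin.castAdd (e + m) i) (X (Fin.natAdd n j) : MvPolynomial (Fin (n + (e + m))) R) = 0 :=
    fun j i => pderiv_X_of_ne (fun h => by simp [Fin.ext_iff] at h; omega)
  have hminor : Smoothing.jacobianMinor L id colsL = ι minor0 * ι s ^ m := by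
    let Mt : Matrix (Fin (c + e) ⊕ Fin m) (Fin (c + e) ⊕ Fin m) (MvPolynomial (Fin (n + (e + m))) R) :=
      Matrix.of fun x y => pderiv (colsL (finSumFinEquiv y)) (L (finSumFinEquiv x))
    have h1 : Smoothing.jacobianMinor L id colsL = Mt.det := by
      rw [Smoothing.jacobianMinor, ← Matrix.det_submatrix_equiv_self finSumFinEquiv]
      rfl
    have h12 : Mt.toBlocks₁₂ = 0 := by
      ext1 r l
      simp only [Mt, Matrix.toBlocks₁₂, Matrix.of_apply, finSumFinEquiv_apply_left,
        finSumFinEquiv_apply_right, colsL, L, Fin.append_left, Fin.append_right, zi, Matrix.zero_apply]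
      induction r using Fin.addCases with
      | left r => rw [Fin.append_left, hx0]
      | right k =>
        simp only [Fin.append_right, Yr, map_sub, hx0, pderiv_C_mul, yi, zero_sub]
        rw [pderiv_X_of_ne ((Fin.natAdd_injective _ _).ne (fun h => by simp [Fin.ext_iff] at h; omega)),
          mul_zero, neg_zero]
    have h11 : Mt.toBlocks₁₁ = ι.toRingHom.mapMatrix
        (Matrix.of fun r k : Fin (c + e) => pderiv (cols k) (Fin.append f h r)) := by
      ext1 r l
      simp only [Mt, Matrix.toBlocks₁₁, Matrix.of_apply, finSumFinEquiv_apply_left, colsL, L,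
        Fin.append_left, RingHom.mapMatrix_apply, Matrix.map_apply]
      induction r using Fin.addCases with
      | left r =>
        simp only [Fin.append_left]
        exact pderiv_rename (R := R) (Fin.castAdd_injective n (e + m)) (cols l) (f r)
      | right k =>
        simp only [Fin.append_right, Yr, map_sub, pderiv_C_mul, yi, hx1, mul_zero, sub_zero]
        exact pderiv_rename (R := R) (Fin.castAdd_injective n (e + m)) (cols l) (h k)
    have h22 : Mt.toBlocks₂₂ = Matrix.diagonal fun _ => ι s := by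
      ext1 l l'
      simp only [Mt, Matrix.toBlocks₂₂, Matrix.of_apply, finSumFinEquiv_apply_right, colsL, L,
        Fin.append_right, Zr, zi, yi, map_sub, map_sum, pderiv_mul, hx0, zero_mul, zero_add, sub_zero]
      rw [Finset.sum_eq_zero fun k _ => by
        rw [pderiv_X_of_ne ((Fin.natAdd_injective _ _).ne (fun h => by simp [Fin.ext_iff] at h; omega)),
          mul_zero], sub_zero]
      rcases eq_or_ne l l' with rfl | hll
      · simp
      · rw [pderiv_X_of_ne ((Fin.natAdd_injective _ _).ne ((Fin.natAdd_injective _ _).ne hll)),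
          mul_zero, Matrix.diagonal_apply_ne _ hll]
    rw [h1, ← Matrix.fromBlocks_toBlocks Mt, h12, Matrix.det_fromBlocks_zero₁₂, h11, h22,
      Matrix.det_diagonal, Finset.prod_const, Finset.card_univ, Fintype.card_fin, ← RingHom.map_det]
    rfl
  -- the presentation of the blow-up algebra
  let val : Fin (n + (e + m)) → A' := Fin.append (fun i => algebraMap A A' (φ (X i)))
    (Fin.append (fun k => frac (φ (h k)) (hh k)) fun l => frac (φ (q l)) (hqp l))
  let Φ : MvPolynomial (Fin (n + (e + m))) R →ₐ[R] A' := aeval val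
  have hΦι : ∀ y, Φ (ι y) = algebraMap A A' (φ y) := fun y => by
    have h1 : Φ.comp ι = (IsScalarTower.toAlgHom R A A').comp φ :=
      MvPolynomial.algHom_ext fun i => by simp [Φ, ι, val]
    exact AlgHom.congr_fun h1 y
  have hΦy : ∀ k, Φ (X (yi k)) = frac (φ (h k)) (hh k) := fun k => by simp [Φ, val, yi]
  have hΦz : ∀ l, Φ (X (zi l)) = frac (φ (q l)) (hqp l) := fun l => by simp [Φ, val, zi]
  have hΦC : Φ (MvPolynomial.C π) = algebraMap A A' a := by
    rw [algHom_C]; exact IsScalarTower.algebraMap_apply R A A' π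
  have hΦL : ∀ i, Φ (L i) = 0 := by
    intro i
    induction i using Fin.addCases with
    | left r =>
      simp only [L, Fin.append_left]
      induction r using Fin.addCases with
      | left r => simp only [Fin.append_left, hΦι, hf, map_zero]
      | right k =>
        simp only [Fin.append_right, Yr, map_sub, map_mul, hΦι, hΦy, hΦC, hfrac, sub_self]
    | right l =>
      simp only [L, Fin.append_right, Zr, map_sub, map_mul, map_sum, hΦι, hΦy, hΦz]
      have h1 : φ s * φ (q l) = φ (w l) * a + ∑ k, φ (u l (Fin.natAdd c k)) * φ (h k) := by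
        rw [← map_mul, ← hdeq l, ← hu l, ← hw l, map_add, map_sum, Fin.sum_univ_add]
        simp only [smul_eq_mul, Fin.append_left, Fin.append_right, map_mul, hf, mul_zero,
          Finset.sum_const_zero, zero_add, algHom_C]
        ring
      refine hcancel _ _ ?_
      have h2 := congrArg (algebraMap A A') h1
      simp only [map_add, map_mul, map_sum] at h2
      rw [mul_zero, mul_sub, mul_sub, mul_left_comm, hfrac _ (hqp l), Finset.mul_sum,
        Finset.sum_congr rfl fun k _ => show algebraMap A A' a * (algebraMap A A' (φ (u l (Fin.natAdd c k))) *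
          frac (φ (h k)) (hh k)) = algebraMap A A' (φ (u l (Fin.natAdd c k))) * algebraMap A A' (φ (h k)) by
          rw [mul_left_comm, hfrac _ (hh k)], h2]
      ring
  let KL : Ideal (MvPolynomial (Fin (n + (e + m))) R) := Ideal.span (Set.range L)
  have hYK : ∀ k, ι (h k) - MvPolynomial.C π * X (yi k) ∈ KL := fun k =>
    Ideal.subset_span ⟨Fin.castAdd m (Fin.natAdd c k), by simp [L, Yr]⟩
  have hZK : ∀ l, ι s * X (zi l) - ι (w l) - ∑ k, ι (u l (Fin.natAdd c k)) * X (yi k) ∈ KL :=
    fun l => Ideal.subset_span ⟨Fin.natAdd (c + e) l, by simp [L, Zr]⟩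
  let D : MvPolynomial (Fin (n + (e + m))) R := MvPolynomial.C π * ι s
  have helim : ∀ y, ∃ (N : ℕ) (y0 : MvPolynomial (Fin n) R), D ^ N * y - ι y0 ∈ KL := by
    intro y
    induction y using MvPolynomial.induction_on with
    | C r => exact ⟨0, MvPolynomial.C r, by simp [ι]⟩
    | add y z hy hz =>
      obtain ⟨N, y0, hy⟩ := hy
      obtain ⟨K, z0, hz⟩ := hz
      refine ⟨N + K, (MvPolynomial.C π * s) ^ K * y0 + (MvPolynomial.C π * s) ^ N * z0, ?_⟩
      have := add_mem (Ideal.mul_mem_left _ (D ^ K) hy) (Ideal.mul_mem_left _ (D ^ N) hz)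
      convert this using 1
      simp only [D, map_add, map_mul, map_pow, ι, rename_C, pow_add]
      ring
    | mul_X y i hy =>
      obtain ⟨N, y0, hy⟩ := hy
      have hvar : ∃ v0, D * X i - ι v0 ∈ KL := by
        induction i using Fin.addCases with
        | left i => exact ⟨MvPolynomial.C π * s * X i, by simp [D, ι]⟩
        | right j =>
          induction j using Fin.addCases with
          | left k =>
            refine ⟨s * h k, ?_⟩
            have := Ideal.mul_mem_left KL (-ι s) (hYK k)
            convert this using 1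
            simp only [D, map_mul, ι, rename_C, yi]
            ring
          | right l =>
            refine ⟨MvPolynomial.C π * w l + ∑ k, u l (Fin.natAdd c k) * h k, ?_⟩
            have := add_mem (Ideal.mul_mem_left KL (MvPolynomial.C π) (hZK l))
              (Submodule.sum_mem KL (t := Finset.univ)
                (f := fun k => -ι (u l (Fin.natAdd c k)) * (ι (h k) - MvPolynomial.C π * X (yi k)))
                fun k _ => Ideal.mul_mem_left KL _ (hYK k))
            convert this using 1
            simp only [D, map_add, map_mul, map_sum, ι, rename_C, zi, neg_mul, mul_sub,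
              Finset.sum_sub_distrib, Finset.sum_neg_distrib, Finset.mul_sum]
            rw [Finset.sum_congr rfl fun k _ => mul_left_comm (rename (Fin.castAdd (e + m)) (u l (Fin.natAdd c k)))
              (MvPolynomial.C π) (X (yi k))]
            ring
      obtain ⟨v0, hv0⟩ := hvar
      refine ⟨N + 1, y0 * v0, ?_⟩
      have := add_mem (Ideal.mul_mem_right (D * X i) _ hy) (Ideal.mul_mem_left _ (ι y0) hv0)
      convert this using 1
      simp only [map_mul, pow_succ]
      ring
  -- the standard smooth model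
  let ab : MvPolynomial (Fin (n + (e + m))) R := ι (g0 * minor0 * s ^ (m + 1))
  let mkE : MvPolynomial (Fin (n + (e + m))) R →ₐ[R] MvPolynomial (Fin (n + (e + m))) R ⧸ KL :=
    Ideal.Quotient.mkₐ R KL
  let E := Localization.Away (mkE ab)
  have hdvd : Smoothing.jacobianMinor L id colsL ∣ ab :=
    ⟨ι (g0 * s), by rw [hminor]; simp only [ab, map_mul, map_pow]; ring⟩
  haveI : Algebra.IsStandardSmooth R E :=
    isStandardSmooth_of_data mkE Ideal.Quotient.mk_surjective L Ideal.mk_ker id colsL hcolsL (mkE ab)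
      (map_dvd mkE hdvd) ab rfl
      (fun y hy => Ideal.mem_sup_left (Ideal.mul_mem_left _ _ (Ideal.Quotient.eq_zero_iff_mem.1 hy))) E
  haveI : Algebra.Smooth R E := inferInstance
  let ev : MvPolynomial (Fin (n + (e + m))) R →ₐ[R] E :=
    (IsScalarTower.toAlgHom R (MvPolynomial (Fin (n + (e + m))) R ⧸ KL) E).comp mkE
  have hevab : IsUnit (ev ab) := IsLocalization.Away.algebraMap_isUnit (mkE ab)
  have hevK : ∀ y ∈ KL, ev y = 0 := fun y hy => by
    show algebraMap (MvPolynomial (Fin (n + (e + m))) R ⧸ KL) E (mkE y) = 0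
    rw [show mkE y = 0 from Ideal.Quotient.eq_zero_iff_mem.2 hy]
    exact map_zero _
  have hfK : ∀ y ∈ Ideal.span (Set.range f), ι y ∈ KL := fun y hy => by
    refine (Ideal.span_le.2 ?_ : Ideal.span (Set.range f) ≤ KL.comap ι) hy
    rintro _ ⟨r, rfl⟩
    exact Ideal.subset_span ⟨Fin.castAdd m (Fin.castAdd e r), by simp [L]⟩
  have hkey : ∀ y, Φ y = 0 → ∃ j : ℕ, ab ^ j * y ∈ KL := by
    intro y hy
    obtain ⟨N, y0, hy0⟩ := helim y
    have h1 : algebraMap A A' (φ y0) = 0 := by
      have h2 : Φ (D ^ N * y - ι y0) = 0 :=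
        (Ideal.span_le.2 (by rintro _ ⟨i, rfl⟩; exact hΦL i) : KL ≤ RingHom.ker Φ.toRingHom) hy0
      rwa [map_sub, map_mul, hy, mul_zero, zero_sub, neg_eq_zero, hΦι] at h2
    obtain ⟨K, hK⟩ := hzero _ h1
    have h3 := hfK _ (hg0 (MvPolynomial.C π ^ K * y0) (by rw [map_mul, map_pow, algHom_C]; exact hK))
    have h4 : MvPolynomial.C π ^ (N + K) * (ι g0 * ι s ^ N * y) ∈ KL := by
      have := add_mem (Ideal.mul_mem_left KL (MvPolynomial.C π ^ K * ι g0) hy0) h3
      convert this using 1
      simp only [D, map_mul, map_pow, ι, rename_C, pow_add]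
      ring
    have h5 := hevK _ h4
    rw [map_mul, map_pow, algHom_C, ← map_pow] at h5
    have h6 := flat_kill (q := (1 : R))
      (fun r hr => by rw [one_mul]; exact (mul_eq_zero.1 hr).resolve_left (pow_ne_zero _ hπ0)) h5
    rw [map_one, one_mul, map_mul, map_mul, map_pow] at h6
    have hu : IsUnit (ev (ι g0) * ev (ι s) ^ N) := by
      have hug : ι g0 ∣ ab := map_dvd ι (Dvd.dvd.mul_right (dvd_mul_right _ _) _)
      have hus : ι s ∣ ab := map_dvd ι (Dvd.dvd.mul_left (dvd_pow_self s (Nat.succ_ne_zero m)) _)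
      exact (isUnit_of_dvd_unit (map_dvd ev hug) hevab).mul
        ((isUnit_of_dvd_unit (map_dvd ev hus) hevab).pow N)
    have h7 : ev y = 0 := hu.mul_right_eq_zero.1 h6
    obtain ⟨⟨_, j, rfl⟩, hj⟩ := (IsLocalization.map_eq_zero_iff (Submonoid.powers (mkE ab)) E _).1 h7
    exact ⟨j, Ideal.Quotient.eq_zero_iff_mem.1 (by rw [map_mul, map_pow]; exact hj)⟩
  obtain ⟨K0, G, hG⟩ := Submodule.fg_iff_exists_fin_generating_family.1
    (IsNoetherian.noetherian (RingHom.ker Φ.toRingHom))
  choose j hj using fun i => hkey (G i) (show G i ∈ RingHom.ker Φ.toRingHom from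
    hG ▸ Submodule.subset_span ⟨i, rfl⟩)
  let F : Fin (c + e + m + K0) → MvPolynomial (Fin (n + (e + m))) R := Fin.append L G
  have hker : RingHom.ker Φ.toRingHom = Ideal.span (Set.range F) := by
    refine le_antisymm ?_ (Ideal.span_le.2 ?_)
    · rw [← hG]
      exact Submodule.span_mono (by rintro _ ⟨i, rfl⟩; exact ⟨Fin.natAdd _ i, Fin.append_right _ _ _⟩)
    · rintro _ ⟨i, rfl⟩
      show Φ (F i) = 0
      induction i using Fin.addCases with
      | left i => simp only [F, Fin.append_left]; exact hΦL i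
      | right i =>
        simp only [F, Fin.append_right]
        exact (show G i ∈ RingHom.ker Φ.toRingHom from hG ▸ Submodule.subset_span ⟨i, rfl⟩)
  have hsurj : Function.Surjective Φ := by
    have hA : ∀ x, algebraMap A A' x ∈ Φ.range := fun x => by
      obtain ⟨y, rfl⟩ := hφ x
      exact ⟨ι y, hΦι y⟩
    have hgen : ∀ (z : Localization.Away a) (hz : z ∈ A'), (⟨z, hz⟩ : A') ∈ Φ.range := by
      intro z hz
      induction hz using Algebra.adjoin_induction with
      | mem z hz =>
        obtain ⟨y, hy, rfl⟩ := hz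
        obtain ⟨y', rfl⟩ := hφ y
        obtain ⟨v, hv⟩ := (Submodule.mem_span_range_iff_exists_fun _).1 (hq y' hy)
        refine ⟨∑ l, ι (v l) * X (zi l), hcancel _ _ ?_⟩
        show algebraMap A A' a * Φ (∑ l, ι (v l) * X (zi l)) = algebraMap A A' a * frac (φ y') hy
        rw [hfrac _ hy, ← hv, map_sum, map_sum, map_sum, Finset.mul_sum]
        refine Finset.sum_congr rfl fun l _ => ?_
        rw [map_mul, hΦι, hΦz, mul_left_comm, hfrac _ (hqp l), smul_eq_mul, map_mul, map_mul]
      | algebraMap x => exact hA x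
      | add x y hx hy hx' hy' => exact add_mem hx' hy'
      | mul x y hx hy hx' hy' => exact mul_mem hx' hy'
    exact fun z => hgen z.1 z.2
  let ab' := ab ^ (∑ i, j i + 1)
  haveI : Algebra.IsStandardSmooth R (Localization.Away (Φ ab')) :=
    isStandardSmooth_of_data Φ hsurj F hker (Fin.castAdd K0) colsL hcolsL (Φ ab')
      (map_dvd Φ (by
        rw [show Smoothing.jacobianMinor F (Fin.castAdd K0) colsL = Smoothing.jacobianMinor L id colsL by
          simp [Smoothing.jacobianMinor, F]]
        exact hdvd.trans (dvd_pow_self ab (Nat.succ_ne_zero _))))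
      ab' rfl
      (fun y hy => Ideal.mem_sup_left (by
        rw [show F ∘ Fin.castAdd K0 = L from funext fun i => Fin.append_left _ _ i]
        have hy' : y ∈ Ideal.span (Set.range G) :=
          (show Ideal.span (Set.range G) = RingHom.ker Φ.toRingHom from hG).symm ▸ hy
        refine Submodule.span_induction ?_ (by simp) (fun a b _ _ ha hb => ?_) (fun p a _ ha => ?_) hy'
        · rintro _ ⟨i, rfl⟩
          have h9 : j i ≤ ∑ i, j i + 1 :=
            (Finset.single_le_sum (fun i _ => Nat.zero_le (j i)) (Finset.mem_univ i)).trans (Nat.le_succ _)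
          simp only [ab']
          rw [← Nat.sub_add_cancel h9, pow_add, mul_assoc]
          exact Ideal.mul_mem_left _ _ (hj i)
        · rw [mul_add]; exact add_mem ha hb
        · rw [smul_eq_mul, mul_left_comm]; exact Ideal.mul_mem_left _ _ ha))
      (Localization.Away (Φ ab'))
  haveI : Algebra.FinitePresentation R A' :=
    Algebra.FinitePresentation.of_surjective hsurj (IsNoetherian.noetherian _)
  haveI : Algebra.Smooth R (Localization.Away (Φ ab')) := inferInstance
  refine isSmoothAt_of_smooth_away (Φ ab') Q' fun hmem => hQ' ?_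
  rw [map_pow] at hmem
  have h1 := Ideal.IsPrime.mem_of_pow_mem ‹_› _ hmem
  rw [hΦι, map_mul φ, map_mul (algebraMap A A'), map_pow, map_pow] at h1
  rw [map_mul φ, map_mul (algebraMap A A')]
  rcases Ideal.IsPrime.mem_or_mem ‹_› h1 with h2 | h2
  · exact Ideal.mul_mem_right _ _ h2
  · exact Ideal.mul_mem_left _ _ (Ideal.IsPrime.mem_of_pow_mem ‹_› _ h2)

theorem isSmoothAt_neronBlowup {R Λ A : Type u} [CommRing R] [IsDomain R]
    [IsDiscreteValuationRing R] [CommRing Λ] [IsLocalRing Λ] [Algebra R Λ]
    [IsLocalHom (algebraMap R Λ)]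
    (hsep : Algebra.IsGeometricallyReduced (IsLocalRing.ResidueField R) (IsLocalRing.ResidueField Λ))
    [CommRing A] [Algebra R A] [Algebra.FiniteType R A] [Algebra A Λ] [IsScalarTower R A Λ]
    (π : R) (hπ : IsLocalRing.maximalIdeal R = Ideal.span {π})
    (hsm : Algebra.IsSmoothAt R ((IsLocalRing.maximalIdeal Λ).comap (algebraMap A Λ)))
    (φ' : BlowUp.affineAlgebra A ((IsLocalRing.maximalIdeal Λ).comap (algebraMap A Λ))
      (algebraMap R A π) →ₐ[A] Λ) :
    Algebra.IsSmoothAt R ((IsLocalRing.maximalIdeal Λ).comap φ'.toRingHom) := by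
  classical
  haveI := hsm
  haveI := hsep
  haveI : Algebra.FinitePresentation R A := Algebra.FinitePresentation.of_finiteType.1 ‹_›
  obtain ⟨n, φ, hφ, hfg⟩ := (inferInstance : Algebra.FinitePresentation R A).out
  obtain ⟨m, f, hf⟩ := Submodule.fg_iff_exists_fin_generating_family.1 hfg
  have hker : RingHom.ker φ.toRingHom = Ideal.span (Set.range f) := hf.symm
  have hf0 : ∀ j, φ (f j) = 0 := fun j =>
    show f j ∈ RingHom.ker φ.toRingHom from hker ▸ Ideal.subset_span ⟨j, rfl⟩
  let p := (IsLocalRing.maximalIdeal Λ).comap (algebraMap A Λ)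
  have hp : p = (IsLocalRing.maximalIdeal Λ).comap (algebraMap A Λ) := rfl
  obtain ⟨g0, c, rows, cols, hnot, hg0⟩ := exists_standard_data f φ hφ hker p
  let Q : Ideal (MvPolynomial (Fin n) R) := p.comap φ
  haveI : Q.IsPrime := Ideal.IsPrime.comap _
  have hπp : algebraMap R A π ∈ p := by
    show algebraMap A Λ (algebraMap R A π) ∈ IsLocalRing.maximalIdeal Λ
    rw [← IsScalarTower.algebraMap_apply, IsLocalRing.mem_maximalIdeal]
    intro hu
    exact (IsLocalRing.mem_maximalIdeal π).1 (hπ ▸ Ideal.mem_span_singleton_self π)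
      (IsUnit.of_map (algebraMap R Λ) π hu)
  have hπQ : MvPolynomial.C π ∈ Q := by rw [Ideal.mem_comap, algHom_C]; exact hπp
  -- the residue field
  let ev : MvPolynomial (Fin n) R →+* IsLocalRing.ResidueField Λ :=
    (IsLocalRing.residue Λ).comp ((algebraMap A Λ).comp φ.toRingHom)
  have hevQ : ∀ y, ev y = 0 ↔ y ∈ Q := fun y => IsLocalRing.residue_eq_zero_iff _
  let ev' : MvPolynomial (Fin n) R ⧸ Q →+* IsLocalRing.ResidueField Λ :=
    Ideal.Quotient.lift Q ev fun y hy => (hevQ y).2 hy
  have hev' : Function.Injective ev' := by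
    refine (injective_iff_map_eq_zero _).2 fun y hy => ?_
    obtain ⟨y, rfl⟩ := Ideal.Quotient.mk_surjective y
    exact Ideal.Quotient.eq_zero_iff_mem.2 ((hevQ y).1 hy)
  let j : Q.ResidueField →+* IsLocalRing.ResidueField Λ := IsFractionRing.lift hev'
  have hj : ∀ r : R, j (algebraMap R Q.ResidueField r) = IsLocalRing.residue Λ (algebraMap R Λ r) := by
    intro r
    rw [IsScalarTower.algebraMap_apply R (MvPolynomial (Fin n) R) Q.ResidueField,
      IsScalarTower.algebraMap_apply (MvPolynomial (Fin n) R) (MvPolynomial (Fin n) R ⧸ Q) Q.ResidueField]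
    refine (IsFractionRing.lift_algebraMap hev' _).trans ?_
    show IsLocalRing.residue Λ (algebraMap A Λ (φ (MvPolynomial.C r))) = _
    rw [algHom_C, ← IsScalarTower.algebraMap_apply]
  let kR := IsLocalRing.ResidueField R
  have hkR : Function.Surjective (algebraMap R kR) := IsLocalRing.residue_surjective
  have hkRker : RingHom.ker (algebraMap R kR) = Ideal.span {π} := IsLocalRing.ker_residue.trans hπ
  have hle : RingHom.ker (algebraMap R kR) ≤ RingHom.ker (algebraMap R Q.ResidueField) := fun r hr => by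
    rw [hkRker] at hr
    obtain ⟨r', rfl⟩ := Ideal.mem_span_singleton'.1 hr
    show algebraMap R Q.ResidueField (r' * π) = 0
    rw [IsScalarTower.algebraMap_apply R (MvPolynomial (Fin n) R) Q.ResidueField,
      Ideal.algebraMap_residueField_eq_zero, map_mul]
    exact Ideal.mul_mem_left _ _ hπQ
  letI : Algebra kR Q.ResidueField :=
    ((algebraMap R kR).liftOfSurjective hkR ⟨algebraMap R Q.ResidueField, hle⟩).toAlgebra
  haveI : IsScalarTower R kR Q.ResidueField := IsScalarTower.of_algebraMap_eq fun r =>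
    ((algebraMap R kR).liftOfSurjective_comp_apply hkR ⟨algebraMap R Q.ResidueField, hle⟩ r).symm
  let jA : Q.ResidueField →ₐ[kR] IsLocalRing.ResidueField Λ :=
    { j with
      commutes' := fun r => by
        obtain ⟨r, rfl⟩ := hkR r
        show j (algebraMap kR Q.ResidueField (algebraMap R kR r)) = _
        rw [← IsScalarTower.algebraMap_apply, hj]
        rfl }
  haveI : Algebra.IsGeometricallyReduced kR Q.ResidueField :=
    Algebra.IsGeometricallyReduced.of_injective jA j.injective
  haveI : Algebra.FormallySmooth kR Q.ResidueField :=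
    Sep12.formallySmooth_iff_isGeometricallyReduced.2 inferInstance
  -- generators of the centre
  have hfQ : ∀ r, (f ∘ rows) r ∈ Q := fun r => by
    rw [Ideal.mem_comap, Function.comp_apply, hf0]
    exact zero_mem _
  have hminor : (Matrix.of fun r s : Fin c => pderiv (cols s) ((f ∘ rows) r)).det ∉ Q := fun h =>
    hnot (p.mul_mem_left _ h)
  obtain ⟨e, h, cols', s, hh, hs, hdet, hJ⟩ :=
    exists_centre_generators hkR hkRker Q hπQ (f ∘ rows) hfQ cols hminor
  obtain ⟨M, q, hq⟩ := Submodule.fg_iff_exists_fin_generating_family.1 (IsNoetherian.noetherian Q)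
  have hqQ : ∀ l, q l ∈ Q := fun l => hq ▸ Submodule.subset_span ⟨l, rfl⟩
  have hπ0 : π ≠ 0 := by
    rintro rfl
    exact IsDiscreteValuationRing.not_a_field R (hπ.trans (Ideal.span_singleton_eq_bot.2 rfl))
  haveI : ((IsLocalRing.maximalIdeal Λ).comap φ'.toRingHom).IsPrime := Ideal.IsPrime.comap _
  refine isSmoothAt_blowup π hπ0 φ hφ (f ∘ rows) (fun r => hf0 _) g0 hg0 p hπp h hh cols' q
    (fun y hy => (show Ideal.span (Set.range q) = Q from hq).symm ▸ hy) hqQ s (fun l => hJ _ (hqQ l)) _ ?_
  intro hmem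
  rw [Ideal.mem_comap] at hmem
  have h1 : φ (g0 * (Matrix.of fun r k : Fin (c + e) => pderiv (cols' k) (Fin.append (f ∘ rows) h r)).det * s) ∈ p := by
    rw [hp, Ideal.mem_comap, ← φ'.commutes]
    exact hmem
  haveI : p.IsPrime := Ideal.IsPrime.comap _
  rw [map_mul, map_mul] at h1
  rcases Ideal.IsPrime.mem_or_mem ‹_› h1 with h2 | h2
  · rcases Ideal.IsPrime.mem_or_mem ‹_› h2 with h3 | h3
    · exact hnot (p.mul_mem_right _ h3)
    · exact hdet h3
  · exact hs h2

end Groth.Agent.Smooth28
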