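import Groth.Agent.Smooth28.Taylor
import Groth.Agent.Smooth28.Det
import Groth.Agent.Sep12.Basic
import Mathlib.RingTheory.LocalRing.ResidueField.Ideal
import Mathlib.RingTheory.Smooth.Basic
import Mathlib.LinearAlgebra.Dimension.Constructions

/-!
The conormal map at a prime with separable residue field extension.
-/

namespace Groth.Agent.Smooth28

open MvPolynomial

universe u

/-- A square zero thickening of a formally smooth field extension kills polynomials vanishing to
second order. -/
theorem mk_eq_zero_of_pderiv {R k κ S : Type u} [CommRing R] [Field k] [Algebra R k]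
    (hk : Function.Surjective (algebraMap R k)) [CommRing κ] [Algebra R κ] [Algebra k κ]
    [IsScalarTower R k κ] [Algebra.FormallySmooth k κ] [CommRing S] [Algebra R S]
    (hS : RingHom.ker (algebraMap R k) ≤ RingHom.ker (algebraMap R S))
    (p : S →ₐ[R] κ) (hp : Function.Surjective p) (hsq : ∀ a b, p a = 0 → p b = 0 → a * b = 0)
    {n : ℕ} (mk : MvPolynomial (Fin n) R →ₐ[R] S) (y : MvPolynomial (Fin n) R)
    (hy : p (mk y) = 0) (hd : ∀ i, p (mk (pderiv i y)) = 0) : mk y = 0 := by
  classical
  letI : Algebra k S :=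
    ((algebraMap R k).liftOfSurjective hk ⟨algebraMap R S, hS⟩).toAlgebra
  haveI : IsScalarTower R k S := IsScalarTower.of_algebraMap_eq fun x =>
    ((algebraMap R k).liftOfSurjective_comp_apply hk ⟨algebraMap R S, hS⟩ x).symm
  let pk : S →ₐ[k] κ :=
    { p.toRingHom with
      commutes' := fun x => by
        obtain ⟨x, rfl⟩ := hk x
        show p (algebraMap k S (algebraMap R k x)) = algebraMap k κ (algebraMap R k x)
        rw [← IsScalarTower.algebraMap_apply, ← IsScalarTower.algebraMap_apply, AlgHom.commutes] }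
  have hnil : IsNilpotent (RingHom.ker (pk : S →+* κ)) := by
    refine ⟨2, le_bot_iff.1 ?_⟩
    rw [pow_two, Ideal.mul_le]
    exact fun a ha b hb => (Ideal.mem_bot).2 (hsq a b ha hb)
  let σ : κ →ₐ[k] S := Algebra.FormallySmooth.liftOfSurjective (AlgHom.id k κ) pk hp hnil
  have hσ : ∀ z, p (σ z) = z := fun z =>
    Algebra.FormallySmooth.liftOfSurjective_apply (AlgHom.id k κ) pk hp hnil z
  let σR : κ →ₐ[R] S := σ.restrictScalars R
  let ρ : MvPolynomial (Fin n) R →ₐ[R] κ := p.comp mk
  let z0 : Fin n → S := fun i => σR (ρ (X i))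
  let dd : Fin n → S := fun i => mk (X i) - z0 i
  have hdd : ∀ i, p (dd i) = 0 := fun i => by
    rw [map_sub, show p (z0 i) = ρ (X i) from hσ _, sub_eq_zero]
    rfl
  have hz0 : ∀ q, aeval z0 q = σR (ρ q) := fun q => by
    have h : aeval z0 = σR.comp ρ := MvPolynomial.algHom_ext fun i => by simp [z0]
    exact AlgHom.congr_fun h q
  have h : mk = aeval fun i => z0 i + dd i := MvPolynomial.algHom_ext fun i => by simp [dd]
  have h' := aeval_add_of_mul_eq_zero z0 dd (fun i j => hsq _ _ (hdd i) (hdd j)) y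
  rw [← h, hz0, show ρ y = 0 from hy, map_zero, zero_add] at h'
  rw [h']
  exact Finset.sum_eq_zero fun i _ => by
    rw [hz0, show ρ (pderiv i y) = 0 from hd i, map_zero, zero_mul]

theorem mem_of_pderiv {R k κ L : Type u} [CommRing R] [Field k] [Algebra R k]
    (hk : Function.Surjective (algebraMap R k)) [CommRing κ] [Algebra R κ] [Algebra k κ]
    [IsScalarTower R k κ] [Algebra.FormallySmooth k κ] [CommRing L] [Algebra R L] (I : Ideal L)
    (r : L →ₐ[R] κ) (hr : Function.Surjective r) (hI : I ≤ RingHom.ker r.toRingHom)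
    (h2 : RingHom.ker r.toRingHom ^ 2 ≤ I) (hS : RingHom.ker (algebraMap R k) ≤ I.comap (algebraMap R L))
    {n : ℕ} (g : MvPolynomial (Fin n) R →ₐ[R] L) (y : MvPolynomial (Fin n) R)
    (hy : r (g y) = 0) (hd : ∀ i, r (g (pderiv i y)) = 0) : g y ∈ I := by
  let p : L ⧸ I →ₐ[R] κ := Ideal.Quotient.liftₐ I r fun x hx => hI hx
  have hpm : ∀ z, p (Ideal.Quotient.mk I z) = r z := fun z => rfl
  refine Ideal.Quotient.eq_zero_iff_mem.1
    (mk_eq_zero_of_pderiv hk ?_ p (fun z => ?_) ?_ ((Ideal.Quotient.mkₐ R I).comp g) y hy hd)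
  · intro x hx
    show algebraMap R (L ⧸ I) x = 0
    rw [IsScalarTower.algebraMap_apply R L (L ⧸ I)]
    exact Ideal.Quotient.eq_zero_iff_mem.2 (hS hx)
  · obtain ⟨z', rfl⟩ := hr z
    exact ⟨Ideal.Quotient.mk I z', hpm z'⟩
  · intro a b ha hb
    obtain ⟨a, rfl⟩ := Ideal.Quotient.mk_surjective a
    obtain ⟨b, rfl⟩ := Ideal.Quotient.mk_surjective b
    rw [hpm] at ha hb
    rw [← map_mul, Ideal.Quotient.eq_zero_iff_mem]
    exact h2 (pow_two (RingHom.ker r.toRingHom) ▸ Ideal.mul_mem_mul ha hb)

/-- If the residue field at `Q` is formally smooth over `R/π`, an element of `Q` all of whose partial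
derivatives lie in `Q` lies, near `Q`, in `Q² + (π)`. -/
theorem exists_mul_mem_sq_of_pderiv_mem {R k : Type u} [CommRing R] [Field k] [Algebra R k] {π : R}
    (hk : Function.Surjective (algebraMap R k)) (hkπ : RingHom.ker (algebraMap R k) = Ideal.span {π})
    {n : ℕ} (Q : Ideal (MvPolynomial (Fin n) R)) [Q.IsPrime] (hπQ : MvPolynomial.C π ∈ Q)
    [Algebra k Q.ResidueField] [IsScalarTower R k Q.ResidueField]
    [Algebra.FormallySmooth k Q.ResidueField] {y : MvPolynomial (Fin n) R} (hy : y ∈ Q)
    (hd : ∀ i, pderiv i y ∈ Q) : ∃ s ∉ Q, s * y ∈ Q ^ 2 ⊔ Ideal.span {MvPolynomial.C π} := by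
  classical
  let PQ := Localization.AtPrime Q
  let I : Ideal PQ :=
    (Q ^ 2 ⊔ Ideal.span {MvPolynomial.C π}).map (algebraMap (MvPolynomial (Fin n) R) PQ)
  have hIle : I ≤ IsLocalRing.maximalIdeal PQ := by
    rw [← IsLocalization.AtPrime.map_eq_maximalIdeal Q PQ]
    exact Ideal.map_mono
      (sup_le (Ideal.pow_le_self (by norm_num)) ((Ideal.span_singleton_le_iff_mem _).2 hπQ))
  let r : PQ →ₐ[R] Q.ResidueField := IsScalarTower.toAlgHom R PQ Q.ResidueField
  have hker : RingHom.ker r.toRingHom = IsLocalRing.maximalIdeal PQ := IsLocalRing.ker_residue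
  have hS : RingHom.ker (algebraMap R k) ≤ I.comap (algebraMap R PQ) := fun x hx => by
    rw [hkπ] at hx
    obtain ⟨x', rfl⟩ := Ideal.mem_span_singleton'.1 hx
    rw [Ideal.mem_comap, IsScalarTower.algebraMap_apply R (MvPolynomial (Fin n) R) PQ]
    refine Ideal.mem_map_of_mem _ (Ideal.mem_sup_right ?_)
    exact Ideal.mem_span_singleton'.2 ⟨MvPolynomial.C x', (map_mul _ _ _).symm⟩
  have h2 : RingHom.ker r.toRingHom ^ 2 ≤ I := by
    rw [hker, ← IsLocalization.AtPrime.map_eq_maximalIdeal Q PQ, ← Ideal.map_pow]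
    exact Ideal.map_mono le_sup_left
  have hmem : (IsScalarTower.toAlgHom R (MvPolynomial (Fin n) R) PQ) y ∈ I :=
    mem_of_pderiv hk I r IsLocalRing.residue_surjective (hker.symm ▸ hIle) h2 hS _ y
      (Ideal.algebraMap_residueField_eq_zero.2 hy)
      fun i => Ideal.algebraMap_residueField_eq_zero.2 (hd i)
  obtain ⟨s, hs, hsy⟩ := (IsLocalization.algebraMap_mem_map_algebraMap_iff Q.primeCompl PQ _ y).1
    hmem
  exact ⟨s, hs, hsy⟩

/-- Independent rows have a nonvanishing maximal minor. -/
theorem exists_cols_of_linearIndependent {K : Type u} [Field K] {c n : ℕ} (row : Fin c → Fin n → K)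
    (hli : LinearIndependent K row) :
    ∃ cols : Fin c ↪ Fin n, (Matrix.of fun r s : Fin c => row r (cols s)).det ≠ 0 := by
  classical
  let M : Matrix (Fin c) (Fin n) K := Matrix.of row
  obtain ⟨G, hG⟩ := (Fintype.linearCombination K row).exists_leftInverse_of_injective
    (LinearMap.ker_eq_bot.2 (linearIndependent_iff_injective_fintypeLinearCombination.1 hli))
  let N : Matrix (Fin n) (Fin c) K := Matrix.of fun i r => G (Pi.single i 1) r
  have hMN : M * N = 1 := by
    ext r r'
    have h1 : G (row r) = Pi.single r (1 : K) := by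
      have := LinearMap.congr_fun hG (Pi.single r (1 : K))
      simpa [Fintype.linearCombination_apply_single] using this
    rw [pi_eq_sum_univ' (row r), map_sum] at h1
    have h2 := congrFun h1 r'
    simp only [Finset.sum_apply, map_smul, Pi.smul_apply, smul_eq_mul] at h2
    simp only [Matrix.mul_apply, M, N, Matrix.of_apply]
    rw [h2, Matrix.one_apply, Pi.single_apply]
    simp [eq_comm]
  obtain ⟨cols, hcols⟩ : ∃ cols, (M.submatrix id cols).det ≠ 0 := by
    by_contra hc
    simp only [not_exists, not_not] at hc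
    have := det_mul_mem_span_minors M N
    rw [hMN, Matrix.det_one] at this
    have hbot : Ideal.span (Set.range fun cols => (M.submatrix id cols).det) = ⊥ := by
      rw [Ideal.span_eq_bot]; rintro _ ⟨c, rfl⟩; exact hc c
    rw [hbot] at this
    exact one_ne_zero this
  have hinj : Function.Injective cols := by
    intro i j hij
    by_contra hne
    exact hcols (Matrix.det_zero_of_column_eq hne fun r => by simp [hij])
  exact ⟨⟨cols, hinj⟩, hcols⟩

/-- Extend independent rows to rows spanning a larger family, with a nonvanishing minor. -/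
theorem exists_extend_rows {K : Type u} [Field K] {c M n : ℕ} (v : Fin c → Fin n → K)
    (hv : LinearIndependent K v) (row : Fin M → Fin n → K) :
    ∃ (e : ℕ) (sel : Fin e → Fin M) (cols : Fin (c + e) ↪ Fin n),
      (Matrix.of fun r s : Fin (c + e) => Fin.append v (row ∘ sel) r (cols s)).det ≠ 0 ∧
      ∀ l, row l ∈ Submodule.span K (Set.range (Fin.append v (row ∘ sel))) := by
  classical
  let V := Submodule.span K (Set.range v)
  obtain ⟨ι, emb, hemb, hspan, hli⟩ := exists_linearIndependent' K (V.mkQ ∘ row)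
  haveI : Finite ι := Finite.of_injective emb hemb
  let e := (Finite.equivFin ι).symm
  let sel : Fin (Nat.card ι) → Fin M := fun r => emb (e r)
  have hv' : LinearIndependent K fun i => (⟨v i, Submodule.subset_span ⟨i, rfl⟩⟩ : V) :=
    LinearIndependent.of_comp V.subtype hv
  have hsum := hv'.sumElim_of_quotient (row ∘ sel) (hli.comp e e.injective)
  have happ : Fin.append v (row ∘ sel) = Sum.elim v (row ∘ sel) ∘ finSumFinEquiv.symm := by
    funext i
    induction i using Fin.addCases <;> simp
  obtain ⟨cols, hcols⟩ := exists_cols_of_linearIndependent (Fin.append v (row ∘ sel)) (by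
    rw [happ]; exact hsum.comp _ finSumFinEquiv.symm.injective)
  refine ⟨Nat.card ι, sel, cols, hcols, fun l => ?_⟩
  have h1 : V.mkQ (row l) ∈ Submodule.span K (Set.range ((V.mkQ ∘ row) ∘ emb)) := by
    rw [hspan]; exact Submodule.subset_span ⟨l, rfl⟩
  rw [show (V.mkQ ∘ row) ∘ emb = V.mkQ ∘ (row ∘ emb) from rfl, Set.range_comp,
    ← Submodule.map_span] at h1
  obtain ⟨w, hw, hwl⟩ := h1
  have hwV : row l - w ∈ V := by
    rw [← Submodule.Quotient.mk_eq_zero]
    show V.mkQ (row l - w) = 0
    rw [map_sub, hwl, sub_self]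
  have hsub1 : V ≤ Submodule.span K (Set.range (Fin.append v (row ∘ sel))) :=
    Submodule.span_mono (by rintro _ ⟨i, rfl⟩; exact ⟨Fin.castAdd _ i, Fin.append_left _ _ _⟩)
  have hsub2 : Submodule.span K (Set.range (row ∘ emb)) ≤
      Submodule.span K (Set.range (Fin.append v (row ∘ sel))) :=
    Submodule.span_mono (by
      rintro _ ⟨i, rfl⟩
      exact ⟨Fin.natAdd _ (e.symm i), by simp [sel]⟩)
  simpa using add_mem (hsub1 hwV) (hsub2 hw)

end Groth.Agent.Smooth28
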