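import Groth.Prelude
import Groth.Agent.Hensel20.SmoothLift
import Groth.Agent.EtAlg23.HenselBasic
import Mathlib.RingTheory.Unramified.LocalStructure

/-!
# Approximating a solution in a complete local algebra by a solution in an étale algebra

If `Λ` is ind-smooth over `R`, `Λ` is henselian along an ideal `M` and `R` is dense in `Λ` for the `M`-adic
topology up to denominators, then a solution in `Λ` of a polynomial system over `R` is `M`-adically
approximated by solutions in étale `R`-algebras.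
-/

set_option autoImplicit false
universe u

open MvPolynomial

namespace Groth.Agent.Smooth28

/-- An étale neighbourhood cut out of a smooth algebra, with a point agreeing to a given order. -/
theorem exists_etale_point_of_smooth {R Λ : Type u} [CommRing R] [CommRing Λ] [Algebra R Λ]
    (M : Ideal Λ) [M.IsPrime] (hunit : ∀ x : Λ, x ∉ M → IsUnit x) {k : ℕ} (hk : 0 < k)
    [HenselianRing Λ (M ^ k)]
    (happ : ∀ x : Λ, ∃ r s : R, algebraMap R Λ s ∉ M ∧ algebraMap R Λ s * x - algebraMap R Λ r ∈ M ^ k)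
    (B : Type u) [CommRing B] [Algebra R B] [Algebra.Smooth R B] (h : B →ₐ[R] Λ) :
    ∃ (R' : Type u) (_ : CommRing R') (_ : Algebra R R'), Algebra.Etale R R' ∧
      ∃ (g : B →ₐ[R] R') (ψ : R' →ₐ[R] Λ), ∀ b, h b - ψ (g b) ∈ M ^ k := by
  classical
  let q : Ideal B := M.comap h
  haveI : Algebra.IsSmoothAt R q := by
    haveI : Algebra.FormallySmooth B (Localization.AtPrime q) :=
      Algebra.FormallySmooth.of_isLocalization q.primeCompl
    exact Algebra.FormallySmooth.comp R B (Localization.AtPrime q)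
  obtain ⟨f, hf, n, algP, hT, hse⟩ := Algebra.IsSmoothAt.exists_isStandardEtale_mvPolynomial (R := R) (p := q)
  let P := MvPolynomial (Fin n) R
  let Bf := Localization.Away f
  haveI : Algebra.Etale P Bf := inferInstance
  have hfu : IsUnit (h f) := hunit _ hf
  let hB : Bf →ₐ[R] Λ := IsLocalization.liftAlgHom (M := Submonoid.powers f) (f := h) (by
    rintro ⟨_, m, rfl⟩; rw [map_pow]; exact hfu.pow m)
  choose r s hs hrs using fun i : Fin n => happ (hB (algebraMap P Bf (X i)))
  let σ : R := ∏ i, s i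
  have hσ : algebraMap R Λ σ ∉ M := by
    rw [map_prod]
    exact fun hmem => by
      obtain ⟨i, -, hi⟩ := Ideal.IsPrime.prod_mem_iff.1 hmem
      exact hs i hi
  let Rσ := Localization.Away σ
  have hsu : ∀ i, IsUnit (algebraMap R Rσ (s i)) := fun i =>
    isUnit_of_dvd_unit (map_dvd _ (Finset.dvd_prod_of_mem s (Finset.mem_univ i)))
      (IsLocalization.Away.algebraMap_isUnit (S := Rσ) σ)
  let pt : Fin n → Rσ := fun i => algebraMap R Rσ (r i) * ↑(hsu i).unit⁻¹
  letI algPσ : Algebra P Rσ := (aeval (R := R) pt).toRingHom.toAlgebra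
  haveI : IsScalarTower R P Rσ := IsScalarTower.of_algebraMap_eq fun x =>
    ((aeval (R := R) pt).commutes x).symm
  let R' := TensorProduct P Rσ Bf
  haveI : Algebra.Etale R Rσ := Algebra.Etale.of_isLocalizationAway σ
  haveI : Algebra.Etale Rσ R' := inferInstance
  haveI : IsScalarTower R Rσ R' := inferInstance
  have het : Algebra.Etale R R' := Algebra.Etale.comp R Rσ R'
  -- the point modulo `M ^ k`
  let hσ' : Rσ →ₐ[R] Λ := IsLocalization.liftAlgHom (M := Submonoid.powers σ) (f := Algebra.ofId R Λ) (by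
    rintro ⟨_, m, rfl⟩; rw [map_pow]; exact (hunit _ hσ).pow m)
  let π : Λ →ₐ[R] Λ ⧸ M ^ k := Ideal.Quotient.mkₐ R _
  letI algPQ : Algebra P (Λ ⧸ M ^ k) := ((π.comp hB).toRingHom.comp (algebraMap P Bf)).toAlgebra
  have hagree : (π.comp hσ').comp (IsScalarTower.toAlgHom R P Rσ) =
      (π.comp hB).comp (IsScalarTower.toAlgHom R P Bf) := by
    refine MvPolynomial.algHom_ext fun i => ?_
    show π (hσ' (aeval pt (X i))) = π (hB (algebraMap P Bf (X i)))
    rw [aeval_X]
    have hu : IsUnit (π (algebraMap R Λ (s i))) := (hunit _ (hs i)).map π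
    refine hu.mul_left_cancel ?_
    rw [← map_mul π, ← map_mul π]
    have h1 : π (algebraMap R Λ (s i) * hB (algebraMap P Bf (X i))) = π (algebraMap R Λ (r i)) :=
      Ideal.Quotient.eq.2 (hrs i)
    refine Eq.trans ?_ h1.symm
    congr 1
    rw [← hσ'.commutes, ← hσ'.commutes, ← map_mul]
    congr 1
    show algebraMap R Rσ (s i) * (algebraMap R Rσ (r i) * _) = _
    rw [mul_left_comm, IsUnit.mul_val_inv, mul_one]
  let u₁ : Rσ →ₐ[P] Λ ⧸ M ^ k :=
    { toRingHom := (π.comp hσ').toRingHom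
      commutes' := fun p => DFunLike.congr_fun hagree p }
  let u₂ : Bf →ₐ[P] Λ ⧸ M ^ k :=
    { toRingHom := (π.comp hB).toRingHom
      commutes' := fun p => rfl }
  let u : R' →ₐ[P] Λ ⧸ M ^ k := Algebra.TensorProduct.lift u₁ u₂ fun _ _ => Commute.all _ _
  let uR : R' →ₐ[R] Λ ⧸ M ^ k :=
    { toRingHom := u.toRingHom
      commutes' := fun x => by
        show u (algebraMap R R' x) = _
        rw [IsScalarTower.algebraMap_apply R Rσ R']
        refine (Algebra.TensorProduct.lift_tmul _ _ _ _ _).trans ?_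
        rw [map_one, mul_one]
        exact (π.comp hσ').commutes x }
  haveI := het
  obtain ⟨ψ, hψ⟩ := Hensel20.exists_algHom_lift_of_smooth R' (M ^ k) uR
  let inR : Bf →ₐ[R] R' :=
    (Algebra.TensorProduct.includeRight (R := P) (A := Rσ) (B := Bf)).restrictScalars R
  refine ⟨R', inferInstance, inferInstance, het, inR.comp (IsScalarTower.toAlgHom R B Bf), ψ, fun b => ?_⟩
  rw [← Ideal.Quotient.eq]
  have h1 := DFunLike.congr_fun hψ ((1 : Rσ) ⊗ₜ[P] algebraMap B Bf b)
  refine Eq.trans ?_ h1.symm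
  show π (h b) = u ((1 : Rσ) ⊗ₜ[P] algebraMap B Bf b)
  refine ((Algebra.TensorProduct.lift_tmul _ _ _ _ _).trans ?_).symm
  rw [map_one, one_mul]
  show π (hB (algebraMap B Bf b)) = π (h b)
  congr 1
  exact IsLocalization.lift_eq _ b

/-- Approximation by étale algebras from ind-smoothness. -/
theorem exists_etale_solution_of_indSmooth {R Λ : Type u} [CommRing R] [CommRing Λ] [Algebra R Λ]
    (hPT : Smoothing.IndSmooth R Λ) (M : Ideal Λ) [M.IsPrime] (hunit : ∀ x : Λ, x ∉ M → IsUnit x)
    (N : ℕ) [HenselianRing Λ (M ^ (N + 1))]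
    (happ : ∀ x : Λ, ∃ r s : R,
      algebraMap R Λ s ∉ M ∧ algebraMap R Λ s * x - algebraMap R Λ r ∈ M ^ (N + 1))
    {n m : ℕ} (F : Fin m → MvPolynomial (Fin n) R) (a : Fin n → Λ) (ha : ∀ j, aeval a (F j) = 0) :
    ∃ (R' : Type u) (_ : CommRing R') (_ : Algebra R R'), Algebra.Etale R R' ∧
      ∃ ψ : R' →ₐ[R] Λ,
        (∀ x : R', ∃ r s : R, algebraMap R Λ s ∉ M ∧
          algebraMap R R' s * x - algebraMap R R' r ∈ M.comap ψ) ∧
        ∃ b : Fin n → R', (∀ j, aeval b (F j) = 0) ∧ ∀ i, a i - ψ (b i) ∈ M ^ N := by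
  let J : Ideal (MvPolynomial (Fin n) R) := Ideal.span (Set.range F)
  haveI : Algebra.FinitePresentation R (MvPolynomial (Fin n) R ⧸ J) :=
    Algebra.FinitePresentation.quotient (Submodule.fg_span (Set.finite_range F))
  let φ : (MvPolynomial (Fin n) R ⧸ J) →ₐ[R] Λ :=
    Ideal.Quotient.liftₐ J (aeval a) fun x hx =>
      (Ideal.span_le (I := RingHom.ker (aeval (R := R) a))).2 (by
        rintro _ ⟨j, rfl⟩; exact (RingHom.mem_ker).2 (ha j)) hx
  obtain ⟨B, _, _, hB, g, h, hhg⟩ := hPT _ inferInstance φ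
  obtain ⟨R', _, _, het, gB, ψ, hψ⟩ := exists_etale_point_of_smooth M hunit (Nat.succ_pos N) happ B h
  let θ : MvPolynomial (Fin n) R →ₐ[R] R' := gB.comp (g.comp (Ideal.Quotient.mkₐ R J))
  refine ⟨R', inferInstance, inferInstance, het, ψ, fun x => ?_, fun i => θ (X i), fun j => ?_, fun i => ?_⟩
  · obtain ⟨r, s, hs, hrs⟩ := happ (ψ x)
    refine ⟨r, s, hs, ?_⟩
    rw [Ideal.mem_comap, map_sub, map_mul, ψ.commutes, ψ.commutes]
    exact Ideal.pow_le_self (Nat.succ_ne_zero N) hrs
  · rw [show (aeval (R := R) fun i => θ (X i)) = θ from (aeval_unique θ).symm]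
    show gB (g (Ideal.Quotient.mk J (F j))) = 0
    rw [(Ideal.Quotient.eq_zero_iff_mem.2 (Ideal.subset_span ⟨j, rfl⟩) : Ideal.Quotient.mk J (F j) = 0),
      map_zero, map_zero]
  · have hx : h (g (Ideal.Quotient.mk J (X i))) = a i := by
      refine (DFunLike.congr_fun hhg _).trans ?_
      exact aeval_X _ _
    have := hψ (g (Ideal.Quotient.mk J (X i)))
    rw [hx] at this
    exact Ideal.pow_le_pow_right (Nat.le_succ N) this

end Groth.Agent.Smooth28
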