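import Groth.Agent.Smooth28.EtaleApprox
import Groth.Agent.CAlg5.AdicFS
import Groth.Agent.EtAlg23.HenselBasic
import Mathlib.RingTheory.AdicCompletion.LocalRing
import Mathlib.RingTheory.Henselian

/-! The completion of a localization as a target of étale approximation. -/

set_option autoImplicit false
universe u

open IsLocalRing

namespace Groth.Agent.Smooth28

theorem exists_approx_adicCompletion (A : Type u) [CommRing A] [IsLocalRing A] [IsNoetherianRing A]
    (x : AdicCompletion (maximalIdeal A) A) (k : ℕ) :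
    ∃ y : A, x - algebraMap A (AdicCompletion (maximalIdeal A) A) y ∈
      (maximalIdeal A).map (algebraMap A (AdicCompletion (maximalIdeal A) A)) ^ k := by
  obtain ⟨y, hy⟩ := Ideal.Quotient.mk_surjective (AdicCompletion.evalₐ (maximalIdeal A) k x)
  refine ⟨y, (CAlg5.evalₐ_eq_zero_iff _ (IsNoetherian.noetherian _) k _).1 ?_⟩
  rw [map_sub, AlgHom.commutes, Ideal.Quotient.algebraMap_eq, hy, sub_self]

theorem henselianRing_pow_adicCompletion (A : Type u) [CommRing A] [IsLocalRing A] [IsNoetherianRing A]
    (k : ℕ) : HenselianRing (AdicCompletion (maximalIdeal A) A)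
      (maximalIdeal (AdicCompletion (maximalIdeal A) A) ^ (k + 1)) :=
  EtAlg23.henselianRing_of_le (I := maximalIdeal (AdicCompletion (maximalIdeal A) A))
    inferInstance (Ideal.pow_le_self (Nat.succ_ne_zero k))

/-- Approximation by étale algebras in the completion of a Noetherian local localization. -/
theorem exists_etale_solution_completion (R A : Type u) [CommRing R] [CommRing A] [IsLocalRing A]
    [IsNoetherianRing A] [Algebra R A] (S : Submonoid R) [IsLocalization S A]
    (hPT : Smoothing.IndSmooth R (AdicCompletion (maximalIdeal A) A)) {n m : ℕ}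
    (F : Fin m → MvPolynomial (Fin n) R) (a : Fin n → AdicCompletion (maximalIdeal A) A)
    (ha : ∀ j, MvPolynomial.aeval a (F j) = 0) (N : ℕ) :
    ∃ (R' : Type u) (_ : CommRing R') (_ : Algebra R R'), Algebra.Etale R R' ∧
      ∃ (ψ : R' →ₐ[R] AdicCompletion (maximalIdeal A) A) (p' : Ideal R'), p'.IsPrime ∧
        p'.comap (algebraMap R R') = (maximalIdeal A).comap (algebraMap R A) ∧
        (∀ x : R', ∃ r s : R, s ∉ (maximalIdeal A).comap (algebraMap R A) ∧
          algebraMap R R' s * x - algebraMap R R' r ∈ p') ∧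
        (∀ x ∈ p', ψ x ∈ (maximalIdeal A).map (algebraMap A (AdicCompletion (maximalIdeal A) A))) ∧
        ∃ b : Fin n → R', (∀ j, MvPolynomial.aeval b (F j) = 0) ∧
          ∀ i, a i - ψ (b i) ∈
            (maximalIdeal A ^ N).map (algebraMap A (AdicCompletion (maximalIdeal A) A)) := by
  have hM : maximalIdeal (AdicCompletion (maximalIdeal A) A) = (maximalIdeal A).map (algebraMap A (AdicCompletion (maximalIdeal A) A)) := AdicCompletion.maximalIdeal_eq_map
  have hcomap : (maximalIdeal (AdicCompletion (maximalIdeal A) A)).comap (algebraMap A (AdicCompletion (maximalIdeal A) A)) = maximalIdeal A := by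
    refine ((maximalIdeal.isMaximal A).eq_of_le (Ideal.comap_ne_top _ (maximalIdeal.isMaximal (AdicCompletion (maximalIdeal A) A)).ne_top) ?_).symm
    rw [← Ideal.map_le_iff_le_comap, hM]
  have hcomapR : ∀ r : R, algebraMap R (AdicCompletion (maximalIdeal A) A) r ∈ maximalIdeal (AdicCompletion (maximalIdeal A) A) ↔ r ∈ (maximalIdeal A).comap (algebraMap R A) := by
    intro r
    rw [IsScalarTower.algebraMap_apply R A (AdicCompletion (maximalIdeal A) A), ← Ideal.mem_comap, hcomap, Ideal.mem_comap]
  have happ : ∀ x : (AdicCompletion (maximalIdeal A) A), ∃ r s : R, algebraMap R (AdicCompletion (maximalIdeal A) A) s ∉ maximalIdeal (AdicCompletion (maximalIdeal A) A) ∧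
      algebraMap R (AdicCompletion (maximalIdeal A) A) s * x - algebraMap R (AdicCompletion (maximalIdeal A) A) r ∈ maximalIdeal (AdicCompletion (maximalIdeal A) A) ^ (N + 1) := by
    intro x
    obtain ⟨y, hy⟩ := exists_approx_adicCompletion A x (N + 1)
    obtain ⟨⟨r, s⟩, hrs⟩ := IsLocalization.surj S y
    refine ⟨r, s, fun h => ?_, ?_⟩
    · exact (IsLocalRing.notMem_maximalIdeal.2 (IsLocalization.map_units A s)) ((hcomapR _).1 h)
    · rw [IsScalarTower.algebraMap_apply R A (AdicCompletion (maximalIdeal A) A) r, ← hrs, map_mul, ← IsScalarTower.algebraMap_apply,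
        mul_comm (algebraMap A (AdicCompletion (maximalIdeal A) A) y), ← mul_sub, hM]
      exact Ideal.mul_mem_left _ _ hy
  haveI := henselianRing_pow_adicCompletion A N
  obtain ⟨R', _, _, het, ψ, hres, b, hb, hab⟩ := exists_etale_solution_of_indSmooth hPT (maximalIdeal (AdicCompletion (maximalIdeal A) A))
    (fun x hx => IsLocalRing.notMem_maximalIdeal.1 hx) N happ F a ha
  refine ⟨R', inferInstance, inferInstance, het, ψ, (maximalIdeal (AdicCompletion (maximalIdeal A) A)).comap ψ, inferInstance, ?_,
    fun x => ?_, fun x hx => hM ▸ hx, b, hb, fun i => ?_⟩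
  · ext r
    rw [Ideal.mem_comap, Ideal.mem_comap, ψ.commutes, hcomapR]
  · obtain ⟨r, s, hs, h⟩ := hres x
    exact ⟨r, s, fun h' => hs ((hcomapR s).2 h'), h⟩
  · rw [Ideal.map_pow, ← hM]
    exact hab i

end Groth.Agent.Smooth28
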