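import Groth.Agent.Smooth28.NeronDesing
import Groth.Agent.Smooth28.FreeKaehler
import Groth.Agent.S6829
import Groth.Agent.S2034
import Groth.Agent.S2026
import Groth.Agent.Smooth28.Retract
import Groth.Agent.Smooth28.Glue

/-! Tools for resolving at a prime with regular local ring and separable residue field. -/

set_option autoImplicit false
set_option linter.style.haveILetI false
set_option maxSynthPendingDepth 3
universe u

open TensorProduct MvPolynomial

namespace Groth.Agent.Smooth28

theorem singularIdeal_le_of_smooth_base {k P B : Type u} [CommRing k] [CommRing P] [CommRing B] [Algebra k P]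
    [Algebra P B] [Algebra k B] [IsScalarTower k P B] [Algebra.Smooth k P] :
    Smoothing.singularIdeal P B ≤ Smoothing.singularIdeal k B := by
  refine PrimeSpectrum.vanishingIdeal_anti_mono (Set.compl_subset_compl.2 fun q hq => ?_)
  change Algebra.FormallySmooth k (Localization.AtPrime q.asIdeal)
  have : Algebra.FormallySmooth P (Localization.AtPrime q.asIdeal) := hq
  exact Algebra.FormallySmooth.comp k P _

theorem mem_singularIdeal_of_smooth_away {R A : Type u} [CommRing R] [CommRing A] [Algebra R A]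
    [Algebra.FinitePresentation R A] {a : A} (h : Algebra.Smooth R (Localization.Away a)) :
    a ∈ Smoothing.singularIdeal R A := by
  have hsub := (Algebra.basicOpen_subset_smoothLocus_iff_smooth (R := R) (f := a)).2 h
  rw [Smoothing.singularIdeal, PrimeSpectrum.mem_vanishingIdeal]
  intro p hp
  by_contra hap
  exact hp (hsub hap)

theorem exists_finset_standard {R A : Type u} [CommRing R] [CommRing A] [Algebra R A] [IsNoetherianRing A]
    [Algebra.FinitePresentation R A] :
    ∃ (r : ℕ) (a : Fin r → A), (∀ j, Smoothing.IsStrictlyStandard R A (a j)) ∧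
      Smoothing.singularIdeal R A = (Ideal.span (Set.range a)).radical := by
  classical
  obtain ⟨s, hs, hspan⟩ := (Submodule.fg_span_iff_fg_span_finset_subset _).1
    (IsNoetherian.noetherian (Submodule.span A {a : A | Smoothing.IsStrictlyStandard R A a}))
  refine ⟨s.card, fun j => (s.equivFin.symm j : A), fun j => hs (s.equivFin.symm j).2, ?_⟩
  refine (S2026.result (R := R) (A := A)).1.trans (congrArg Ideal.radical ?_)
  show Submodule.span A _ = Submodule.span A _
  rw [hspan]
  congr 1
  ext x
  exact ⟨fun hx => ⟨s.equivFin ⟨x, hx⟩, by simp⟩, by rintro ⟨j, rfl⟩; exact (s.equivFin.symm j).2⟩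

section Chart

variable (k : Type u) [Field k] {A : Type u} [CommRing A] [Algebra k A] [Algebra.FinitePresentation k A]
  (d n : ℕ) {r : ℕ} (a : Fin r → A)

/-- The relations `xᵢⁿ = Σⱼ yᵢⱼ aⱼ`. -/
noncomputable def chartRel (i : Fin d) : MvPolynomial (Fin d × Fin r) (MvPolynomial (Fin d) k ⊗[k] A) :=
  MvPolynomial.C (((X i : MvPolynomial (Fin d) k) ^ n) ⊗ₜ[k] (1 : A)) - ∑ j, MvPolynomial.C ((1 : MvPolynomial (Fin d) k) ⊗ₜ[k] a j) * X (i, j)

/-- The chart `A[x, y]/(xᵢⁿ - Σⱼ yᵢⱼ aⱼ)`. -/
abbrev Chart : Type u :=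
  MvPolynomial (Fin d × Fin r) (MvPolynomial (Fin d) k ⊗[k] A) ⧸ Ideal.span (Set.range (chartRel k d n a))

theorem finitePresentation_chart : Algebra.FinitePresentation (MvPolynomial (Fin d) k) (Chart k d n a) := by
  haveI : Algebra.FinitePresentation (MvPolynomial (Fin d) k)
      (MvPolynomial (Fin d × Fin r) (MvPolynomial (Fin d) k ⊗[k] A)) :=
    Algebra.FinitePresentation.trans _ (MvPolynomial (Fin d) k ⊗[k] A) _
  exact Algebra.FinitePresentation.quotient (Submodule.fg_span (Set.finite_range _))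

variable {k d n a}

theorem smooth_chart_away (ha : ∀ j, Smoothing.IsStrictlyStandard k A (a j)) (j : Fin r) :
    Algebra.Smooth (MvPolynomial (Fin d) k)
      (Localization.Away (algebraMap (MvPolynomial (Fin d) k ⊗[k] A) (Chart k d n a) (1 ⊗ₜ a j))) := by
  classical
  haveI := finitePresentation_chart k d n a
  let P := MvPolynomial (Fin d) k
  let B := P ⊗[k] A
  let α : B := 1 ⊗ₜ a j
  let Ba := Localization.Away α
  haveI : Algebra.Smooth P Ba := (S2030.result α ((S6829.result (a j)).2 (ha j))).1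
  let T := MvPolynomial (Fin d × Fin r) Ba
  haveI : Algebra.FormallySmooth P T := Algebra.FormallySmooth.comp P Ba T
  let C0 := Chart k d n a
  let c : C0 := algebraMap B C0 α
  let Cc := Localization.Away c
  obtain ⟨w, hw⟩ := (IsLocalization.Away.algebraMap_isUnit α (S := Ba)).exists_left_inv
  let v : Fin d × Fin r → T := fun il =>
    if il.2 = j then MvPolynomial.C w * (MvPolynomial.C (algebraMap B Ba (((X il.1 : MvPolynomial (Fin d) k) ^ n) ⊗ₜ[k] (1 : A))) -
      ∑ l ∈ Finset.univ.erase j, MvPolynomial.C (algebraMap B Ba (1 ⊗ₜ[k] a l)) * X (il.1, l))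
    else X il
  let g₀ : MvPolynomial (Fin d × Fin r) B →ₐ[B] T := aeval v
  have hbase : ∀ b : B, algebraMap B T b = MvPolynomial.C (algebraMap B Ba b) := fun b => rfl
  have hg₀ : ∀ x ∈ Ideal.span (Set.range (chartRel k d n a)), g₀ x = 0 := by
    intro x hx
    refine (Ideal.span_le.2 ?_ : _ ≤ RingHom.ker g₀.toRingHom) hx
    rintro _ ⟨i, rfl⟩
    show g₀ (chartRel k d n a i) = 0
    rw [chartRel, map_sub, map_sum]
    simp only [g₀, map_mul, aeval_C, aeval_X, hbase]
    rw [← Finset.add_sum_erase _ _ (Finset.mem_univ j)]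
    have hvj : v (i, j) = MvPolynomial.C w * (MvPolynomial.C (algebraMap B Ba (((X i : MvPolynomial (Fin d) k) ^ n) ⊗ₜ[k] (1 : A))) -
      ∑ l ∈ Finset.univ.erase j, MvPolynomial.C (algebraMap B Ba (1 ⊗ₜ[k] a l)) * X (i, l)) := if_pos rfl
    rw [Finset.sum_congr rfl (g := fun l => MvPolynomial.C (algebraMap B Ba (1 ⊗ₜ[k] a l)) * (X (i, l) : T))
      fun l hl => by rw [show v (i, l) = X (i, l) from if_neg (Finset.ne_of_mem_erase hl)], hvj, ← mul_assoc,
      ← map_mul, mul_comm (algebraMap B Ba _) w, hw, map_one, one_mul, sub_add_cancel, sub_self]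
  let g₁ : C0 →ₐ[B] T := Ideal.Quotient.liftₐ _ g₀ hg₀
  have hg₁c : IsUnit (g₁.toRingHom c) := by
    show IsUnit (g₁ (algebraMap B C0 α))
    rw [AlgHom.commutes, hbase]
    exact (IsLocalization.Away.algebraMap_isUnit α).map _
  let g : Cc →ₐ[P] T := IsLocalization.Away.liftAlgHom (f := g₁.restrictScalars P) c hg₁c
  letI : Algebra Ba Cc := (IsLocalization.Away.lift α (g := (algebraMap C0 Cc).comp (algebraMap B C0))
    (IsLocalization.Away.algebraMap_isUnit c (S := Cc))).toAlgebra
  haveI : IsScalarTower B Ba Cc := IsScalarTower.of_algebraMap_eq fun b =>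
    ((IsScalarTower.algebraMap_apply B C0 Cc b).trans (IsLocalization.Away.lift_eq α
      (g := (algebraMap C0 Cc).comp (algebraMap B C0)) (IsLocalization.Away.algebraMap_isUnit c (S := Cc)) b).symm)
  haveI : IsScalarTower P Ba Cc := IsScalarTower.of_algebraMap_eq fun p => by
    rw [IsScalarTower.algebraMap_apply P B Ba, ← IsScalarTower.algebraMap_apply B Ba Cc,
      ← IsScalarTower.algebraMap_apply P B Cc]
  let z : Fin d × Fin r → Cc := fun il => algebraMap C0 Cc (Ideal.Quotient.mk _ (X il))
  let q : T →ₐ[P] Cc := (aeval (R := Ba) z).restrictScalars P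
  have hqb : ∀ b : B, q (algebraMap B T b) = algebraMap C0 Cc (algebraMap B C0 b) := fun b => by
    show aeval z (MvPolynomial.C (algebraMap B Ba b)) = _
    rw [aeval_C, ← IsScalarTower.algebraMap_apply B Ba Cc, IsScalarTower.algebraMap_apply B C0 Cc]
  have hqX : ∀ il, q (X il) = z il := fun il => aeval_X _ _
  have hrel : ∀ i, algebraMap B Cc (((X i : MvPolynomial (Fin d) k) ^ n) ⊗ₜ[k] (1 : A)) = ∑ l, algebraMap B Cc (1 ⊗ₜ[k] a l) * z (i, l) := fun i => by
    have h0 : (Ideal.Quotient.mk (Ideal.span (Set.range (chartRel k d n a)))) (chartRel k d n a i) = 0 :=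
      Ideal.Quotient.eq_zero_iff_mem.2 (Ideal.subset_span ⟨i, rfl⟩)
    have h1 := congrArg (algebraMap C0 Cc) h0
    simp only [chartRel, map_sub, map_sum, map_mul, map_zero, sub_eq_zero] at h1
    simp only [IsScalarTower.algebraMap_apply B C0 Cc]
    exact h1
  have hqz : ∀ il, q (v il) = z il := by
    rintro ⟨i, l⟩
    by_cases hl : l = j
    · subst hl
      rw [show v (i, l) = MvPolynomial.C w * (MvPolynomial.C (algebraMap B Ba (((X i : MvPolynomial (Fin d) k) ^ n) ⊗ₜ[k] (1 : A))) -
        ∑ l' ∈ Finset.univ.erase l, MvPolynomial.C (algebraMap B Ba (1 ⊗ₜ[k] a l')) * X (i, l')) from if_pos rfl]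
      show aeval z _ = _
      simp only [map_mul, map_sub, map_sum, aeval_C, aeval_X, ← IsScalarTower.algebraMap_apply B Ba Cc]
      rw [hrel i, ← Finset.add_sum_erase _ _ (Finset.mem_univ l), add_sub_cancel_right, ← mul_assoc,
        IsScalarTower.algebraMap_apply B Ba Cc, ← map_mul, hw, map_one, one_mul]
    · rw [show v (i, l) = X (i, l) from if_neg hl, hqX]
  have hqg₁ : q.toRingHom.comp g₁.toRingHom = algebraMap C0 Cc := by
    refine Ideal.Quotient.ringHom_ext (MvPolynomial.ringHom_ext (fun b => ?_) fun il => ?_)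
    · show q (g₁ (algebraMap B C0 b)) = _
      rw [AlgHom.commutes, hqb]
      rfl
    · show q (g₀ (X il)) = z il
      rw [show g₀ (X il) = v il from aeval_X _ _, hqz]
  haveI : Algebra.FormallySmooth P Cc := formallySmooth_of_retract q g (by
    refine IsLocalization.algHom_ext (Submonoid.powers c) (AlgHom.ext fun x => ?_)
    show q (g (algebraMap C0 Cc x)) = algebraMap C0 Cc x
    rw [show g (algebraMap C0 Cc x) = g₁ x from
      IsLocalization.Away.lift_eq (S := Cc) c (g := (g₁.restrictScalars P).toRingHom) hg₁c x]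
    exact congr($hqg₁ x))
  exact ⟨inferInstance, Algebra.FinitePresentation.trans P C0 Cc⟩

theorem pow_mem_span_chart (i : Fin d) :
    algebraMap (MvPolynomial (Fin d) k) (Chart k d n a) (X i) ^ n ∈
      Ideal.span (Set.range fun j => algebraMap (MvPolynomial (Fin d) k ⊗[k] A) (Chart k d n a) (1 ⊗ₜ a j)) := by
  have h0 : (Ideal.Quotient.mk (Ideal.span (Set.range (chartRel k d n a)))) (chartRel k d n a i) = 0 :=
    Ideal.Quotient.eq_zero_iff_mem.2 (Ideal.subset_span ⟨i, rfl⟩)
  rw [chartRel, map_sub, map_sum, sub_eq_zero] at h0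
  rw [← map_pow]
  show Ideal.Quotient.mk _ (MvPolynomial.C (((X i : MvPolynomial (Fin d) k) ^ n) ⊗ₜ[k] (1 : A))) ∈ _
  rw [h0]
  refine Ideal.sum_mem _ fun j _ => ?_
  rw [map_mul]
  exact Ideal.mul_mem_right _ _ (Ideal.subset_span ⟨j, rfl⟩)

end Chart

/-- A uniform strictly standard power in a free retract. -/
theorem exists_retract_standard_pow {P B : Type u} [CommRing P] [IsNoetherianRing P] [CommRing B] [Algebra P B]
    [Algebra.FinitePresentation P B] {d : ℕ} (x : Fin d → P)
    (hx : ∀ i, algebraMap P B (x i) ∈ Smoothing.singularIdeal P B) :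
    ∃ (C : Type u) (_ : CommRing C) (_ : Algebra P C), Algebra.FinitePresentation P C ∧
      ∃ (ι : B →ₐ[P] C) (σ : C →ₐ[P] B), σ.comp ι = AlgHom.id P B ∧
        (∀ b ∈ Smoothing.singularIdeal P B, ι b ∈ Smoothing.singularIdeal P C) ∧
        ∃ e : ℕ, 0 < e ∧ ∀ i, Smoothing.IsStrictlyStandard P C (algebraMap P C (x i ^ e)) := by
  classical
  obtain ⟨C, _, _, _, _, hft, ⟨π⟩, hC⟩ := exists_retract_free_formallySmooth (R := P) (A := B)
  haveI := hft
  haveI : Algebra.FiniteType P C := Algebra.FiniteType.trans (inferInstanceAs (Algebra.FiniteType P B)) hft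
  haveI : Algebra.FinitePresentation P C := Algebra.FinitePresentation.of_finiteType.mp inferInstance
  have hsm : ∀ b ∈ Smoothing.singularIdeal P B, Algebra.Smooth P (Localization.Away (algebraMap B C b)) ∧
      Module.Free (Localization.Away (algebraMap B C b)) Ω[Localization.Away (algebraMap B C b)⁄P] := fun b hb =>
    have h := hC b (smooth_away_of_mem_singularIdeal hb)
    ⟨⟨h.1, Algebra.FinitePresentation.trans P C _⟩, h.2⟩
  refine ⟨C, inferInstance, inferInstance, inferInstance, IsScalarTower.toAlgHom P B C, π.restrictScalars P,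
    AlgHom.ext fun b => π.commutes b, fun b hb => mem_singularIdeal_of_smooth_away (hsm b hb).1, ?_⟩
  have hstd : ∀ i, ∃ e₀ : ℕ, ∀ m, e₀ ≤ m → Smoothing.IsStrictlyStandard P C (algebraMap P C (x i) ^ m) := by
    intro i
    obtain ⟨h1, h2⟩ := hsm _ (hx i)
    rw [← IsScalarTower.algebraMap_apply] at h1 h2
    haveI := h1
    haveI := h2
    let S := Localization.Away (algebraMap P C (x i))
    let bb := Module.Free.chooseBasis S Ω[S⁄P]
    let e : (Ω[S⁄P] × (Fin 0 → S)) ≃ₗ[S] (Fin (Fintype.card (Module.Free.ChooseBasisIndex S Ω[S⁄P])) → S) :=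
      (LinearEquiv.prodUnique).trans (bb.equivFun.trans
        (LinearEquiv.funCongrLeft S S (Fintype.equivFin _).symm))
    exact S2031.result (algebraMap P C (x i)) 0 _ e
  choose e₀ he₀ using hstd
  exact ⟨∑ i, e₀ i + 1, by omega, fun i => by
    rw [map_pow]
    exact he₀ i _ ((Finset.single_le_sum (fun j _ => Nat.zero_le (e₀ j)) (Finset.mem_univ i)).trans (Nat.le_succ _))⟩

/-- The annihilator conditions for powers of the variables in a polynomial ring. -/
theorem mem_span_powers_of_mul {R : Type u} [CommRing R] {d : ℕ} (e m : ℕ) (i : Fin d)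
    (p : MvPolynomial (Fin d) R)
    (h : X i ^ e * p ∈ Ideal.span (Set.range fun j : {j : Fin d // (j : ℕ) < (i : ℕ)} =>
      (X j.1 : MvPolynomial (Fin d) R) ^ m)) :
    p ∈ Ideal.span (Set.range fun j : {j : Fin d // (j : ℕ) < (i : ℕ)} =>
      (X j.1 : MvPolynomial (Fin d) R) ^ m) := by
  classical
  let s : Set (Fin d →₀ ℕ) := Set.range fun j : {j : Fin d // (j : ℕ) < (i : ℕ)} => Finsupp.single j.1 m
  have hs : (Set.range fun j : {j : Fin d // (j : ℕ) < (i : ℕ)} => (X j.1 : MvPolynomial (Fin d) R) ^ m) =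
      (fun t => monomial t (1 : R)) '' s := by
    rw [← Set.range_comp]
    exact congrArg Set.range (funext fun j => X_pow_eq_monomial)
  rw [hs, mem_ideal_span_monomial_image] at h ⊢
  intro t ht
  have ht' : Finsupp.single i e + t ∈ (X i ^ e * p).support := by
    rw [mem_support_iff, X_pow_eq_monomial, coeff_monomial_mul, one_mul]
    exact mem_support_iff.1 ht
  obtain ⟨_, ⟨j, rfl⟩, hle⟩ := h _ ht'
  refine ⟨_, ⟨j, rfl⟩, fun l => ?_⟩
  by_cases hl : l = j.1
  · subst hl
    have hne : i ≠ j.1 := fun hij => (lt_irrefl (i : ℕ)) (lt_of_eq_of_lt (congrArg Fin.val hij) j.2)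
    have := hle j.1
    rw [Finsupp.add_apply, Finsupp.single_eq_of_ne (Ne.symm hne), zero_add] at this
    exact this
  · rw [Finsupp.single_eq_of_ne hl]
    exact Nat.zero_le _

theorem mul_pow_eq_zero {S : Type u} [CommRing S] (p : S) (h : ∀ y, p ^ 2 * y = 0 → p * y = 0) :
    ∀ (m : ℕ) (z : S), p ^ (m + 1) * z = 0 → p * z = 0 := by
  intro m
  induction m with
  | zero => intro z hz; simpa using hz
  | succ m ih =>
    intro z hz
    refine ih z ?_
    rw [pow_succ', mul_assoc]
    refine h _ ?_
    rw [← mul_assoc, ← pow_add]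
    rwa [show 2 + m = m + 1 + 1 by omega]

/-- The residue extension criterion for nilpotent maximal ideals. -/
theorem indSmooth_of_nilpotent_maximal {R Λ : Type u} [CommRing R] [IsLocalRing R] [CommRing Λ] [IsLocalRing Λ]
    [Algebra R Λ] [Module.Flat R Λ] [IsLocalHom (algebraMap R Λ)] (hnil : IsNilpotent (IsLocalRing.maximalIdeal R))
    (he : (IsLocalRing.maximalIdeal R).map (algebraMap R Λ) = IsLocalRing.maximalIdeal Λ)
    [hsep : Algebra.FormallySmooth (IsLocalRing.ResidueField R) (IsLocalRing.ResidueField Λ)] :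
    Smoothing.IndSmooth R Λ := by
  refine S2022.result (IsLocalRing.maximalIdeal R) hnil ?_
  let m := IsLocalRing.maximalIdeal R
  haveI : (m.map (algebraMap R Λ)).IsMaximal := he ▸ IsLocalRing.maximalIdeal.isMaximal Λ
  letI : Field (R ⧸ m) := Ideal.Quotient.field m
  letI : Field (Λ ⧸ m.map (algebraMap R Λ)) := Ideal.Quotient.field _
  intro A _ _ hA f
  letI : Algebra (R ⧸ m) (IsLocalRing.ResidueField Λ) :=
    @id (Algebra (IsLocalRing.ResidueField R) (IsLocalRing.ResidueField Λ)) inferInstance
  haveI : Algebra.FormallySmooth (R ⧸ m) (IsLocalRing.ResidueField Λ) := hsep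
  let φ : (Λ ⧸ m.map (algebraMap R Λ)) ≃+* IsLocalRing.ResidueField Λ := Ideal.quotEquivOfEq he
  haveI : Algebra.FormallySmooth (R ⧸ m) (Λ ⧸ m.map (algebraMap R Λ)) :=
    Algebra.FormallySmooth.of_equiv (A := IsLocalRing.ResidueField Λ) (AlgEquiv.ofRingEquiv (f := φ.symm) fun x => by
      obtain ⟨x, rfl⟩ := Ideal.Quotient.mk_surjective x
      apply φ.injective
      rw [RingEquiv.apply_symm_apply]
      rfl)
  haveI : Algebra.IsGeometricallyReduced (R ⧸ m) (Λ ⧸ m.map (algebraMap R Λ)) :=
    Sep12.formallySmooth_iff_isGeometricallyReduced.1 inferInstance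
  exact indSmooth_field (k := R ⧸ m) (κ := Λ ⧸ m.map (algebraMap R Λ)) A hA f

set_option maxHeartbeats 800000 in
/-- Resolution at a minimal prime over which the map is flat with separable residue extension. -/
theorem resolvable_of_flat_minimal {k R A Λ : Type u} [Field k] [CommRing R] [IsNoetherianRing R] [Algebra k R]
    [CommRing A] [Algebra R A] [Algebra.FinitePresentation R A] [CommRing Λ] [Algebra R Λ] [Algebra k Λ]
    [IsScalarTower k R Λ] [IsNoetherianRing Λ] (φ : A →ₐ[R] Λ) (q : Ideal Λ) [q.IsPrime] (hq : q ∈ minimalPrimes Λ)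
    [Module.Flat R (Localization.AtPrime q)]
    (hmax : (q.comap (algebraMap R Λ)).map (algebraMap R (Localization.AtPrime q)) =
      IsLocalRing.maximalIdeal (Localization.AtPrime q))
    (hk : ∀ x : R, ∃ c : k, algebraMap R Λ x - algebraMap k Λ c ∈ q)
    [Algebra.FormallySmooth k q.ResidueField] : Smoothing.Resolvable R φ q := by
  by_cases hs : Smoothing.singRad R φ ≤ q
  swap
  · exact ⟨A, inferInstance, inferInstance, inferInstance, AlgHom.id R A, φ, AlgHom.comp_id φ, le_rfl, hs⟩
  have hmin : q ∈ (Smoothing.singRad R φ).minimalPrimes :=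
    ⟨⟨inferInstance, hs⟩, fun p hp hle => hq.2 ⟨hp.1, bot_le⟩ hle⟩
  let p := q.comap (algebraMap R Λ)
  let Rp := Localization.AtPrime p
  let Λq := Localization.AtPrime q
  letI : Algebra Rp Λq := (Localization.localRingHom p q (algebraMap R Λ) rfl).toAlgebra
  haveI : IsScalarTower R Rp Λq := IsScalarTower.of_algebraMap_eq fun x =>
    ((Localization.localRingHom_to_map p q (algebraMap R Λ) rfl x).trans
      (IsScalarTower.algebraMap_apply R Λ Λq x).symm).symm
  haveI hloc : IsLocalHom (algebraMap Rp Λq) := Localization.isLocalHom_localRingHom p q (algebraMap R Λ) rfl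
  haveI : Module.Flat Rp Λq := (Module.flat_iff_of_isLocalization Rp p.primeCompl Λq).2 inferInstance
  have hdim : ringKrullDim Λq = 0 := by
    rw [IsLocalization.AtPrime.ringKrullDim_eq_height q Λq, Ideal.height_eq_zero_iff.2 hq]
    rfl
  have he : (IsLocalRing.maximalIdeal Rp).map (algebraMap Rp Λq) = IsLocalRing.maximalIdeal Λq := by
    rw [← Localization.AtPrime.map_eq_maximalIdeal, Ideal.map_map, ← IsScalarTower.algebraMap_eq]
    exact hmax
  have hnil : IsNilpotent (IsLocalRing.maximalIdeal Rp) := by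
    haveI : Module.FaithfullyFlat Rp Λq := Module.FaithfullyFlat.of_flat_of_isLocalHom
    haveI : Ring.KrullDimLE 0 Λq := Ring.krullDimLE_iff.2 hdim.le
    have hle : IsLocalRing.maximalIdeal Rp ≤ nilradical Rp := by
      intro x hx
      have h1 : algebraMap Rp Λq x ∈ nilradical Λq := by
        rw [Ring.KrullDimLE.nilradical_eq_maximalIdeal]
        exact map_nonunit _ _ hx
      rw [mem_nilradical] at h1 ⊢
      exact (IsNilpotent.map_iff (f := algebraMap Rp Λq) (FaithfulSMul.algebraMap_injective Rp Λq)).1 h1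
    obtain ⟨N, hN⟩ := IsNoetherianRing.isNilpotent_nilradical Rp
    exact ⟨N, le_bot_iff.1 ((Ideal.pow_right_mono hle N).trans hN.le)⟩
  haveI : Algebra.FormallySmooth (IsLocalRing.ResidueField Rp) (IsLocalRing.ResidueField Λq) := by
    have hsurj : Function.Surjective (algebraMap k (IsLocalRing.ResidueField Rp)) := by
      intro y
      obtain ⟨y, rfl⟩ := IsLocalRing.residue_surjective y
      obtain ⟨⟨x, s⟩, hxs⟩ := IsLocalization.surj p.primeCompl y
      have key : ∀ x : R, ∃ c : k, IsLocalRing.residue Rp (algebraMap R Rp x) =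
          algebraMap k (IsLocalRing.ResidueField Rp) c := by
        intro x
        obtain ⟨c, hc⟩ := hk x
        refine ⟨c, ?_⟩
        have hmem : x - algebraMap k R c ∈ p := by
          show algebraMap R Λ _ ∈ q
          rw [map_sub, ← IsScalarTower.algebraMap_apply]; exact hc
        have h0 : IsLocalRing.residue Rp (algebraMap R Rp (x - algebraMap k R c)) = 0 := by
          rw [IsLocalRing.residue_eq_zero_iff, ← Localization.AtPrime.map_eq_maximalIdeal]
          exact Ideal.mem_map_of_mem _ hmem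
        rw [map_sub, map_sub, sub_eq_zero, ← IsScalarTower.algebraMap_apply] at h0
        exact h0
      obtain ⟨c₁, hc₁⟩ := key x
      obtain ⟨c₂, hc₂⟩ := key s
      have h2 : algebraMap k (IsLocalRing.ResidueField Rp) c₂ ≠ 0 := by
        rw [← hc₂, Ne, IsLocalRing.residue_eq_zero_iff]
        exact fun h => h (IsLocalization.map_units Rp s)
      refine ⟨c₁ / c₂, ?_⟩
      rw [map_div₀, div_eq_iff h2, ← hc₁, ← hc₂, ← map_mul, hxs]
    haveI : Algebra.FormallyUnramified k (IsLocalRing.ResidueField Rp) :=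
      Algebra.FormallyUnramified.of_surjective (Algebra.ofId k _) hsurj
    haveI : Algebra.FormallySmooth k (IsLocalRing.ResidueField Λq) := ‹Algebra.FormallySmooth k q.ResidueField›
    haveI : IsScalarTower k (IsLocalRing.ResidueField Rp) (IsLocalRing.ResidueField Λq) :=
      IsScalarTower.of_algebraMap_eq fun c => by
        show algebraMap k _ c = algebraMap (IsLocalRing.ResidueField Rp) (IsLocalRing.ResidueField Λq)
          (IsLocalRing.residue Rp (algebraMap k Rp c))
        rw [IsLocalRing.ResidueField.algebraMap_residue, IsScalarTower.algebraMap_apply k R Rp,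
          ← IsScalarTower.algebraMap_apply R Rp Λq, ← IsScalarTower.algebraMap_apply k R Λq]
        rfl
    exact Algebra.FormallySmooth.of_restrictScalars k (IsLocalRing.ResidueField Rp) (IsLocalRing.ResidueField Λq)
  refine S2034.result φ q hmin (Rₚ := Rp) (Λq := Λq) hdim ?_
  let ψ : Rp ⊗[R] A →ₐ[Rp] Λq := Algebra.TensorProduct.lift (Algebra.ofId Rp Λq)
    ((IsScalarTower.toAlgHom R Λ Λq).comp φ) (fun _ _ => Commute.all _ _)
  obtain ⟨B, _, _, hB, g, h, hgh⟩ := indSmooth_of_nilpotent_maximal hnil he _ inferInstance ψ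
  haveI := hB
  refine ⟨B, inferInstance, inferInstance, inferInstance, g, h, hgh, ?_, ?_⟩
  · rw [singRad_eq_top h]; exact le_top
  · rw [singRad_eq_top h, Localization.AtPrime.map_eq_maximalIdeal, top_le_iff]
    exact (IsLocalRing.maximalIdeal.isMaximal Λq).ne_top

end Groth.Agent.Smooth28
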