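import Groth.Agent.Smooth28.LiftingDefs

/-!
Smoothness of the lifting over the smooth locus.
-/

namespace Groth.Agent.Smooth28

open MvPolynomial

universe u

variable {R : Type u} [CommRing R] {n m : ℕ}

set_option maxHeartbeats 1600000 in
theorem lift_smooth_at [IsNoetherianRing R] (π : R) (hR : ∀ r : R, π ^ 2 * r = 0 → π * r = 0)
    (f : Fin m → (MvPolynomial (Fin n) R)) {c : ℕ} (rows : Fin c ↪ Fin m) (cols : Fin c ↪ Fin n) (G : (MvPolynomial (Fin n) R))
    (a : Fin m → Fin c → (MvPolynomial (Fin n) R)) (ha : Fin m → (MvPolynomial (Fin n) R))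
    (hah : ∀ j, G * f j - ∑ k, a j k * f (rows k) = MvPolynomial.C (π ^ 2) * ha j)
    (harows : ∀ j k₀, rows k₀ = j → (∀ k, a j k = if k = k₀ then G else 0) ∧ ha j = 0)
    (Q : Ideal ((MvPolynomial (Fin (n + m)) R) ⧸ liftIdeal π f)) [Q.IsPrime]
    (hGQ : Ideal.Quotient.mk _ (rename (Fin.castAdd m) G) ∉ Q)
    (hΔQ : Ideal.Quotient.mk _ (rename (Fin.castAdd m) (Smoothing.jacobianMinor f rows cols)) ∉ Q) :
    Algebra.IsSmoothAt R Q := by
  classical
  let ιx : (MvPolynomial (Fin n) R) →ₐ[R] (MvPolynomial (Fin (n + m)) R) := rename (Fin.castAdd m)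
  let zv : Fin m → (MvPolynomial (Fin (n + m)) R) := fun j => X (Fin.natAdd n j)
  have hιC : ∀ r : R, ιx (MvPolynomial.C r) = MvPolynomial.C r := fun r => rename_C _ _
  let Δ := Smoothing.jacobianMinor f rows cols
  let mkD : (MvPolynomial (Fin (n + m)) R) →ₐ[R] ((MvPolynomial (Fin (n + m)) R) ⧸ liftIdeal π f) := Ideal.Quotient.mkₐ R _
  -- the complementary relations
  let S : Finset (Fin m) := Finset.univ.filter fun j => ∀ k, rows k ≠ j
  let co : Fin S.card → Fin m := fun i => (S.equivFin.symm i).1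
  have hco : Function.Injective co := Subtype.val_injective.comp S.equivFin.symm.injective
  have hrc : ∀ k i, rows k ≠ co i := fun k i => (Finset.mem_filter.1 (S.equivFin.symm i).2).2 k
  have hcov : ∀ j, (∃ k, rows k = j) ∨ ∃ i, co i = j := fun j => by
    by_cases h : ∃ k, rows k = j
    · exact Or.inl h
    · push Not at h
      exact Or.inr ⟨S.equivFin ⟨j, by simp [S, h]⟩, by simp [co]⟩
  let Y : Fin m → (MvPolynomial (Fin (n + m)) R) := fun j => ιx G * zv j - ∑ k, ιx (a j k) * zv (rows k) - MvPolynomial.C π * ιx (ha j)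
  let Le : Fin (c + S.card) → (MvPolynomial (Fin (n + m)) R) :=
    Fin.append (fun k => ιx (f (rows k)) - MvPolynomial.C π * zv (rows k)) fun i => Y (co i)
  let mkE : (MvPolynomial (Fin (n + m)) R) →ₐ[R] ((MvPolynomial (Fin (n + m)) R) ⧸ Ideal.span (Set.range Le)) := Ideal.Quotient.mkₐ R _
  let colsE : Fin (c + S.card) → Fin (n + m) :=
    Fin.append (fun k => Fin.castAdd m (cols k)) fun i => Fin.natAdd n (co i)
  have hcolsE : Function.Injective colsE := by
    intro x y hxy
    induction x using Fin.addCases with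
    | left k =>
      induction y using Fin.addCases with
      | left k' =>
        simp only [colsE, Fin.append_left] at hxy
        exact congrArg _ (cols.injective (Fin.castAdd_injective _ _ hxy))
      | right i' => simp [colsE, Fin.ext_iff] at hxy; omega
    | right i =>
      induction y using Fin.addCases with
      | left k' => simp [colsE, Fin.ext_iff] at hxy; omega
      | right i' =>
        simp only [colsE, Fin.append_right] at hxy
        exact congrArg _ (hco (Fin.natAdd_injective _ _ hxy))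
  have hx0 : ∀ (p : (MvPolynomial (Fin n) R)) (j : Fin m), pderiv (Fin.natAdd n j) (ιx p) = 0 := pderiv_natAdd_rename
  have hz0 : ∀ (i : Fin n) (j : Fin m), pderiv (Fin.castAdd m i) (zv j) = 0 := fun i j =>
    pderiv_X_of_ne (fun h => by simp [Fin.ext_iff] at h; omega)
  have hminorE : Smoothing.jacobianMinor Le id colsE = ιx Δ * ιx G ^ S.card := by
    let M : Matrix (Fin c ⊕ Fin S.card) (Fin c ⊕ Fin S.card) (MvPolynomial (Fin (n + m)) R) :=
      Matrix.of fun x y => pderiv (colsE (finSumFinEquiv y)) (Le (finSumFinEquiv x))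
    have h1 : Smoothing.jacobianMinor Le id colsE = M.det := by
      rw [Smoothing.jacobianMinor, ← Matrix.det_submatrix_equiv_self finSumFinEquiv]
      rfl
    have h12 : M.toBlocks₁₂ = 0 := by
      ext1 k i
      simp only [M, Matrix.toBlocks₁₂, Matrix.of_apply, finSumFinEquiv_apply_left,
        finSumFinEquiv_apply_right, colsE, Le, Fin.append_left, Fin.append_right, map_sub, hx0,
        pderiv_C_mul, zv, zero_sub, Matrix.zero_apply]
      rw [pderiv_X_of_ne ((Fin.natAdd_injective m n).ne (hrc k i)), mul_zero, neg_zero]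
    have h11 : M.toBlocks₁₁ =
        ιx.toRingHom.mapMatrix (Matrix.of fun j k : Fin c => pderiv (cols k) (f (rows j))) := by
      ext1 j k
      simp only [M, Matrix.toBlocks₁₁, Matrix.of_apply, finSumFinEquiv_apply_left, colsE, Le,
        Fin.append_left, map_sub, pderiv_C_mul, hz0, mul_zero, sub_zero]
      exact pderiv_rename (R := R) (Fin.castAdd_injective n m) (cols k) (f (rows j))
    have h22 : M.toBlocks₂₂ = Matrix.diagonal fun _ => ιx G := by
      ext1 i i'
      simp only [M, Matrix.toBlocks₂₂, Matrix.of_apply, finSumFinEquiv_apply_right, colsE, Le,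
        Fin.append_right, Y, map_sub, map_sum, pderiv_mul, pderiv_C, zero_mul, hx0, zero_add, mul_zero,
        sub_zero, zv]
      rw [Finset.sum_eq_zero fun k _ => by rw [pderiv_X_of_ne ((Fin.natAdd_injective m n).ne (hrc k i')),
        mul_zero], sub_zero]
      rcases eq_or_ne i i' with rfl | hii
      · simp
      · rw [pderiv_X_of_ne ((Fin.natAdd_injective m n).ne (hco.ne hii)), mul_zero,
          Matrix.diagonal_apply_ne _ hii]
    rw [h1, ← Matrix.fromBlocks_toBlocks M, h12, Matrix.det_fromBlocks_zero₁₂, h11, h22,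
      Matrix.det_diagonal, Finset.prod_const, Finset.card_univ, Fintype.card_fin, ← RingHom.map_det]
    rfl
  let ab : (MvPolynomial (Fin (n + m)) R) := ιx (G ^ (S.card + 1) * Δ)
  let E := Localization.Away (mkE ab)
  haveI : Algebra.IsStandardSmooth R E :=
    isStandardSmooth_of_data mkE Ideal.Quotient.mk_surjective Le Ideal.mk_ker id colsE hcolsE (mkE ab)
      ⟨mkE (ιx G), by rw [hminorE, ← map_mul mkE]; congr 1; simp only [ab, map_mul, map_pow]; ring⟩
      ab rfl (fun x hx => Ideal.mem_sup_left (Ideal.mul_mem_left _ _ (Ideal.Quotient.eq_zero_iff_mem.1 hx))) E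
  haveI : Algebra.Smooth R E := inferInstance
  let ev : (MvPolynomial (Fin (n + m)) R) →ₐ[R] E := (IsScalarTower.toAlgHom R ((MvPolynomial (Fin (n + m)) R) ⧸ Ideal.span (Set.range Le)) E).comp mkE
  have hevab : IsUnit (ev ab) := IsLocalization.Away.algebraMap_isUnit (mkE ab)
  have hevG : IsUnit (ev (ιx G)) :=
    isUnit_of_dvd_unit (map_dvd ev (map_dvd ιx (Dvd.dvd.mul_right (dvd_pow_self G (Nat.succ_ne_zero _)) _))) hevab
  have hevΔ : IsUnit (ev (ιx Δ)) :=
    isUnit_of_dvd_unit (map_dvd ev (map_dvd ιx (dvd_mul_left Δ _))) hevab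
  have hevLe : ∀ i, ev (Le i) = 0 := fun i => by
    show algebraMap ((MvPolynomial (Fin (n + m)) R) ⧸ Ideal.span (Set.range Le)) E (mkE (Le i)) = 0
    rw [show mkE (Le i) = 0 from Ideal.Quotient.eq_zero_iff_mem.2 (Ideal.subset_span ⟨i, rfl⟩)]
    exact map_zero (algebraMap ((MvPolynomial (Fin (n + m)) R) ⧸ Ideal.span (Set.range Le)) E)
  set t : E := algebraMap R E π with ht
  have hevC : ev (MvPolynomial.C π) = t := ev.commutes π
  have hFrow : ∀ k, ev (ιx (f (rows k))) = t * ev (zv (rows k)) := fun k => by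
    have := hevLe (Fin.castAdd _ k)
    simpa only [Le, Fin.append_left, map_sub, map_mul, hevC, sub_eq_zero] using this
  have hY : ∀ j, ev (ιx G) * ev (zv j) =
      ∑ k, ev (ιx (a j k)) * ev (zv (rows k)) + t * ev (ιx (ha j)) := fun j => by
    rcases hcov j with ⟨k₀, hk₀⟩ | ⟨i, rfl⟩
    · obtain ⟨h1, h2⟩ := harows j k₀ hk₀
      rw [Finset.sum_eq_single k₀ (fun k _ hk => by rw [h1, if_neg hk, map_zero, map_zero, zero_mul])
        (by simp), h1, if_pos rfl, h2, hk₀, map_zero, map_zero, mul_zero, add_zero]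
    · have := hevLe (Fin.natAdd c i)
      simp only [Le, Fin.append_right, Y, map_sub, map_sum, map_mul, hevC] at this
      linear_combination this
  have hF : ∀ j, ev (ιx (f j)) = t * ev (zv j) := fun j => by
    refine hevG.mul_left_cancel ?_
    have h1 := congrArg (fun p => ev (ιx p)) (hah j)
    simp only [map_sub, map_mul, map_sum, map_pow, hιC, hevC] at h1
    rw [mul_left_comm, hY j, mul_add, Finset.mul_sum]
    rw [Finset.sum_congr rfl fun k _ => show t * (ev (ιx (a j k)) * ev (zv (rows k))) =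
      ev (ιx (a j k)) * ev (ιx (f (rows k))) by rw [hFrow]; ring]
    linear_combination h1
  have hgenE : ∀ r h, ∑ j, r j * f j = MvPolynomial.C (π ^ 2) * h → ev (liftGen π r h) = 0 := by
    intro r h hr
    have hr' : ∑ j, ev (ιx (r j)) * ev (ιx (f j)) = t ^ 2 * ev (ιx h) := by
      have h2 := congrArg (fun p => ev (ιx p)) hr
      simp only [map_sum, map_mul, map_pow, hιC, hevC] at h2
      exact h2
    have hev : ev (liftGen π r h) = ∑ j, ev (ιx (r j)) * ev (zv j) - t * ev (ιx h) := by
      simp only [liftGen, map_sub, map_sum, map_mul, hevC]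
      rfl
    have h1 : t * ev (liftGen π r h) = 0 := by
      simp only [hF] at hr'
      rw [hev, mul_sub, Finset.mul_sum, sub_eq_zero, ← mul_assoc, ← pow_two, ← hr']
      exact Finset.sum_congr rfl fun j _ => mul_left_comm _ _ _
    -- divisibility by π
    suffices h2 : ev (liftGen π r h) ∈ Ideal.span {t} by
      obtain ⟨e, he⟩ := Ideal.mem_span_singleton'.1 h2
      rw [← he, mul_comm]
      refine flat_torsion hR ?_
      rw [map_pow, pow_two, mul_assoc, mul_comm _ e, ← ht, he, h1]
    let mk := Ideal.Quotient.mk (Ideal.span {t})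
    have hmt : mk t = 0 := Ideal.Quotient.eq_zero_iff_mem.2 (Ideal.mem_span_singleton_self t)
    let B : MvPolynomial (Fin n) R →+* E ⧸ Ideal.span {t} := mk.comp (ev.comp ιx).toRingHom
    have hBf : ∀ j, B (f j) = 0 := fun j => by
      show mk (ev (ιx (f j))) = 0
      rw [hF, map_mul, hmt, zero_mul]
    have hBC : B (MvPolynomial.C π) = 0 := by
      show mk (ev (ιx (MvPolynomial.C π))) = 0
      simp only [hιC, hevC, hmt]
    let r' : Fin c → MvPolynomial (Fin n) R := fun k => ∑ j, r j * a j k
    obtain ⟨h', hr''⟩ : ∃ h', ∑ k, r' k * f (rows k) = MvPolynomial.C (π ^ 2) * h' := by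
      refine ⟨G * h - ∑ j, r j * ha j, ?_⟩
      simp only [r', Finset.sum_mul]
      rw [Finset.sum_comm]
      rw [Finset.sum_congr rfl fun j _ => show ∑ k, r j * a j k * f (rows k) =
        r j * (G * f j - MvPolynomial.C (π ^ 2) * ha j) by
          rw [← hah j, sub_sub_cancel, Finset.mul_sum]
          exact Finset.sum_congr rfl fun k _ => mul_assoc _ _ _]
      simp only [mul_sub, Finset.sum_sub_distrib, Finset.mul_sum]
      rw [mul_left_comm (MvPolynomial.C (π ^ 2)) G, ← hr, Finset.mul_sum]
      congr 1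
      · exact Finset.sum_congr rfl fun j _ => by ring
      · exact Finset.sum_congr rfl fun j _ => by ring
    let Mx : Matrix (Fin c) (Fin c) (E ⧸ Ideal.span {t}) :=
      B.mapMatrix (Matrix.of fun j k : Fin c => pderiv (cols k) (f (rows j)))
    have hrM : Matrix.vecMul (fun k => B (r' k)) Mx = 0 := by
      funext k
      have h3 := congrArg (fun p => B (pderiv (cols k) p)) hr''
      simp only [map_sum, pderiv_mul, map_add, map_mul, hBf, mul_zero, zero_add, map_pow, pderiv_pow,
        pderiv_C, hBC, zero_mul, zero_pow two_ne_zero] at h3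
      simpa [Matrix.vecMul, dotProduct, Mx] using h3
    have hdet : IsUnit Mx.det := by
      rw [← RingHom.map_det]
      exact hevΔ.map mk
    have hr0 : ∀ k, B (r' k) = 0 := fun k => by
      have := congrArg (fun v => Matrix.vecMul v Mx⁻¹) hrM
      simp only [Matrix.vecMul_vecMul, Matrix.mul_nonsing_inv _ hdet, Matrix.vecMul_one,
        Matrix.zero_vecMul] at this
      exact congrFun this k
    rw [← Ideal.Quotient.eq_zero_iff_mem]
    refine (hevG.map mk).mul_left_cancel ?_
    rw [mul_zero, ← map_mul, hev, mul_sub, Finset.mul_sum, map_sub, map_sum]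
    have h4 : ∀ j, mk (ev (ιx G) * (ev (ιx (r j)) * ev (zv j))) =
        ∑ k, B (r j * a j k) * mk (ev (zv (rows k))) := fun j => by
      rw [mul_left_comm, hY j, mul_add, map_add, Finset.mul_sum, map_sum]
      simp only [map_mul, hmt, zero_mul, mul_zero, add_zero]
      exact Finset.sum_congr rfl fun k _ => (mul_assoc _ _ _).symm
    rw [Finset.sum_congr rfl fun j _ => h4 j, Finset.sum_comm]
    simp only [← Finset.sum_mul, ← map_sum]
    rw [Finset.sum_eq_zero fun k _ => show B (r' k) * _ = 0 by rw [hr0 k, zero_mul],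
      map_mul, map_mul, hmt, zero_mul, mul_zero, sub_zero]
  have hevK : ∀ x ∈ liftIdeal π f, ev x = 0 := fun x hx =>
    (liftIdeal_le (I := RingHom.ker ev.toRingHom)
      (fun j => show ev (ιx (f j) - MvPolynomial.C π * zv j) = 0 by
        rw [map_sub, map_mul, hevC, hF j, sub_self])
      hgenE) hx
  -- comparison
  let aD : ((MvPolynomial (Fin (n + m)) R) ⧸ liftIdeal π f) := mkD ab
  let T := Localization.Away aD
  let toT : (MvPolynomial (Fin (n + m)) R) →ₐ[R] T := (IsScalarTower.toAlgHom R ((MvPolynomial (Fin (n + m)) R) ⧸ liftIdeal π f) T).comp mkD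
  have hLeK : ∀ i, Le i ∈ liftIdeal π f := by
    intro i
    induction i using Fin.addCases with
    | left k => simp only [Le, Fin.append_left]; exact liftRel_mem π f _
    | right i =>
      simp only [Le, Fin.append_right]
      have h := liftGen_mem (π := π) (f := f) (r := fun j => (if j = co i then G else 0) - ∑ k, if rows k = j then a (co i) k else 0)
        (h := ha (co i)) (by
          simp only [sub_mul, Finset.sum_sub_distrib, Finset.sum_mul, ite_mul, zero_mul,
            Finset.sum_ite_eq', Finset.mem_univ, if_true]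
          rw [Finset.sum_comm]
          simp only [Finset.sum_ite_eq, Finset.mem_univ, if_true]
          exact hah _)
      convert h using 1
      simp only [liftGen, Y, ιx, zv, map_sub, map_sum, apply_ite (rename (R := R) (Fin.castAdd m)), map_zero, sub_mul, Finset.sum_sub_distrib,
        Finset.sum_mul, ite_mul, zero_mul, Finset.sum_ite_eq', Finset.mem_univ, if_true]
      rw [Finset.sum_comm (f := fun j k => if rows k = j then rename (Fin.castAdd m) (a (co i) k) * X (Fin.natAdd n j) else 0)]
      simp only [Finset.sum_ite_eq, Finset.mem_univ, if_true]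
  have htoTLe : ∀ x ∈ Ideal.span (Set.range Le), toT x = 0 := by
    intro x hx
    have hxK : x ∈ liftIdeal π f := (Ideal.span_le.2 (by rintro _ ⟨i, rfl⟩; exact hLeK i) : _ ≤ liftIdeal π f) hx
    show algebraMap ((MvPolynomial (Fin (n + m)) R) ⧸ liftIdeal π f) T (mkD x) = 0
    rw [show mkD x = 0 from Ideal.Quotient.eq_zero_iff_mem.2 hxK]
    exact map_zero (algebraMap ((MvPolynomial (Fin (n + m)) R) ⧸ liftIdeal π f) T)
  let u₁ : ((MvPolynomial (Fin (n + m)) R) ⧸ liftIdeal π f) →ₐ[R] E := Ideal.Quotient.liftₐ (liftIdeal π f) ev hevK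
  let u₂ : ((MvPolynomial (Fin (n + m)) R) ⧸ Ideal.span (Set.range Le)) →ₐ[R] T := Ideal.Quotient.liftₐ _ toT htoTLe
  have hu₁ : ∀ y : Submonoid.powers aD, IsUnit (u₁ y) := by
    rintro ⟨_, k, rfl⟩; rw [map_pow]; exact hevab.pow k
  have hu₂ : ∀ y : Submonoid.powers (mkE ab), IsUnit (u₂ y) := by
    rintro ⟨_, k, rfl⟩; rw [map_pow]; exact (IsLocalization.Away.algebraMap_isUnit aD).pow k
  let U₁ : T →ₐ[R] E := IsLocalization.liftAlgHom (f := u₁) hu₁
  let U₂ : E →ₐ[R] T := IsLocalization.liftAlgHom (f := u₂) hu₂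
  have hU₁ : ∀ w, U₁ (toT w) = ev w := fun w => IsLocalization.lift_eq (M := Submonoid.powers aD) _ (mkD w)
  have hU₂ : ∀ w, U₂ (ev w) = toT w := fun w =>
    IsLocalization.lift_eq (M := Submonoid.powers (mkE ab)) _ (mkE w)
  let eqv : E ≃ₐ[R] T := AlgEquiv.ofAlgHom U₂ U₁
    (AlgHom.coe_ringHom_injective (IsLocalization.ringHom_ext (Submonoid.powers aD) (RingHom.ext fun x => by
      obtain ⟨w, rfl⟩ := Ideal.Quotient.mk_surjective x
      show U₂ (U₁ (toT w)) = toT w
      rw [hU₁, hU₂])))
    (AlgHom.coe_ringHom_injective (IsLocalization.ringHom_ext (Submonoid.powers (mkE ab)) (RingHom.ext fun x => by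
      obtain ⟨w, rfl⟩ := Ideal.Quotient.mk_surjective x
      show U₁ (U₂ (ev w)) = ev w
      rw [hU₂, hU₁])))
  haveI : Algebra.FormallySmooth R T := Algebra.FormallySmooth.of_equiv eqv
  haveI : Algebra.FinitePresentation R T := Algebra.FinitePresentation.equiv eqv
  haveI : Algebra.Smooth R T := ⟨inferInstance, inferInstance⟩
  refine isSmoothAt_of_smooth_away aD _ fun hmem => ?_
  have h2 : mkD (ιx G) ^ (S.card + 1) * mkD (ιx Δ) ∈ Q := by
    rw [← map_pow, ← map_mul, ← map_pow, ← map_mul]; exact hmem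
  rcases Ideal.IsPrime.mem_or_mem ‹_› h2 with h3 | h3
  · exact hGQ (Ideal.IsPrime.mem_of_pow_mem ‹_› _ h3)
  · exact hΔQ h3

end Groth.Agent.Smooth28
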