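import Groth.Agent.Smooth28.Singular
import Mathlib.RingTheory.Polynomial.Basic

/-!
Strictly standard elements in quotient algebras.
-/

namespace Groth.Agent.Smooth28

open MvPolynomial

universe u

variable {R R' A A' : Type u} [CommRing R] [CommRing R'] [Algebra R R'] [CommRing A] [CommRing A']
  [Algebra R A] [Algebra R A'] [Algebra R' A'] [IsScalarTower R R' A']

theorem exists_marked_quotient (ν : A →ₐ[R] A') (hν : Function.Surjective ν)
    (hσ : Function.Surjective (algebraMap R R'))
    (hkν : RingHom.ker ν.toRingHom ≤ (RingHom.ker (algebraMap R R')).map (algebraMap R A))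
    (P : Smoothing.MarkedPresentation R A) :
    ∃ Q : Smoothing.MarkedPresentation R' A', ∀ a : A,
      ((∃ b, a = b * P.hom (Smoothing.jacobianMinor P.rel (Fin.castLE P.hcm) (Fin.castLE P.hcn))) →
        ∃ b', ν a = b' * Q.hom (Smoothing.jacobianMinor Q.rel (Fin.castLE Q.hcm) (Fin.castLE Q.hcn))) ∧
      (a ∈ Ideal.span (Set.range fun cols : Fin P.c → Fin P.n =>
          P.hom (Smoothing.jacobianMinor P.rel (Fin.castLE P.hcm) cols)) →
        ν a ∈ Ideal.span (Set.range fun cols : Fin Q.c → Fin Q.n =>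
          Q.hom (Smoothing.jacobianMinor Q.rel (Fin.castLE Q.hcm) cols))) ∧
      (Smoothing.KillsTail P a → Smoothing.KillsTail Q (ν a)) := by
  let hom : MvPolynomial (Fin P.n) R' →ₐ[R'] A' := aeval fun i => ν (P.hom (X i))
  let μ := MvPolynomial.map (σ := Fin P.n) (algebraMap R R')
  have hμ : Function.Surjective μ := MvPolynomial.map_surjective _ hσ
  have hhom : ∀ p, hom (μ p) = ν (P.hom p) := fun p => by
    have h : (hom.restrictScalars R).comp (MvPolynomial.mapAlgHom (Algebra.ofId R R')) = ν.comp P.hom :=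
      MvPolynomial.algHom_ext fun i => by simp [hom]
    exact AlgHom.congr_fun h p
  have hsurj : Function.Surjective hom := fun y => by
    obtain ⟨a, rfl⟩ := hν y
    obtain ⟨p, rfl⟩ := P.surj a
    exact ⟨μ p, hhom p⟩
  have hker : RingHom.ker hom.toRingHom = Ideal.span (Set.range fun j => μ (P.rel j)) := by
    have hfwd : Ideal.span (Set.range fun j => μ (P.rel j)) = (RingHom.ker P.hom.toRingHom).map μ := by
      rw [P.ker_eq, Ideal.map_span, ← Set.range_comp]; rfl
    refine le_antisymm (fun y hy => ?_) (Ideal.span_le.2 ?_)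
    · obtain ⟨p, rfl⟩ := hμ y
      have h1 : ν (P.hom p) = 0 := by rw [← hhom]; exact hy
      have h2 : P.hom p ∈ ((RingHom.ker (algebraMap R R')).map
          (algebraMap R (MvPolynomial (Fin P.n) R))).map P.hom.toRingHom := by
        rw [Ideal.map_map, AlgHom.toRingHom_eq_coe, AlgHom.comp_algebraMap]
        exact hkν h1
      obtain ⟨p', hp', hpp⟩ := (Ideal.mem_map_iff_of_surjective _ P.surj).1 h2
      have h3 : μ p' = 0 := by
        show p' ∈ RingHom.ker μ
        rw [MvPolynomial.ker_map]
        exact hp'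
      rw [hfwd, show μ p = μ (p - p') by rw [map_sub, h3, sub_zero]]
      refine Ideal.mem_map_of_mem μ ?_
      show P.hom (p - p') = 0
      rw [map_sub, hpp, sub_self]
    · rintro _ ⟨j, rfl⟩
      show hom (μ (P.rel j)) = 0
      rw [hhom, rel_mem P j, map_zero]
  have hminor : ∀ cols : Fin P.c → Fin P.n,
      hom (Smoothing.jacobianMinor (fun j => μ (P.rel j)) (Fin.castLE P.hcm) cols) =
        ν (P.hom (Smoothing.jacobianMinor P.rel (Fin.castLE P.hcm) cols)) := by
    intro cols
    rw [← hhom]
    congr 1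
    simp only [Smoothing.jacobianMinor, RingHom.map_det]
    congr 1
    ext1 j k
    simp [μ, pderiv_map]
  refine ⟨⟨P.n, P.m, P.c, P.hcn, P.hcm, fun j => μ (P.rel j), hom, hsurj, hker⟩,
    fun a => ⟨?_, ?_, ?_⟩⟩
  · rintro ⟨b, rfl⟩
    refine ⟨ν b, ?_⟩
    show _ = _ * hom (Smoothing.jacobianMinor (fun j => μ (P.rel j)) _ _)
    rw [hminor, map_mul]
  · intro ha
    have := Ideal.mem_map_of_mem ν ha
    rw [Ideal.map_span, ← Set.range_comp] at this
    show _ ∈ Ideal.span (Set.range fun cols : Fin P.c → Fin P.n =>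
      hom (Smoothing.jacobianMinor (fun j => μ (P.rel j)) _ cols))
    simp only [hminor]
    exact this
  · intro h a₁ ha₁ j hj
    obtain ⟨a', ha'⟩ := P.surj a
    have h1 : (a₁ - μ a') * μ (P.rel j) ∈
        Ideal.span (Set.range fun j => μ (P.rel j)) ^ 2 := by
      rw [pow_two]
      refine Ideal.mul_mem_mul ?_ (Ideal.subset_span ⟨j, rfl⟩)
      rw [← hker]
      show hom _ = 0
      rw [map_sub, show hom a₁ = ν a from ha₁, hhom, ha', sub_self]
    have h2 := Ideal.mem_map_of_mem μ (h a' ha' j hj)
    rw [Ideal.map_sup, Ideal.map_pow, Ideal.map_span, Ideal.map_span, ← Set.range_comp,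
      ← Set.image_comp, map_mul] at h2
    have := add_mem (Ideal.mem_sup_right
      (S := Ideal.span ((fun j => μ (P.rel j)) '' {j' : Fin P.m | (j' : ℕ) < P.c})) h1) h2
    rwa [← add_mul, sub_add_cancel] at this

theorem isStrictlyStandard_quotient (ν : A →ₐ[R] A') (hν : Function.Surjective ν)
    (hσ : Function.Surjective (algebraMap R R'))
    (hkν : RingHom.ker ν.toRingHom ≤ (RingHom.ker (algebraMap R R')).map (algebraMap R A)) {a : A}
    (ha : Smoothing.IsStrictlyStandard R A a) : Smoothing.IsStrictlyStandard R' A' (ν a) := by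
  obtain ⟨P, hmin, htail⟩ := ha
  obtain ⟨Q, hQ⟩ := exists_marked_quotient ν hν hσ hkν P
  exact ⟨Q, (hQ a).2.1 hmin, (hQ a).2.2 htail⟩

theorem map_singularIdeal_quotient [Algebra.FinitePresentation R A] (ν : A →ₐ[R] A')
    [Algebra.FinitePresentation R' A'] (hν : Function.Surjective ν)
    (hσ : Function.Surjective (algebraMap R R'))
    (hkν : RingHom.ker ν.toRingHom ≤ (RingHom.ker (algebraMap R R')).map (algebraMap R A)) :
    (Smoothing.singularIdeal R A).map ν ≤ Smoothing.singularIdeal R' A' := by
  have hrad : (Smoothing.singularIdeal R' A').IsRadical := PrimeSpectrum.isRadical_vanishingIdeal _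
  refine Ideal.map_le_iff_le_comap.2 (singularIdeal_le_radical_elementary.trans ?_)
  rw [(hrad.comap ν).radical_le_iff, Ideal.span_le]
  intro a ha
  exact mem_singularIdeal_of_isStrictlyStandard
    (isStrictlyStandard_quotient ν hν hσ hkν (isStrictlyStandard_of_isElementaryStandard ha))

end Groth.Agent.Smooth28
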