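import Groth.Agent.Smooth28.DesingApply
import Groth.Agent.Smooth28.StdQuot

/-!
Resolving modulo an eighth power.
-/

namespace Groth.Agent.Smooth28

universe u

theorem resolvable_step {R A Λ R' A' Λ' : Type u} [CommRing R] [IsNoetherianRing R]
    [CommRing A] [Algebra R A] [Algebra.FinitePresentation R A] [CommRing Λ] [Algebra R Λ]
    [CommRing R'] [Algebra R R'] [CommRing A'] [Algebra R A'] [Algebra R' A'] [IsScalarTower R R' A']
    [CommRing Λ'] [Algebra R Λ'] [Algebra R' Λ'] [IsScalarTower R R' Λ']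
    (π : R) (hR : ∀ r : R, π ^ 2 * r = 0 → π * r = 0)
    (hΛ : ∀ x : Λ, π ^ 2 • x = 0 → π • x = 0) (φ : A →ₐ[R] Λ)
    (hπ : Smoothing.IsStrictlyStandard R A (algebraMap R A π))
    (hσ : Function.Surjective (algebraMap R R'))
    (hkσ : RingHom.ker (algebraMap R R') = Ideal.span {π ^ 8})
    (ν : A →ₐ[R] A') (hν : Function.Surjective ν)
    (hkν : RingHom.ker ν.toRingHom = Ideal.span {algebraMap R A (π ^ 8)})
    (μ : Λ →ₐ[R] Λ') (hμ : Function.Surjective μ)
    (hkμ : RingHom.ker μ.toRingHom = Ideal.span {algebraMap R Λ (π ^ 8)})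
    (φ' : A' →ₐ[R'] Λ') (hφ' : ∀ a, φ' (ν a) = μ (φ a))
    (𝔮 : Ideal Λ) [𝔮.IsPrime] (hπ𝔮 : algebraMap R Λ π ∈ 𝔮)
    (hres : Smoothing.Resolvable R' φ' (𝔮.map μ)) : Smoothing.Resolvable R φ 𝔮 := by
  obtain ⟨B', _, _, hfp', g', h', hgh, hle, hnle⟩ := hres
  haveI := hfp'
  letI : Algebra R B' := ((algebraMap R' B').comp (algebraMap R R')).toAlgebra
  haveI : IsScalarTower R R' B' := IsScalarTower.of_algebraMap_eq fun _ => rfl
  -- `R'` is the quotient
  let e : (R ⧸ Ideal.span {π ^ 8}) ≃+* R' :=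
    (Ideal.quotEquivOfEq hkσ.symm).trans (RingHom.quotientKerEquivOfSurjective hσ)
  have he : ∀ r : R, e (Ideal.Quotient.mk _ r) = algebraMap R R' r := fun r => rfl
  letI : Algebra (R ⧸ Ideal.span {π ^ 8}) R' := e.toRingHom.toAlgebra
  letI : Algebra (R ⧸ Ideal.span {π ^ 8}) B' := ((algebraMap R' B').comp e.toRingHom).toAlgebra
  haveI : IsScalarTower (R ⧸ Ideal.span {π ^ 8}) R' B' := IsScalarTower.of_algebraMap_eq fun _ => rfl
  haveI : IsScalarTower R (R ⧸ Ideal.span {π ^ 8}) B' := IsScalarTower.of_algebraMap_eq fun r => by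
    show algebraMap R' B' (algebraMap R R' r) = algebraMap R' B' (e (Ideal.Quotient.mk _ r))
    rw [he]
  haveI : Algebra.FinitePresentation (R ⧸ Ideal.span {π ^ 8}) R' :=
    Algebra.FinitePresentation.of_surjective (f := Algebra.ofId _ _) e.surjective
      (IsNoetherian.noetherian _)
  haveI : Algebra.FinitePresentation (R ⧸ Ideal.span {π ^ 8}) B' :=
    Algebra.FinitePresentation.trans _ R' B'
  haveI : Algebra.FormallyEtale (R ⧸ Ideal.span {π ^ 8}) R' :=
    Algebra.FormallyEtale.of_equiv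
      (AlgEquiv.ofBijective (Algebra.ofId (R ⧸ Ideal.span {π ^ 8}) R') e.bijective)
  have hsingC : Smoothing.singularIdeal R' B' ≤
      Smoothing.singularIdeal (R ⧸ Ideal.span {π ^ 8}) B' := by
    intro c hc
    rw [Smoothing.singularIdeal, PrimeSpectrum.mem_vanishingIdeal] at hc ⊢
    intro p hp
    refine hc p fun hsm => hp ?_
    let S := Localization.AtPrime p.asIdeal
    haveI : Algebra.FormallySmooth R' S := hsm
    haveI : IsScalarTower (R ⧸ Ideal.span {π ^ 8}) R' S := IsScalarTower.of_algebraMap_eq fun y => by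
      rw [IsScalarTower.algebraMap_apply (R ⧸ Ideal.span {π ^ 8}) B' S,
        IsScalarTower.algebraMap_apply R' B' S]
      rfl
    exact Algebra.FormallySmooth.comp (R ⧸ Ideal.span {π ^ 8}) R' S
  -- the equivalence on the target
  let eΛ : (Λ ⧸ Ideal.span {algebraMap R Λ (π ^ 8)}) ≃ₐ[R] Λ' :=
    (Ideal.quotientEquivAlgOfEq R hkμ.symm).trans (Ideal.quotientKerAlgEquivOfSurjective hμ)
  have heΛ : ∀ x, eΛ (Ideal.Quotient.mk _ x) = μ x := fun x => rfl
  let γ : A →ₐ[R] B' := (g'.restrictScalars R).comp ν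
  let g : B' →ₐ[R] Λ ⧸ Ideal.span {algebraMap R Λ (π ^ 8)} :=
    eΛ.symm.toAlgHom.comp (h'.restrictScalars R)
  have hfac : ∀ a : A, g (γ a) = Ideal.Quotient.mk (Ideal.span {algebraMap R Λ (π ^ 8)}) (φ a) :=
    fun a => by
      apply eΛ.injective
      show eΛ (eΛ.symm (h' (g' (ν a)))) = eΛ (Ideal.Quotient.mk _ (φ a))
      rw [eΛ.apply_symm_apply, heΛ, ← hφ', ← hgh]
      rfl
  obtain ⟨B, _, _, hfpB, α, β, hαβ, hsm, hsing⟩ :=
    exists_lift_desingularize π hR hΛ φ hπ γ g hfac
  -- elements of the singular radical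
  have hπB : algebraMap R Λ π ∈ (Smoothing.singularIdeal R B).map β := by
    rw [← β.commutes]
    refine Ideal.mem_map_of_mem β ?_
    rw [Smoothing.singularIdeal, PrimeSpectrum.mem_vanishingIdeal]
    intro p hp
    by_contra h
    exact hp (hsm p.asIdeal h)
  have hsub : ∀ c ∈ Smoothing.singularIdeal R' B', ∀ l : Λ, μ l = h' c →
      l ∈ Smoothing.singRad R β := by
    intro c hc l hl
    have h1 := hsing (Ideal.mem_map_of_mem g (hsingC hc))
    obtain ⟨l', hl', hll⟩ := (Ideal.mem_map_iff_of_surjective _ Ideal.Quotient.mk_surjective).1 h1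
    have h2 : l - l' ∈ RingHom.ker μ.toRingHom := by
      show μ (l - l') = 0
      rw [map_sub, hl, ← heΛ l', hll]
      show h' c - eΛ (eΛ.symm (h' c)) = 0
      rw [eΛ.apply_symm_apply, sub_self]
    rw [hkμ] at h2
    have h3 : algebraMap R Λ (π ^ 8) ∈ Smoothing.singRad R β := by
      rw [map_pow]
      exact Ideal.le_radical (Ideal.pow_mem_of_mem _ hπB 8 (by norm_num))
    simpa using add_mem ((Ideal.span_singleton_le_iff_mem _).2 h3 h2)
      (show l' ∈ Smoothing.singRad R β from hl')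
  have hkey : ∀ P : Ideal Λ, P.IsPrime → (Smoothing.singularIdeal R B).map β ≤ P →
      Smoothing.singRad R' h' ≤ P.map μ := by
    intro P hP hle'
    haveI := hP
    have hπP : RingHom.ker μ.toRingHom ≤ P := by
      rw [hkμ, Ideal.span_singleton_le_iff_mem, map_pow]
      exact Ideal.pow_mem_of_mem _ (hle' hπB) 8 (by norm_num)
    haveI : (P.map μ).IsPrime := Ideal.map_isPrime_of_surjective hμ hπP
    rw [Smoothing.singRad, (Ideal.IsPrime.isRadical ‹_›).radical_le_iff, Ideal.map_le_iff_le_comap]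
    intro c hc
    obtain ⟨l, hl⟩ := hμ (h' c)
    rw [Ideal.mem_comap, ← hl]
    exact Ideal.mem_map_of_mem μ (hP.radical_le_iff.2 hle' (hsub c hc l hl))
  refine ⟨B, inferInstance, inferInstance, hfpB, α, β, hαβ, ?_, ?_⟩
  · rw [Smoothing.singRad, Smoothing.singRad, Ideal.radical_le_radical_iff, Ideal.radical_eq_sInf]
    refine le_sInf ?_
    rintro P ⟨hle', hP⟩
    haveI := hP
    have hπP : RingHom.ker μ.toRingHom ≤ P := by
      rw [hkμ, Ideal.span_singleton_le_iff_mem, map_pow]
      exact Ideal.pow_mem_of_mem _ (hle' hπB) 8 (by norm_num)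
    refine Ideal.map_le_iff_le_comap.2 fun a ha => ?_
    haveI : Algebra.FinitePresentation R' A' := by
      haveI : Algebra.FinitePresentation R A' := Algebra.FinitePresentation.of_surjective hν
        (hkν ▸ Submodule.fg_span_singleton _)
      haveI : Algebra.FiniteType R R' :=
        Algebra.FiniteType.of_surjective (Algebra.ofId R R') hσ
      exact Algebra.FinitePresentation.of_restrict_scalars_finitePresentation R R' A'
    have hkνσ : RingHom.ker ν.toRingHom ≤ (RingHom.ker (algebraMap R R')).map (algebraMap R A) := by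
      rw [hkν, hkσ, Ideal.map_span, Set.image_singleton]
    have h1 : ν a ∈ Smoothing.singularIdeal R' A' :=
      map_singularIdeal_quotient ν hν hσ hkνσ (Ideal.mem_map_of_mem ν ha)
    have h2 : μ (φ a) ∈ P.map μ := by
      rw [← hφ']
      exact hkey P hP hle' (hle (Ideal.le_radical (Ideal.mem_map_of_mem φ' h1)))
    obtain ⟨p, hp, hpa⟩ := (Ideal.mem_map_iff_of_surjective _ hμ).1 h2
    have h3 : φ a - p ∈ P := hπP (show μ (φ a - p) = 0 by rw [map_sub, hpa, sub_self])
    show φ a ∈ P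
    simpa using add_mem h3 hp
  · intro h
    exact hnle (hkey 𝔮 ‹_› ((Ideal.le_radical (I := (Smoothing.singularIdeal R B).map β)).trans h))

end Groth.Agent.Smooth28
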