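import Groth.Agent.Smooth28.SynDim
import Groth.Agent.Smooth28.Det

/-! The bundle of a complement of the conormal module is a relative complete intersection. -/

set_option autoImplicit false
universe u

open MvPolynomial Groth.Agent.RelGCI94

namespace Groth.Agent.Smooth28

variable {R : Type u} [CommRing R] {n m : ℕ}

/-- the coupled equations -/
noncomputable def bundleRel (f : Fin m → MvPolynomial (Fin n) R)
    (E : Matrix (Fin m) (Fin m) (MvPolynomial (Fin n) R)) (i : Fin m) : MvPolynomial (Fin (n + m)) R :=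
  oldVars (f i) + bundleEq E i

theorem span_bundleRel_le (f : Fin m → MvPolynomial (Fin n) R)
    (E : Matrix (Fin m) (Fin m) (MvPolynomial (Fin n) R)) :
    Ideal.span (Set.range (bundleRel f E)) ≤ bundleIdeal f E :=
  Ideal.span_le.2 (by
    rintro _ ⟨i, rfl⟩
    exact add_mem (Ideal.subset_span (Or.inl ⟨i, rfl⟩)) (Ideal.subset_span (Or.inr ⟨i, rfl⟩)))

theorem bundleIdeal_le_sup (f : Fin m → MvPolynomial (Fin n) R)
    (E : Matrix (Fin m) (Fin m) (MvPolynomial (Fin n) R))
    (hE : ∀ i, f i - ∑ j, E i j * f j ∈ Ideal.span (Set.range f) ^ 2)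
    (hE2 : ∀ i j, (E * E) i j - E i j ∈ Ideal.span (Set.range f) ^ 2) :
    bundleIdeal f E ≤ Ideal.span (Set.range (bundleRel f E)) ⊔ bundleIdeal f E * bundleIdeal f E := by
  classical
  let J := bundleIdeal f E
  let K := Ideal.span (Set.range (bundleRel f E)) ⊔ J * J
  have hI2 : ∀ x ∈ Ideal.span (Set.range f) ^ 2, oldVars (m := m) x ∈ K := by
    intro x hx
    refine Submodule.mem_sup_right ?_
    have h1 : oldVars (m := m) x ∈ (Ideal.span (Set.range f) ^ 2).map (oldVars (R := R) (n := n) (m := m)) :=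
      Ideal.mem_map_of_mem _ hx
    rw [Ideal.map_pow, pow_two] at h1
    refine Ideal.mul_mono ?_ ?_ h1 <;>
    · rw [Ideal.map_span, Ideal.span_le]
      rintro _ ⟨_, ⟨i, rfl⟩, rfl⟩
      exact Ideal.subset_span (Or.inl ⟨i, rfl⟩)
  have hr : ∀ j, bundleRel f E j ∈ K := fun j => Submodule.mem_sup_left (Ideal.subset_span ⟨j, rfl⟩)
  have hg : ∀ i, bundleEq E i ∈ K := fun i => by
    have key : bundleEq E i = (bundleRel f E i - ∑ j, oldVars (E i j) * bundleRel f E j) -
        oldVars (f i - ∑ j, E i j * f j) - ∑ k, oldVars ((E * E) i k - E i k) * X (Fin.natAdd n k) := by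
      have h1 : ∑ j, oldVars (E i j) * ∑ k, oldVars (E j k) * X (Fin.natAdd n k) =
          ∑ k, oldVars ((E * E) i k) * (X (Fin.natAdd n k) : MvPolynomial (Fin (n + m)) R) := by
        simp only [Matrix.mul_apply, map_sum, map_mul, Finset.mul_sum, Finset.sum_mul, mul_assoc]
        exact Finset.sum_comm
      simp only [bundleRel, bundleEq, mul_add, mul_sub, Finset.sum_add_distrib, Finset.sum_sub_distrib,
        map_sub, map_sum, map_mul, sub_mul, h1]
      ring
    rw [key]
    refine sub_mem (sub_mem (sub_mem (hr i) (sum_mem fun j _ => Ideal.mul_mem_left _ _ (hr j))) (hI2 _ (hE i)))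
      (sum_mem fun k _ => Ideal.mul_mem_right _ _ (hI2 _ (hE2 i k)))
  refine Ideal.span_le.2 ?_
  rintro _ (⟨i, rfl⟩ | ⟨i, rfl⟩)
  · show oldVars (f i) ∈ K
    have := sub_mem (hr i) (hg i)
    rwa [bundleRel, add_sub_cancel_right] at this
  · exact hg i

theorem exists_away_bundle (f : Fin m → MvPolynomial (Fin n) R)
    (E : Matrix (Fin m) (Fin m) (MvPolynomial (Fin n) R))
    (hE : ∀ i, f i - ∑ j, E i j * f j ∈ Ideal.span (Set.range f) ^ 2)
    (hE2 : ∀ i j, (E * E) i j - E i j ∈ Ideal.span (Set.range f) ^ 2) :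
    ∃ g : MvPolynomial (Fin (n + m)) R, Nonempty
      (Synt.RelGCIRing R (n + m + 1) (m + 1) (RelGCI94.F' R (n + m) m (bundleRel f E) g) ≃ₐ[R]
        MvPolynomial (Fin (n + m)) R ⧸ bundleIdeal f E) := by
  let J := bundleIdeal f E
  have hfg : J.FG := Submodule.fg_span ((Set.finite_range _).union (Set.finite_range _))
  obtain ⟨g, d, hg, hgJ⟩ := exists_sub_pow_mem_and_mul_mem (J := Ideal.span (Set.range (bundleRel f E))) (Q := J)
    hfg 1 (fun x hx => by rw [one_mul]; exact bundleIdeal_le_sup f E hE hE2 hx)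
  rw [one_pow] at hg
  have hone : IsUnit (Ideal.Quotient.mk J g) := by
    rw [(Ideal.Quotient.mk_eq_mk_iff_sub_mem g 1).2 hg, map_one]
    exact isUnit_one
  let e₁ := awayQuotEquiv (Ideal.span (Set.range (bundleRel f E))) J (span_bundleRel_le f E) g
    fun y hy => ⟨1, by rw [pow_one]; exact hgJ y hy⟩
  let e₂ : (MvPolynomial (Fin (n + m)) R ⧸ J) ≃ₐ[R] Localization.Away (Ideal.Quotient.mk J g) :=
    (IsLocalization.atUnit _ _ (Ideal.Quotient.mk J g) hone).restrictScalars R
  exact ⟨g, ⟨((awayEquiv R (n + m) m (bundleRel f E) g).symm.trans e₁).trans e₂.symm⟩⟩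

theorem isRelGCI_bundle (f : Fin m → MvPolynomial (Fin n) R)
    (h : Synt.IsSyntomic R (MvPolynomial (Fin n) R ⧸ Ideal.span (Set.range f)))
    (E : Matrix (Fin m) (Fin m) (MvPolynomial (Fin n) R))
    (hE : ∀ c ∈ conormalRel f, ∀ j, (Matrix.vecMul c E) j ∈ Ideal.span (Set.range f))
    {F : Fin (m + 1) → MvPolynomial (Fin (n + m + 1)) R}
    (e : Synt.RelGCIRing R (n + m + 1) (m + 1) F ≃ₐ[R] MvPolynomial (Fin (n + m)) R ⧸ bundleIdeal f E) :
    Synt.IsRelGCI R (n + m + 1) (m + 1) F := by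
  intro p hp
  refine ⟨by omega, le_antisymm ?_ (le_dim_fiber R _ _ F p)⟩
  rw [show n + m + 1 - (m + 1) = n by omega]
  let J := (bundleIdeal f E).map (MvPolynomial.map (algebraMap R p.asIdeal.ResidueField))
  let e' : p.asIdeal.Fiber (Synt.RelGCIRing R (n + m + 1) (m + 1) F) ≃ₐ[p.asIdeal.ResidueField]
      MvPolynomial (Fin (n + m)) p.asIdeal.ResidueField ⧸ J :=
    (Algebra.TensorProduct.congr (AlgEquiv.refl : p.asIdeal.ResidueField ≃ₐ[p.asIdeal.ResidueField] _) e).trans
      (fibrePresEquiv (bundleIdeal f E) p.asIdeal)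
  rw [ringKrullDim_eq_of_ringEquiv e'.toRingEquiv]
  refine ringKrullDim_quotient_le J _ fun Q hQ => ?_
  have := hQ.1.1
  exact ringKrullDim_bundle_fibre_le f h E hE p.asIdeal Q hQ.1.2

end Groth.Agent.Smooth28
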