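import Groth.Agent.Smooth28.Det

/-! Local generators of the image of an idempotent matrix. -/

set_option autoImplicit false
universe u

open Matrix

namespace Groth.Agent.Smooth28

theorem exists_local_gens {S : Type u} [CommRing S] {m r : ℕ} (q : Ideal S) [q.IsPrime] (f : Fin m → S)
    (E : Matrix (Fin m) (Fin m) S) (hE : E * E = E) (G : S) (hG : G ∉ q)
    (a : Matrix (Fin m) (Fin r) S) (b : Matrix (Fin r) (Fin m) S)
    (h : ∀ i j, (a * b * E) i j - G * E i j ∈ q) :
    (∀ k, (b *ᵥ (E *ᵥ f)) k ∈ Ideal.span (Set.range (E *ᵥ f))) ∧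
    ∃ g ∉ q, G ∣ g ∧ ∀ x ∈ Ideal.span (Set.range (E *ᵥ f)), g * x ∈ Ideal.span (Set.range (b *ᵥ (E *ᵥ f))) := by
  classical
  let w := E *ᵥ f
  let u := b *ᵥ w
  refine ⟨fun k => ?_, ?_⟩
  · show ∑ j, b k j * w j ∈ Ideal.span (Set.range w)
    exact sum_mem fun j _ => Ideal.mul_mem_left _ _ (Ideal.subset_span (Set.mem_range_self j))
  have hw : E *ᵥ w = w := by rw [Matrix.mulVec_mulVec, hE]
  let D := E * (a * b * E - G • E)
  have hD : ∀ i j, D i j ∈ q := fun i j => by
    show (E * (a * b * E - G • E)) i j ∈ q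
    rw [Matrix.mul_apply]
    refine sum_mem fun l _ => Ideal.mul_mem_left _ _ ?_
    rw [Matrix.sub_apply, Matrix.smul_apply, smul_eq_mul]
    exact h l j
  have key : G • w = (E * a) *ᵥ u - D *ᵥ w := by
    simp only [D, u, Matrix.mul_sub, Matrix.sub_mulVec, Matrix.mul_smul, hE, Matrix.smul_mulVec, hw,
      ← Matrix.mulVec_mulVec]
    abel
  have hstep : ∀ x ∈ Ideal.span (Set.range w), G * x ∈ Ideal.span (Set.range u) ⊔ q * Ideal.span (Set.range w) := by
    intro x hx
    obtain ⟨c, rfl⟩ := Submodule.mem_span_range_iff_exists_fun _ |>.1 hx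
    rw [Finset.mul_sum]
    refine sum_mem fun i _ => ?_
    rw [smul_eq_mul, mul_left_comm, show G * w i = (G • w) i from rfl, key]
    refine Ideal.mul_mem_left _ _ (sub_mem (Submodule.mem_sup_left ?_) (Submodule.mem_sup_right ?_))
    · show ∑ j, (E * a) i j * u j ∈ Ideal.span (Set.range u)
      exact sum_mem fun j _ => Ideal.mul_mem_left _ _ (Ideal.subset_span (Set.mem_range_self j))
    · show ∑ j, D i j * w j ∈ q * Ideal.span (Set.range w)
      exact sum_mem fun j _ => Ideal.mul_mem_mul (hD i j) (Ideal.subset_span (Set.mem_range_self j))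
  obtain ⟨g, d, hg, hgx⟩ := exists_sub_pow_mem_and_mul_mem (Submodule.fg_span (Set.finite_range w)) G hstep
  have hgq : g ∉ q := fun hm => hG (Ideal.IsPrime.mem_of_pow_mem inferInstance d (by
    simpa using sub_mem hm hg))
  refine ⟨G * g, Ideal.IsPrime.mul_notMem inferInstance hG hgq, dvd_mul_right _ _, fun x hx => ?_⟩
  rw [mul_assoc]
  exact Ideal.mul_mem_left _ _ (hgx x hx)

end Groth.Agent.Smooth28
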