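import Groth.Agent.Smooth28.SynSpread
import Groth.Agent.Smooth28.SynEtale
import Groth.Agent.Smooth28.SynGens

/-! Syntomic charts of the lifted algebra along the closed subscheme. -/

set_option autoImplicit false
universe u

open MvPolynomial Matrix Groth.Agent.RelGCI94

namespace Groth.Agent.Smooth28

variable {R : Type u} [CommRing R]

theorem mem_of_map_mem_span {n m : ℕ} (I : Ideal R) (f : Fin m → MvPolynomial (Fin n) R) (y : MvPolynomial (Fin n) R)
    (hy : MvPolynomial.map (Ideal.Quotient.mk I) y ∈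
      Ideal.span (Set.range fun i => MvPolynomial.map (Ideal.Quotient.mk I) (f i))) :
    y ∈ I.map MvPolynomial.C ⊔ Ideal.span (Set.range f) := by
  let red := MvPolynomial.map (σ := Fin n) (Ideal.Quotient.mk I)
  have h1 : y ∈ ((Ideal.span (Set.range f)).map red).comap red := by
    rw [Ideal.map_span, ← Set.range_comp]
    exact hy
  rw [Ideal.comap_map_of_surjective red (MvPolynomial.map_surjective (Ideal.Quotient.mk I) Ideal.Quotient.mk_surjective),
    ← RingHom.ker_eq_comap_bot, MvPolynomial.ker_map, Ideal.mk_ker, sup_comm] at h1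
  exact h1

theorem exists_syntomic_chart (I : Ideal R) {n m : ℕ} (f : Fin m → MvPolynomial (Fin n) R)
    (E : Matrix (Fin m) (Fin m) (MvPolynomial (Fin n) R))
    (K : Ideal (MvPolynomial (Fin n) R)) (hK : K = I.map MvPolynomial.C ⊔ Ideal.span (Set.range f))
    (h₀ : Synt.IsSyntomic (R ⧸ I) (MvPolynomial (Fin n) (R ⧸ I) ⧸
      Ideal.span (Set.range fun i => MvPolynomial.map (Ideal.Quotient.mk I) (f i))))
    (hrel : ∀ c ∈ conormalRel (fun i => MvPolynomial.map (Ideal.Quotient.mk I) (f i)), ∀ j,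
      (c ᵥ* E.map (MvPolynomial.map (Ideal.Quotient.mk I))) j ∈
        Ideal.span (Set.range fun i => MvPolynomial.map (Ideal.Quotient.mk I) (f i)))
    (P' : Type u) [CommRing P'] [Algebra R P'] [Algebra (MvPolynomial (Fin n) R) P']
    [IsScalarTower R (MvPolynomial (Fin n) R) P'] [Algebra.IsStandardSmoothOfRelativeDimension n R P']
    (θ : P' →ₐ[MvPolynomial (Fin n) R] MvPolynomial (Fin n) R ⧸ K) (E' : Matrix (Fin m) (Fin m) P')
    (hE' : E' * E' = E') (hθE : ∀ i j, θ (E' i j) = Ideal.Quotient.mk K (E i j))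
    (J : Ideal P') (hJ : J = Ideal.span (Set.range (E' *ᵥ fun j => algebraMap (MvPolynomial (Fin n) R) P' (f j))))
    (hθ : RingHom.ker θ.toRingHom = I.map (algebraMap R P') ⊔ J)
    (q : Ideal P') [q.IsPrime] (hq : RingHom.ker θ.toRingHom ≤ q) :
    ∃ a ∉ q, Synt.IsSyntomic R (Localization.Away (Ideal.Quotient.mk J a)) := by
  classical
  let α : MvPolynomial (Fin n) R →+* P' := algebraMap _ P'
  let red : MvPolynomial (Fin n) R →+* MvPolynomial (Fin n) (R ⧸ I) := MvPolynomial.map (Ideal.Quotient.mk I)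
  have hreds : Function.Surjective red := MvPolynomial.map_surjective _ Ideal.Quotient.mk_surjective
  let f₀ := fun i => red (f i)
  let Q := q.comap α
  have hKθ : ∀ y ∈ K, θ (α y) = 0 := fun y hy => by
    rw [AlgHom.commutes]
    exact Ideal.Quotient.eq_zero_iff_mem.2 hy
  have hkr : RingHom.ker red ≤ Q := fun y hy => hq (hKθ y (hK ▸ Submodule.mem_sup_left (by
    rwa [MvPolynomial.ker_map, Ideal.mk_ker] at hy)))
  let Q₀ := Q.map red
  have : Q₀.IsPrime := Ideal.map_isPrime_of_surjective hreds hkr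
  have hQ₀ : Q₀.comap red = Q := by
    rw [Ideal.comap_map_of_surjective _ hreds, ← RingHom.ker_eq_comap_bot, sup_eq_left.2 hkr]
  have hf₀ : Ideal.span (Set.range f₀) ≤ Q₀ := Ideal.span_le.2 (by
    rintro _ ⟨i, rfl⟩
    exact Ideal.mem_map_of_mem _ (hq (hKθ _ (hK ▸ Submodule.mem_sup_right (Ideal.subset_span ⟨i, rfl⟩)))))
  obtain ⟨G₀, hG₀, r, a₀, b₀, hab, -, hr⟩ := exists_syn_local_nhd f₀ h₀ Q₀ hf₀
  have hrn : r ≤ n := by
    have h1 := hr Q₀ hf₀ hG₀
    obtain ⟨d, ht, -, hh, hsum⟩ := ringKrullDim_mvPolynomial_quotient_add_height (LCI19.fibPrime Q₀)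
    rw [hh, Nat.cast_le] at h1
    omega
  obtain ⟨G, rfl⟩ := hreds G₀
  choose a ha using fun i k => hreds (a₀ i k)
  choose b hb using fun k j => hreds (b₀ k j)
  have hGQ : α G ∉ q := fun hm => hG₀ (Ideal.mem_map_of_mem _ (show G ∈ Q from hm))
  have hGE : ∀ i j, (∑ l, (∑ k, a i k * b k l) * E l j) - G * E i j ∈ K := fun i j => by
    have hc : (fun l => (if i = l then red G else 0) - (a₀ * b₀) i l) ∈ conormalRel f₀ := by
      rw [mem_conormalRel]
      have : ∑ l, ((if i = l then red G else 0) - (a₀ * b₀) i l) * f₀ l = 0 := by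
        simp only [sub_mul, Finset.sum_sub_distrib, hab, ite_mul, zero_mul, Finset.sum_ite_eq,
          Finset.mem_univ, if_true, sub_self]
      rw [this]
      exact zero_mem _
    rw [hK]
    refine mem_of_map_mem_span I f _ ?_
    have h1 := neg_mem (hrel _ hc j)
    simp only [Matrix.vecMul, dotProduct, sub_mul, Finset.sum_sub_distrib, ite_mul, zero_mul, Finset.sum_ite_eq,
      Finset.mem_univ, if_true, Matrix.map_apply, neg_sub, Matrix.mul_apply] at h1
    show red _ ∈ _
    simp only [map_sub, map_sum, map_mul, ha, hb]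
    exact h1
  let aq : Matrix (Fin m) (Fin r) P' := Matrix.of fun i k => α (a i k)
  let bq : Matrix (Fin r) (Fin m) P' := Matrix.of fun k j => α (b k j)
  have hq' : ∀ i j, (aq * bq * E') i j - α G * E' i j ∈ q := fun i j => by
    refine hq ?_
    rw [RingHom.mem_ker]
    show θ _ = 0
    simp only [Matrix.mul_apply, aq, bq, Matrix.of_apply, map_sub, map_sum, map_mul, hθE, α, AlgHom.commutes,
      Ideal.Quotient.algebraMap_eq]
    have h2 := Ideal.Quotient.eq_zero_iff_mem.2 (hGE i j)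
    simp only [map_sub, map_sum, map_mul] at h2
    exact h2
  obtain ⟨hu, g, hgq, ⟨w, rfl⟩, hgJ⟩ := exists_local_gens q (fun j => α (f j)) E' hE' (α G) hGQ aq bq hq'
  rw [← hJ] at hu hgJ
  obtain ⟨ι, σ, _, _, Pr, hPr⟩ := Algebra.IsStandardSmoothOfRelativeDimension.out (n := n) (R := R) (S := P')
  let := Fintype.ofFinite ι
  let := Fintype.ofFinite σ
  obtain ⟨N, ⟨eι⟩⟩ : ∃ N, Nonempty (Fin N ≃ ι) := ⟨_, ⟨(Fintype.equivFin ι).symm⟩⟩
  obtain ⟨c, ⟨eσ⟩⟩ : ∃ c, Nonempty (Fin c ≃ σ) := ⟨_, ⟨(Fintype.equivFin σ).symm⟩⟩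
  have hcount : c + n = N := by
    have h1 : c ≤ N := by
      simpa using (Pr.reindex eι eσ).toPreSubmersivePresentation.card_relations_le_card_vars_of_isFinite
    rw [Algebra.Presentation.dimension, ← Nat.card_congr eι, ← Nat.card_congr eσ, Nat.card_fin, Nat.card_fin] at hPr
    omega
  obtain ⟨F, ⟨ε⟩⟩ := exists_away_presentation (presEquiv (Pr.reindex eι eσ).toPresentation) J _ hu _ hgJ
  let Tg := Localization.Away (Ideal.Quotient.mk J (α G * w))
  let χ₀ : P' →ₐ[R] Tg := (IsScalarTower.toAlgHom R (P' ⧸ J) Tg).comp (Ideal.Quotient.mkₐ R J)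
  let χ : MvPolynomial (Fin n) R →ₐ[R] Tg := χ₀.comp (IsScalarTower.toAlgHom R _ P')
  have hθI : ∀ x, θ x = 0 → χ₀ x ∈ I.map (algebraMap R Tg) := by
    intro x hx
    have h1 : x ∈ I.map (algebraMap R P') ⊔ J := hθ ▸ (hx : x ∈ RingHom.ker θ.toRingHom)
    obtain ⟨y, hy, z, hz, rfl⟩ := Submodule.mem_sup.1 h1
    rw [map_add, show χ₀ z = 0 from by
      show algebraMap _ Tg (Ideal.Quotient.mk J z) = 0
      rw [Ideal.Quotient.eq_zero_iff_mem.2 hz, map_zero], add_zero]
    have h2 := Ideal.mem_map_of_mem χ₀.toRingHom hy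
    rwa [Ideal.map_map, show χ₀.toRingHom.comp (algebraMap R P') = algebraMap R Tg from RingHom.ext χ₀.commutes] at h2
  have hsec : ∀ x, ∃ y, x - α y ∈ RingHom.ker θ.toRingHom := fun x => by
    obtain ⟨y, hy⟩ := Ideal.Quotient.mk_surjective (θ x)
    refine ⟨y, ?_⟩
    show θ (x - α y) = 0
    rw [map_sub, AlgHom.commutes, Ideal.Quotient.algebraMap_eq, hy, sub_self]
  obtain ⟨w', hw'⟩ := hsec w
  have hgw : χ₀ (α G * w) - χ (G * w') ∈ I.map (algebraMap R Tg) := by
    show χ₀ (α G * w) - χ₀ (α (G * w')) ∈ _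
    rw [← map_sub]
    refine hθI _ ?_
    rw [map_mul, ← mul_sub, map_mul, show θ (w - α w') = 0 from hw', mul_zero]
  have hunit : IsUnit (χ₀ (α G * w)) :=
    IsLocalization.Away.algebraMap_isUnit (S := Tg) (Ideal.Quotient.mk J (α G * w))
  have hgpow : ∀ k : ℕ, χ₀ (α G * w) ^ k - χ (G * w') ^ k ∈ I.map (algebraMap R Tg) := fun k => by
    obtain ⟨d, hd⟩ := sub_dvd_pow_sub_pow (χ₀ (α G * w)) (χ (G * w')) k
    rw [hd]
    exact Ideal.mul_mem_right _ _ hgw
  obtain ⟨v, hv⟩ := hunit.exists_right_inv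
  obtain ⟨z, hz, hsyn⟩ : ∃ z : Tg, z - 1 ∈ I.map (algebraMap R Tg) ∧ Synt.IsSyntomic R (Localization.Away z) := by
    refine exists_syntomic_away_of_fibre I F ε hrn (by omega) χ (G * w') v ?_ (fun t => ?_)
      (Ideal.span (Set.range f₀)) (fun y hy => hθI _ (hKθ _ (hK ▸ mem_of_map_mem_span I f y hy)))
      (fun Q₁ _ h1 h2 => hr Q₁ h1 fun hm => h2 ?_)
    · have h1 := Ideal.mul_mem_right v _ hgw
      rw [sub_mul, hv] at h1
      rw [← neg_sub]
      exact neg_mem h1
    · obtain ⟨k, x, hx⟩ := IsLocalization.Away.surj (Ideal.Quotient.mk J (α G * w)) t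
      obtain ⟨x, rfl⟩ := Ideal.Quotient.mk_surjective x
      obtain ⟨y, hy⟩ := hsec x
      refine ⟨k, y, ?_⟩
      have h1 : t * χ₀ (α G * w) ^ k = χ₀ x := hx
      have h2 : χ₀ x - χ y ∈ I.map (algebraMap R Tg) := by
        show χ₀ x - χ₀ (α y) ∈ _
        rw [← map_sub]
        exact hθI _ hy
      have h3 := Ideal.mul_mem_left _ t (hgpow k)
      rw [mul_sub, h1] at h3
      rw [show t * χ (G * w') ^ k - χ y = (χ₀ x - χ y) - (χ₀ x - t * χ (G * w') ^ k) by ring]
      exact sub_mem h2 h3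
    · rw [map_mul]
      exact Ideal.mul_mem_right _ _ hm
  obtain ⟨k, x, hx⟩ := IsLocalization.Away.surj (Ideal.Quotient.mk J (α G * w)) z
  obtain ⟨x, rfl⟩ := Ideal.Quotient.mk_surjective x
  have hxq : x ∉ q := by
    intro hm
    let qb := q.map (Ideal.Quotient.mk J)
    have hJq : J ≤ q := le_trans (le_trans le_sup_right hθ.ge) hq
    have hqb : qb.comap (Ideal.Quotient.mk J) = q := by
      show (q.map _).comap _ = q
      rw [Ideal.comap_map_of_surjective _ Ideal.Quotient.mk_surjective, ← RingHom.ker_eq_comap_bot, Ideal.mk_ker,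
        sup_eq_left.2 hJq]
    have : qb.IsPrime := Ideal.map_isPrime_of_surjective Ideal.Quotient.mk_surjective (by rw [Ideal.mk_ker]; exact hJq)
    have hdis : Disjoint (Submonoid.powers (Ideal.Quotient.mk J (α G * w)) : Set (P' ⧸ J)) qb := by
      rw [Ideal.disjoint_powers_iff_notMem _ (Ideal.IsPrime.isRadical inferInstance)]
      exact fun hm' => hgq (hqb ▸ hm')
    let qT := qb.map (algebraMap (P' ⧸ J) Tg)
    have hqT : qT.IsPrime := IsLocalization.isPrime_of_isPrime_disjoint (Submonoid.powers _) Tg qb inferInstance hdis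
    have hIq : I.map (algebraMap R Tg) ≤ qT := Ideal.map_le_iff_le_comap.2 fun r hr' => by
      rw [Ideal.mem_comap, IsScalarTower.algebraMap_apply R (P' ⧸ J) Tg]
      refine Ideal.mem_map_of_mem _ (Ideal.mem_map_of_mem _ (hq (hθ ▸ Submodule.mem_sup_left ?_)))
      exact Ideal.mem_map_of_mem _ hr'
    have h1 : z * algebraMap (P' ⧸ J) Tg (Ideal.Quotient.mk J (α G * w)) ^ k ∈ qT := by
      rw [hx]
      exact Ideal.mem_map_of_mem _ (Ideal.mem_map_of_mem _ hm)
    have h2 : (1 : Tg) ∈ qT := by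
      have h3 := (Ideal.mul_unit_mem_iff_mem _ ((IsLocalization.Away.algebraMap_isUnit (S := Tg) _).pow k)).1 h1
      simpa using sub_mem h3 (hIq hz)
    exact hqT.ne_top ((Ideal.eq_top_iff_one _).2 h2)
  refine ⟨x * (α G * w), Ideal.IsPrime.mul_notMem inferInstance hxq hgq, ?_⟩
  have : IsLocalization.Away (algebraMap (P' ⧸ J) Tg (Ideal.Quotient.mk J x)) (Localization.Away z) :=
    IsLocalization.Away.of_associated ⟨((IsLocalization.Away.algebraMap_isUnit (S := Tg) _).pow k).unit, hx⟩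
  have : IsLocalization.Away (Ideal.Quotient.mk J (x * (α G * w))) (Localization.Away z) := by
    rw [map_mul]
    exact IsLocalization.Away.mul Tg _ _ _
  exact isSyntomic_congr ((IsLocalization.algEquiv (Submonoid.powers (Ideal.Quotient.mk J (x * (α G * w))))
    (Localization.Away z) _).restrictScalars R) hsyn

end Groth.Agent.Smooth28
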