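import Mathlib.RingTheory.Spectrum.Prime.Basic
import Mathlib.RingTheory.Localization.Away.Basic
import Mathlib.LinearAlgebra.Matrix.Notation
import Mathlib.RingTheory.Ideal.Colon
import Mathlib.Tactic

/-! A splitting of the conormal module, in terms of generators. -/

set_option autoImplicit false
universe u

open scoped Matrix

namespace Groth.Agent.Smooth28

variable {P : Type u} [CommRing P] {m : ℕ}

/-- relations of the classes of `f` in the conormal module -/
def conormalRel (f : Fin m → P) : Submodule P (Fin m → P) where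
  carrier := {c | ∑ i, c i * f i ∈ Ideal.span (Set.range f) ^ 2}
  add_mem' {a b} ha hb := by
    simp only [Set.mem_ofPred_eq, Pi.add_apply, add_mul, Finset.sum_add_distrib]
    exact add_mem ha hb
  zero_mem' := by simp
  smul_mem' r a ha := by
    simp only [Set.mem_ofPred_eq, Pi.smul_apply, smul_eq_mul, mul_assoc, ← Finset.mul_sum]
    exact Ideal.mul_mem_left _ _ ha

theorem mem_conormalRel {f : Fin m → P} {c : Fin m → P} :
    c ∈ conormalRel f ↔ ∑ i, c i * f i ∈ Ideal.span (Set.range f) ^ 2 := Iff.rfl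

/-- local data of a conormal module which is free near a point -/
def LocFree (f : Fin m → P) (Q : Ideal P) : Prop :=
  ∃ G ∉ Q, ∃ (r : ℕ) (a : Matrix (Fin m) (Fin r) P) (b : Matrix (Fin r) (Fin m) P),
    (∀ i, ∑ j, (a * b) i j * f j = G * f i) ∧
      ∀ c ∈ conormalRel f, ∃ k : ℕ, ∀ l, G ^ k * (c ᵥ* a) l ∈ Ideal.span (Set.range f)

theorem LocFree.exists_gens {f : Fin m → P} {Q : Ideal P} (h : LocFree f Q) :
    ∃ G ∉ Q, ∃ S : Finset (Fin m → P), (∀ v ∈ S, v ∈ conormalRel f) ∧
      ∀ c ∈ conormalRel f, ∃ k : ℕ, G ^ k • c ∈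
        Submodule.span P (S : Set (Fin m → P)) ⊔ Ideal.span (Set.range f) • ⊤ := by
  classical
  obtain ⟨G, hG, r, a, b, hab, hrel⟩ := h
  let v : Fin m → Fin m → P := fun i j => (if i = j then G else 0) - (a * b) i j
  refine ⟨G, hG, Finset.univ.image v, fun w hw => ?_, fun c hc => ?_⟩
  · obtain ⟨i, -, rfl⟩ := Finset.mem_image.1 hw
    rw [mem_conormalRel]
    have : ∑ j, v i j * f j = 0 := by
      simp only [v, sub_mul, Finset.sum_sub_distrib, hab, ite_mul, zero_mul, Finset.sum_ite_eq,
        Finset.mem_univ, if_true, sub_self]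
    rw [this]
    exact zero_mem _
  · obtain ⟨k, hk⟩ := hrel c hc
    refine ⟨k + 1, ?_⟩
    have heq : G ^ (k + 1) • c =
        ∑ i, (G ^ k * c i) • v i + ∑ l, (G ^ k * (c ᵥ* a) l) • b l := by
      ext j
      simp only [Pi.smul_apply, smul_eq_mul, Pi.add_apply, Finset.sum_apply, v, mul_sub,
        Finset.sum_sub_distrib, mul_ite, mul_zero, Finset.sum_ite_eq', Finset.mem_univ, if_true,
        Matrix.mul_apply, Matrix.vecMul, dotProduct, Finset.mul_sum, Finset.sum_mul]
      rw [Finset.sum_comm]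
      have hr : ∀ y : Fin r, ∀ i : Fin m, G ^ k * c i * (a i y * b y j) = G ^ k * (c i * a i y) * b y j :=
        fun y i => by ring
      simp only [hr]
      ring
    rw [heq]
    refine add_mem (Submodule.mem_sup_left ?_) (Submodule.mem_sup_right ?_)
    · exact sum_mem fun i _ => Submodule.smul_mem _ _
        (Submodule.subset_span (Finset.mem_image_of_mem _ (Finset.mem_univ i)))
    · exact sum_mem fun l _ => Submodule.smul_mem_smul (hk l) Submodule.mem_top

/-- finite generation of the relations modulo the ideal -/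
theorem exists_gens_conormalRel (f : Fin m → P)
    (h : ∀ Q : Ideal P, Q.IsPrime → Ideal.span (Set.range f) ≤ Q → LocFree f Q) :
    ∃ S : Finset (Fin m → P), (∀ v ∈ S, v ∈ conormalRel f) ∧
      conormalRel f ≤ Submodule.span P (S : Set (Fin m → P)) ⊔ Ideal.span (Set.range f) • ⊤ := by
  classical
  let U : Set P := {x | ∃ S : Finset (Fin m → P), (∀ v ∈ S, v ∈ conormalRel f) ∧
      ∀ c ∈ conormalRel f, ∃ k : ℕ, x ^ k • c ∈
        Submodule.span P (S : Set (Fin m → P)) ⊔ Ideal.span (Set.range f) • ⊤}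
  have hU : Ideal.span U = ⊤ := by
    by_contra hne
    obtain ⟨M, hM, hle⟩ := Ideal.exists_le_maximal _ hne
    have hI : Ideal.span (Set.range f) ≤ M := fun x hx =>
      hle (Ideal.subset_span ⟨∅, by simp, fun c _ => ⟨1, by
        rw [pow_one]
        exact Submodule.mem_sup_right (Submodule.smul_mem_smul hx Submodule.mem_top)⟩⟩)
    obtain ⟨G, hG, S, hS, hk⟩ := (h M hM.isPrime hI).exists_gens
    exact hG (hle (Ideal.subset_span ⟨S, hS, hk⟩))
  obtain ⟨T, hTU, hT⟩ := (Ideal.span_eq_top_iff_finite U).1 hU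
  choose S hS hk using fun x : T => hTU x.2
  refine ⟨Finset.univ.biUnion S, fun v hv => ?_, fun c hc => ?_⟩
  · obtain ⟨x, -, hx⟩ := Finset.mem_biUnion.1 hv
    exact hS x v hx
  · choose k hk' using fun x : T => hk x c hc
    refine Submodule.mem_of_span_top_of_smul_mem _ _ (Ideal.span_range_pow_eq_top _ hT k) _ ?_
    rintro ⟨_, x, rfl⟩
    have hle : Submodule.span P (S x : Set (Fin m → P)) ≤
        Submodule.span P ((Finset.univ.biUnion S : Finset (Fin m → P)) : Set (Fin m → P)) :=
      Submodule.span_mono (Finset.coe_subset.2 (Finset.subset_biUnion_of_mem S (Finset.mem_univ x)))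
    exact (sup_le (hle.trans le_sup_left) le_sup_right :
      Submodule.span P (S x : Set (Fin m → P)) ⊔ Ideal.span (Set.range f) • ⊤ ≤ _) (hk' x)

/-- elements carrying a scaled splitting -/
def splitIdeal (f : Fin m → P) : Ideal P where
  carrier := {x | ∃ E : Matrix (Fin m) (Fin m) P,
    (∀ i, x * f i - ∑ j, E i j * f j ∈ Ideal.span (Set.range f) ^ 2) ∧
      ∀ c ∈ conormalRel f, ∀ j, (c ᵥ* E) j ∈ Ideal.span (Set.range f)}
  add_mem' := by
    rintro x y ⟨E, hE, hE'⟩ ⟨E₁, hE₁, hE₁'⟩
    refine ⟨E + E₁, fun i => ?_, fun c hc j => ?_⟩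
    · convert add_mem (hE i) (hE₁ i) using 1
      simp only [Matrix.add_apply, add_mul, Finset.sum_add_distrib]
      ring
    · rw [Matrix.vecMul_add, Pi.add_apply]
      exact add_mem (hE' c hc j) (hE₁' c hc j)
  zero_mem' := ⟨0, fun i => by simp, fun c _ j => by simp⟩
  smul_mem' := by
    rintro a x ⟨E, hE, hE'⟩
    refine ⟨a • E, fun i => ?_, fun c hc j => ?_⟩
    · convert Ideal.mul_mem_left _ a (hE i) using 1
      simp only [Matrix.smul_apply, smul_eq_mul, mul_sub, Finset.mul_sum, mul_assoc]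
    · rw [Matrix.vecMul_smul, Pi.smul_apply, smul_eq_mul]
      exact Ideal.mul_mem_left _ a (hE' c hc j)

/-- **A locally free conormal module splits off a free one.** -/
theorem exists_conormal_split (f : Fin m → P)
    (h : ∀ Q : Ideal P, Q.IsPrime → Ideal.span (Set.range f) ≤ Q → LocFree f Q) :
    ∃ E : Matrix (Fin m) (Fin m) P,
      (∀ i, f i - ∑ j, E i j * f j ∈ Ideal.span (Set.range f) ^ 2) ∧
        ∀ c ∈ conormalRel f, ∀ j, (c ᵥ* E) j ∈ Ideal.span (Set.range f) := by
  classical
  suffices hs : splitIdeal f = ⊤ by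
    obtain ⟨E, hE, hE'⟩ := (Ideal.eq_top_iff_one _).1 hs
    exact ⟨E, fun i => by simpa using hE i, hE'⟩
  by_contra hne
  obtain ⟨M, hM, hle⟩ := Ideal.exists_le_maximal _ hne
  have hI : Ideal.span (Set.range f) ≤ M := fun x hx => hle ⟨0, fun i => by
      simpa [pow_two] using Ideal.mul_mem_mul hx (Ideal.subset_span (Set.mem_range_self i)),
    fun c _ j => by simp⟩
  obtain ⟨S, hS, hgen⟩ := exists_gens_conormalRel f h
  obtain ⟨G, hG, r, a, b, hab, hrel⟩ := h M hM.isPrime hI
  choose k hk using fun v : S => hrel v (hS v v.2)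
  let N := ∑ v : S, k v
  let W : Submodule P (Fin m → P) :=
    { carrier := {c | ∀ l, G ^ N * (c ᵥ* a) l ∈ Ideal.span (Set.range f)}
      add_mem' := fun {x y} hx hy l => by
        rw [Matrix.add_vecMul, Pi.add_apply, mul_add]
        exact add_mem (hx l) (hy l)
      zero_mem' := fun l => by simp
      smul_mem' := fun t x hx l => by
        rw [Matrix.smul_vecMul, Pi.smul_apply, smul_eq_mul, mul_left_comm]
        exact Ideal.mul_mem_left _ _ (hx l) }
  have hW : conormalRel f ≤ W := by
    refine hgen.trans (sup_le (Submodule.span_le.2 fun v hv l => ?_) ?_)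
    · have hle' : k ⟨v, hv⟩ ≤ N := Finset.single_le_sum (fun _ _ => Nat.zero_le _) (Finset.mem_univ _)
      rw [← Nat.sub_add_cancel hle', pow_add, mul_assoc]
      exact Ideal.mul_mem_left _ _ (hk ⟨v, hv⟩ l)
    · refine Submodule.smul_le.2 fun x hx c _ l => ?_
      rw [Matrix.smul_vecMul, Pi.smul_apply, smul_eq_mul, mul_left_comm]
      exact Ideal.mul_mem_right _ _ hx
  refine hM.isPrime.mem_of_pow_mem (N + 1) (hle ⟨G ^ N • (a * b), fun i => ?_, fun c hc j => ?_⟩) |> hG
  · simp only [Matrix.smul_apply, smul_eq_mul, mul_assoc, ← Finset.mul_sum, hab, pow_succ]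
    rw [sub_self]
    exact zero_mem _
  · rw [Matrix.vecMul_smul, ← Matrix.vecMul_vecMul, Pi.smul_apply, smul_eq_mul]
    simp only [Matrix.vecMul, dotProduct, Finset.mul_sum]
    refine sum_mem fun l _ => ?_
    rw [← mul_assoc]
    exact Ideal.mul_mem_right _ _ (hW hc l)

/-- A splitting can be taken idempotent modulo the square of the ideal. -/
theorem exists_conormal_idem (f : Fin m → P)
    (h : ∀ Q : Ideal P, Q.IsPrime → Ideal.span (Set.range f) ≤ Q → LocFree f Q) :
    ∃ E : Matrix (Fin m) (Fin m) P,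
      (∀ i, f i - ∑ j, E i j * f j ∈ Ideal.span (Set.range f) ^ 2) ∧
      (∀ c ∈ conormalRel f, ∀ j, (c ᵥ* E) j ∈ Ideal.span (Set.range f)) ∧
      ∀ i j, (E * E) i j - E i j ∈ Ideal.span (Set.range f) ^ 2 := by
  classical
  obtain ⟨E, hE, hE'⟩ := exists_conormal_split f h
  let I := Ideal.span (Set.range f)
  let π := Ideal.Quotient.mk I
  have hidem : ∀ i j, π ((E * E) i j) = π (E i j) := fun i j => by
    rw [Ideal.Quotient.eq]
    have hc : (fun l => E i l - if i = l then 1 else 0) ∈ conormalRel f := by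
      rw [mem_conormalRel]
      have : ∑ l, (E i l - if i = l then (1 : P) else 0) * f l = -(f i - ∑ l, E i l * f l) := by
        simp only [sub_mul, Finset.sum_sub_distrib, ite_mul, one_mul, zero_mul, Finset.sum_ite_eq,
          Finset.mem_univ, if_true, neg_sub]
      rw [this]
      exact neg_mem (hE i)
    have := hE' _ hc j
    simp only [Matrix.vecMul, dotProduct, sub_mul, Finset.sum_sub_distrib, ite_mul, one_mul, zero_mul,
      Finset.sum_ite_eq, Finset.mem_univ, if_true] at this
    rw [Matrix.mul_apply]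
    exact this
  let E₁ := 3 • (E * E) - 2 • (E * E * E)
  have hmap : π.mapMatrix (E * E) = π.mapMatrix E := Matrix.ext hidem
  have h3 : π.mapMatrix (E * E * E) = π.mapMatrix E := by
    rw [map_mul, hmap, ← map_mul, hmap]
  have hE₁ : π.mapMatrix E₁ = π.mapMatrix E := by
    show π.mapMatrix (3 • (E * E) - 2 • (E * E * E)) = _
    rw [map_sub, map_nsmul, map_nsmul, hmap, h3]
    abel
  have hI : ∀ (x y : Matrix (Fin m) (Fin m) P), π.mapMatrix x = 0 → π.mapMatrix y = 0 →
      ∀ i j, (x * y) i j ∈ I ^ 2 := fun x y hx hy i j => by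
    rw [Matrix.mul_apply, pow_two]
    exact sum_mem fun l _ => Ideal.mul_mem_mul (Ideal.Quotient.eq_zero_iff_mem.1 (congrFun (congrFun hx i) l))
      (Ideal.Quotient.eq_zero_iff_mem.1 (congrFun (congrFun hy l) j))
  have hD : ∀ i j, E₁ i j - E i j ∈ I := fun i j =>
    Ideal.Quotient.eq.1 (congrFun (congrFun hE₁ i) j)
  refine ⟨E₁, fun i => ?_, fun c hc j => ?_, fun i j => ?_⟩
  · have : f i - ∑ j, E₁ i j * f j = (f i - ∑ j, E i j * f j) - ∑ j, (E₁ i j - E i j) * f j := by
      simp only [sub_mul, Finset.sum_sub_distrib]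
      ring
    rw [this]
    refine sub_mem (hE i) (sum_mem fun l _ => ?_)
    rw [pow_two]
    exact Ideal.mul_mem_mul (hD i l) (Ideal.subset_span (Set.mem_range_self l))
  · have : (c ᵥ* E₁) j = (c ᵥ* E) j + ∑ i, c i * (E₁ i j - E i j) := by
      simp only [Matrix.vecMul, dotProduct, mul_sub, Finset.sum_sub_distrib]
      ring
    rw [this]
    exact add_mem (hE' c hc j) (sum_mem fun l _ => Ideal.mul_mem_left _ _ (hD l j))
  · have hN : π.mapMatrix (E * E - E) = 0 := by rw [map_sub, hmap, sub_self]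
    have hid : E₁ * E₁ - E₁ = (E * E - E) * ((E * E - E) * (4 • (E * E - E) - 3 • 1)) := by
      simp only [E₁, sub_mul, mul_sub, smul_mul_assoc, mul_smul_comm, mul_one, smul_sub, mul_assoc]
      abel
    rw [← Matrix.sub_apply, hid]
    exact hI _ _ hN (by rw [map_mul, hN, zero_mul]) i j

end Groth.Agent.Smooth28
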