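import Groth.Agent.E4O.DimField

/-! Dimension of a domain generated by elements lying in few directions. -/

set_option autoImplicit false
universe u

open MvPolynomial

namespace Groth.Agent.Smooth28

theorem ringKrullDim_le_add_of_span {κ B B' : Type u} [Field κ] [CommRing B] [IsDomain B] [Algebra κ B]
    [Algebra.FiniteType κ B] [CommRing B'] [IsDomain B'] [Algebra κ B'] [Algebra.FiniteType κ B']
    [Algebra B B'] [IsScalarTower κ B B'] (hinj : Function.Injective (algebraMap B B'))
    {m r d : ℕ} (y : Fin m → B') (hy : Function.Surjective (aeval (R := B) y)) (z : Fin r → B')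
    (G : B) (hG : G ≠ 0) (a : Fin m → Fin r → B) (h : ∀ i, algebraMap B B' G * y i = ∑ k, algebraMap B B' (a i k) * z k)
    (hd : ringKrullDim B ≤ (d : WithBot ℕ∞)) : ringKrullDim B' ≤ ((d + r : ℕ) : WithBot ℕ∞) := by
  classical
  have : FaithfulSMul B B' := (faithfulSMul_iff_algebraMap_injective _ _).2 hinj
  have : FaithfulSMul κ B := (faithfulSMul_iff_algebraMap_injective _ _).2 (algebraMap κ B).injective
  let T := Algebra.adjoin B (Set.range z)
  have hyalg : ∀ i, IsAlgebraic T (y i) := fun i => by
    let c : T := ⟨∑ k, algebraMap B B' (a i k) * z k, sum_mem fun k _ =>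
      mul_mem (Subalgebra.algebraMap_mem _ _) (Algebra.subset_adjoin (Set.mem_range_self k))⟩
    refine ⟨Polynomial.C (algebraMap B T G) * Polynomial.X - Polynomial.C c, fun h0 => hG ?_, ?_⟩
    · have h1 := congrArg (fun q => Polynomial.coeff q 1) h0
      simp only [Polynomial.coeff_sub, Polynomial.coeff_C_mul, Polynomial.coeff_X_one, mul_one,
        Polynomial.coeff_C, one_ne_zero, if_false, sub_zero, Polynomial.coeff_zero] at h1
      exact hinj (by rw [map_zero]; exact congrArg Subtype.val h1)
    · simp only [map_sub, map_mul, Polynomial.aeval_C, Polynomial.aeval_X]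
      rw [sub_eq_zero]
      exact h i
  have halg : Algebra.IsAlgebraic T B' := by
    refine ⟨fun x => ?_⟩
    obtain ⟨q, rfl⟩ := hy x
    induction q using MvPolynomial.induction_on with
    | C b =>
      rw [aeval_C, IsScalarTower.algebraMap_apply B T B']
      exact isAlgebraic_algebraMap _
    | add p q hp hq => rw [map_add]; exact hp.add hq
    | mul_X p i hp => rw [map_mul, aeval_X]; exact hp.mul (hyalg i)
  have h1 : Algebra.trdeg B B' ≤ r :=
    (Algebra.IsAlgebraic.trdeg_le_cardinalMk (s := Set.range z) (alg := halg)).trans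
      (by simpa using Cardinal.mk_range_le_lift (f := z))
  have h2 : Algebra.trdeg κ B' ≤ Algebra.trdeg κ B + r := by
    rw [← trdeg_add_eq κ B (A := B')]
    gcongr
  rw [E4O.ringKrullDim_eq_trdeg κ B, Nat.cast_le] at hd
  rw [E4O.ringKrullDim_eq_trdeg κ B', Nat.cast_le]
  rw [E4O.trdeg_eq_natCast κ B', E4O.trdeg_eq_natCast κ B, ← Nat.cast_add, Nat.cast_le] at h2
  omega

end Groth.Agent.Smooth28
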