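import Groth.Agent.Smooth28.SynLocal
import Groth.Agent.Smooth28.SynTrdeg

/-! Fibres of the vector bundle of a complement of the conormal module. -/

set_option autoImplicit false
universe u

open MvPolynomial IsLocalRing Groth.Agent.RelGCI94

namespace Groth.Agent.Smooth28

variable {R : Type u} [CommRing R] {n m : ℕ}

/-- the embedding of the old variables -/
noncomputable def oldVars : MvPolynomial (Fin n) R →ₐ[R] MvPolynomial (Fin (n + m)) R :=
  rename (Fin.castAdd m)

/-- the linear forms cutting out the bundle -/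
noncomputable def bundleEq (E : Matrix (Fin m) (Fin m) (MvPolynomial (Fin n) R)) (i : Fin m) :
    MvPolynomial (Fin (n + m)) R :=
  X (Fin.natAdd n i) - ∑ j, oldVars (E i j) * X (Fin.natAdd n j)

/-- the ideal of the bundle -/
noncomputable def bundleIdeal (f : Fin m → MvPolynomial (Fin n) R)
    (E : Matrix (Fin m) (Fin m) (MvPolynomial (Fin n) R)) : Ideal (MvPolynomial (Fin (n + m)) R) :=
  Ideal.span (Set.range (fun i => oldVars (f i)) ∪ Set.range (bundleEq E))

theorem height_eq_height_fibPrime (p : Ideal R) [p.IsPrime]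
    (P : Ideal (MvPolynomial (Fin n) p.ResidueField)) [P.IsPrime] (Q : Ideal (MvPolynomial (Fin n) R)) [Q.IsPrime]
    (hp : Q.comap MvPolynomial.C = p) (hQ : Q = P.comap (MvPolynomial.map (algebraMap R p.ResidueField))) :
    P.height = (LCI19.fibPrime Q).height := by
  subst hp
  have hP : P = LCI19.fibPrime Q := by
    ext v
    obtain ⟨b, y, hb, hy⟩ := LCI19.exists_denom Q v
    have h1 : LCI19.fibMap Q (C b) ∉ P := fun h => hb (by
      have : (C b : MvPolynomial (Fin n) R) ∈ Q := hQ ▸ h
      exact this)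
    have h2 : LCI19.fibMap Q (C b) ∉ LCI19.fibPrime Q := fun h => hb ((LCI19.fibMap_mem_iff Q _).1 h)
    have hy' : LCI19.fibMap Q y ∈ P ↔ LCI19.fibMap Q y ∈ LCI19.fibPrime Q := by
      rw [LCI19.fibMap_mem_iff]
      exact ⟨fun h => hQ ▸ h, fun h => (hQ ▸ h : y ∈ P.comap _)⟩
    rw [← hy] at hy'
    exact ⟨fun hv => (Ideal.IsPrime.mem_or_mem inferInstance (hy'.1 (Ideal.mul_mem_left _ _ hv))).resolve_left h2,
      fun hv => (Ideal.IsPrime.mem_or_mem inferInstance (hy'.2 (Ideal.mul_mem_left _ _ hv))).resolve_left h1⟩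
  subst hP
  rfl

theorem mul_eq_sum_of_eq_sum_mul {T : Type u} [CommRing T] {r : ℕ} (g : T) (y : Fin m → T)
    (e : Fin m → Fin m → T) (a : Fin m → Fin r → T) (w : Fin r → Fin m → T)
    (hy : ∀ i, y i = ∑ j, e i j * y j) (h : ∀ i j, g * e i j = ∑ k, a i k * w k j) (i : Fin m) :
    g * y i = ∑ k, a i k * ∑ j, w k j * y j := by
  rw [hy i, Finset.mul_sum]
  simp only [← mul_assoc, h, Finset.sum_mul, Finset.mul_sum]
  exact Finset.sum_comm

/-- **The fibres of the bundle have dimension at most the number of old variables.** -/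
theorem ringKrullDim_bundle_fibre_le (f : Fin m → MvPolynomial (Fin n) R)
    (h : Synt.IsSyntomic R (MvPolynomial (Fin n) R ⧸ Ideal.span (Set.range f)))
    (E : Matrix (Fin m) (Fin m) (MvPolynomial (Fin n) R))
    (hE : ∀ c ∈ conormalRel f, ∀ j, (Matrix.vecMul c E) j ∈ Ideal.span (Set.range f))
    (p : Ideal R) [p.IsPrime] (Q' : Ideal (MvPolynomial (Fin (n + m)) p.ResidueField)) [Q'.IsPrime]
    (hQ' : (bundleIdeal f E).map (MvPolynomial.map (algebraMap R p.ResidueField)) ≤ Q') :
    ringKrullDim (MvPolynomial (Fin (n + m)) p.ResidueField ⧸ Q') ≤ (n : WithBot ℕ∞) := by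
  classical
  let φ : MvPolynomial (Fin n) R →+* MvPolynomial (Fin n) p.ResidueField :=
    MvPolynomial.map (algebraMap R p.ResidueField)
  let φ' : MvPolynomial (Fin (n + m)) R →+* MvPolynomial (Fin (n + m)) p.ResidueField :=
    MvPolynomial.map (algebraMap R p.ResidueField)
  let ι : MvPolynomial (Fin n) p.ResidueField →ₐ[p.ResidueField] MvPolynomial (Fin (n + m)) p.ResidueField :=
    rename (Fin.castAdd m)
  have hι : ∀ x, φ' (oldVars x) = ι (φ x) := fun x => map_rename _ _ _
  let q' : Ideal (MvPolynomial (Fin n) p.ResidueField) := Q'.comap ι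
  let Q : Ideal (MvPolynomial (Fin n) R) := q'.comap φ
  have hIQ : Ideal.span (Set.range f) ≤ Q := Ideal.span_le.2 (by
    rintro _ ⟨i, rfl⟩
    show ι (φ (f i)) ∈ Q'
    rw [← hι]
    exact hQ' (Ideal.mem_map_of_mem _ (Ideal.subset_span (Or.inl ⟨i, rfl⟩))))
  have hp : Q.comap MvPolynomial.C = p := by
    ext a
    show φ (C a) ∈ q' ↔ a ∈ p
    rw [show φ (C a) = C (algebraMap R p.ResidueField a) from MvPolynomial.map_C _ a]
    refine ⟨fun ha => ?_, fun ha => ?_⟩
    · by_contra hap
      exact Ideal.IsPrime.ne_top inferInstance (Ideal.eq_top_of_isUnit_mem q' ha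
        ((Ne.isUnit fun h0 => hap (Ideal.algebraMap_residueField_eq_zero.1 h0)).map C))
    · rw [Ideal.algebraMap_residueField_eq_zero.2 ha, map_zero]
      exact zero_mem _
  obtain ⟨G, hG, r, a, b, hab, -, hr⟩ := exists_syn_local f h Q hIQ
  rw [← height_eq_height_fibPrime p q' Q hp rfl] at hr
  obtain ⟨d, ht, hd, hh, hsum⟩ := ringKrullDim_mvPolynomial_quotient_add_height q'
  rw [hh, Nat.cast_le] at hr
  let B := MvPolynomial (Fin n) p.ResidueField ⧸ q'
  let B' := MvPolynomial (Fin (n + m)) p.ResidueField ⧸ Q'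
  let ψ : B →ₐ[p.ResidueField] B' := Ideal.quotientMapₐ Q' ι le_rfl
  have hψ : Function.Injective ψ := Ideal.quotientMap_injective
  let _ : Algebra B B' := ψ.toRingHom.toAlgebra
  have : IsScalarTower p.ResidueField B B' := IsScalarTower.of_algebraMap_eq fun c => (ψ.commutes c).symm
  let y : Fin m → B' := fun i => Ideal.Quotient.mk Q' (X (Fin.natAdd n i))
  have hy : Function.Surjective (aeval (R := B) y) := by
    intro x
    obtain ⟨x, rfl⟩ := Ideal.Quotient.mk_surjective x
    refine AlgHom.mem_range _ |>.1 ?_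
    induction x using MvPolynomial.induction_on with
    | C c =>
      refine ⟨C (algebraMap p.ResidueField B c), ?_⟩
      rw [AlgHom.toRingHom_eq_coe, RingHom.coe_coe, aeval_C, ← IsScalarTower.algebraMap_apply]
      rfl
    | add u v hu hv => rw [map_add]; exact add_mem hu hv
    | mul_X u i hu =>
      rw [map_mul]
      refine mul_mem hu ?_
      induction i using Fin.addCases with
      | left j =>
        refine ⟨C (Ideal.Quotient.mk q' (X j)), ?_⟩
        rw [AlgHom.toRingHom_eq_coe, RingHom.coe_coe, aeval_C]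
        show Ideal.Quotient.mk Q' (ι (X j)) = _
        rw [show ι (X j) = X (Fin.castAdd m j) from rename_X _ _]
      | right j => exact ⟨X j, by rw [AlgHom.toRingHom_eq_coe, RingHom.coe_coe, aeval_X]⟩
  let π : MvPolynomial (Fin n) R →+* B' := (Ideal.Quotient.mk Q').comp (φ'.comp oldVars.toRingHom)
  have hπ : ∀ x, π x = algebraMap B B' (Ideal.Quotient.mk q' (φ x)) := fun x =>
    congrArg (Ideal.Quotient.mk Q') (hι x)
  have hπI : ∀ x ∈ Ideal.span (Set.range f), π x = 0 := fun x hx => by
    rw [hπ, Ideal.Quotient.eq_zero_iff_mem.2 (show φ x ∈ q' from hIQ hx), map_zero]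
  have hyE : ∀ i, y i = ∑ j, π (E i j) * y j := fun i => by
    have : Ideal.Quotient.mk Q' (φ' (bundleEq E i)) = 0 := Ideal.Quotient.eq_zero_iff_mem.2
      (hQ' (Ideal.mem_map_of_mem _ (Ideal.subset_span (Or.inr ⟨i, rfl⟩))))
    simp only [bundleEq, map_sub, map_sum, map_mul, φ', map_X] at this
    exact sub_eq_zero.1 this
  have hGE : ∀ i j, π G * π (E i j) = ∑ k, π (a i k) * π ((b * E) k j) := fun i j => by
    have hc : (fun l => (if i = l then G else 0) - (a * b) i l) ∈ conormalRel f := by
      rw [mem_conormalRel]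
      have : ∑ l, ((if i = l then G else 0) - (a * b) i l) * f l = 0 := by
        simp only [sub_mul, Finset.sum_sub_distrib, hab, ite_mul, zero_mul, Finset.sum_ite_eq,
          Finset.mem_univ, if_true, sub_self]
      rw [this]
      exact zero_mem _
    have := hπI _ (hE _ hc j)
    simp only [Matrix.vecMul, dotProduct, sub_mul, Finset.sum_sub_distrib, ite_mul, zero_mul,
      Finset.sum_ite_eq, Finset.mem_univ, if_true, map_sub, map_mul, map_sum, sub_eq_zero] at this
    rw [this]
    simp only [← map_mul, ← map_sum]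
    refine congrArg π ?_
    show ((a * b) * E) i j = (a * (b * E)) i j
    rw [Matrix.mul_assoc]
  let z : Fin r → B' := fun k => ∑ j, π ((b * E) k j) * y j
  have hdim := ringKrullDim_le_add_of_span (κ := p.ResidueField) hψ y hy z (Ideal.Quotient.mk q' (φ G))
    (fun h0 => hG (show φ G ∈ q' from Ideal.Quotient.eq_zero_iff_mem.1 h0)) (fun i k => Ideal.Quotient.mk q' (φ (a i k)))
    (fun i =>
      ((congrArg (· * y i) (hπ G).symm).trans
        (mul_eq_sum_of_eq_sum_mul (π G) y (fun i j => π (E i j)) (fun i k => π (a i k))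
          (fun k j => π ((b * E) k j)) hyE hGE i)).trans
        (Finset.sum_congr rfl fun k _ => congrArg (· * z k) (hπ _))) hd.le
  exact hdim.trans (Nat.cast_le.2 (by omega))

end Groth.Agent.Smooth28
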