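import Groth.Agent.Smooth28.SynDim

/-! Fibre dimensions of a localised quotient of a polynomial algebra. -/

set_option autoImplicit false
universe u

open MvPolynomial TensorProduct Groth.Agent.RelGCI94

namespace Groth.Agent.Smooth28

theorem ringKrullDim_fiber_le_of_height {R T : Type u} [CommRing R] [CommRing T] [Algebra R T] {n r : ℕ}
    (φ : MvPolynomial (Fin n) R →ₐ[R] T) (g : MvPolynomial (Fin n) R) (hg : IsUnit (φ g))
    (hsurj : ∀ t, ∃ (k : ℕ) (y : MvPolynomial (Fin n) R), t * φ g ^ k = φ y)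
    (K : Ideal (MvPolynomial (Fin n) R)) (hK : ∀ y ∈ K, φ y = 0)
    (hQ : ∀ (Q : Ideal (MvPolynomial (Fin n) R)) [Q.IsPrime], K ≤ Q → g ∉ Q → (r : ℕ∞) ≤ (LCI19.fibPrime Q).height)
    (p : Ideal R) [p.IsPrime] : ringKrullDim (p.Fiber T) ≤ ((n - r : ℕ) : WithBot ℕ∞) := by
  let ι : T →ₐ[R] p.Fiber T := Algebra.TensorProduct.includeRight
  let ψ : MvPolynomial (Fin n) p.ResidueField →ₐ[p.ResidueField] p.Fiber T := aeval fun i => ι (φ (X i))
  have hψ : ∀ y, ψ (MvPolynomial.map (algebraMap R p.ResidueField) y) = ι (φ y) := fun y => by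
    rw [aeval_map_algebraMap]
    exact AlgHom.congr_fun (show aeval (R := R) (fun i => ι (φ (X i))) = ι.comp φ from
      algHom_ext fun i => by simp) y
  have hu : IsUnit (ι (φ g)) := hg.map ι
  have hrange : ∀ t, ∃ k : ℕ, t * ι (φ g) ^ k ∈ ψ.range := by
    intro t
    induction t using TensorProduct.induction_on with
    | zero => exact ⟨0, by rw [zero_mul]; exact zero_mem _⟩
    | add x y hx hy =>
      obtain ⟨k, hk⟩ := hx
      obtain ⟨l, hl⟩ := hy
      have hg' : ι (φ g) ∈ ψ.range := ⟨_, hψ g⟩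
      refine ⟨k + l, ?_⟩
      rw [add_mul]
      refine add_mem ?_ ?_
      · rw [pow_add, ← mul_assoc]
        exact mul_mem hk (pow_mem hg' _)
      · rw [add_comm k l, pow_add, ← mul_assoc]
        exact mul_mem hl (pow_mem hg' _)
    | tmul c s =>
      obtain ⟨k, y, hy⟩ := hsurj s
      refine ⟨k, C c * MvPolynomial.map (algebraMap R p.ResidueField) y, ?_⟩
      show ψ _ = _
      rw [map_mul, hψ, ← hy, map_mul, map_pow, aeval_C]
      show algebraMap p.ResidueField (p.Fiber T) c * (((1 : p.ResidueField) ⊗ₜ[R] s) * _) = _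
      rw [← mul_assoc]
      congr 1
      rw [Algebra.TensorProduct.algebraMap_apply, Algebra.TensorProduct.tmul_mul_tmul, mul_one, one_mul]
      rfl
  let η : PrimeSpectrum (p.Fiber T) → PrimeSpectrum (MvPolynomial (Fin n) p.ResidueField) :=
    PrimeSpectrum.comap ψ.toRingHom
  have hinj : Function.Injective η := by
    intro a b hab
    refine PrimeSpectrum.ext (Ideal.ext fun t => ?_)
    obtain ⟨k, y, hy⟩ := hrange t
    have h1 : ψ y ∈ a.asIdeal ↔ ψ y ∈ b.asIdeal :=
      SetLike.ext_iff.1 (congrArg PrimeSpectrum.asIdeal hab) y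
    rw [show ψ y = t * ι (φ g) ^ k from hy, Ideal.mul_unit_mem_iff_mem _ (hu.pow k),
      Ideal.mul_unit_mem_iff_mem _ (hu.pow k)] at h1
    exact h1
  have hmono : StrictMono η := fun a b hab =>
    lt_of_le_of_ne (Ideal.comap_mono hab.le) fun he => hab.ne (hinj he)
  rw [ringKrullDim, Order.krullDim]
  refine iSup_le fun l => ?_
  let l' := l.map η hmono
  let P := (η l.head).asIdeal
  let Q := P.comap (MvPolynomial.map (algebraMap R p.ResidueField))
  have hKQ : K ≤ Q := fun y hy => by
    show ψ (MvPolynomial.map (algebraMap R p.ResidueField) y) ∈ l.head.asIdeal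
    rw [hψ, hK y hy, map_zero]
    exact zero_mem _
  have hgQ : g ∉ Q := fun hm => l.head.2.ne_top (Ideal.eq_top_of_isUnit_mem _
    (show ψ (MvPolynomial.map (algebraMap R p.ResidueField) g) ∈ l.head.asIdeal from hm) (hψ g ▸ hu))
  have hp : Q.comap MvPolynomial.C = p := by
    ext a
    show MvPolynomial.map (algebraMap R p.ResidueField) (C a) ∈ P ↔ a ∈ p
    rw [MvPolynomial.map_C]
    refine ⟨fun ha => ?_, fun ha => ?_⟩
    · by_contra hap
      exact (η l.head).2.ne_top (Ideal.eq_top_of_isUnit_mem P ha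
        ((Ne.isUnit fun h0 => hap (Ideal.algebraMap_residueField_eq_zero.1 h0)).map C))
    · rw [Ideal.algebraMap_residueField_eq_zero.2 ha, map_zero]
      exact zero_mem _
  have hr := hQ Q hKQ hgQ
  rw [← height_eq_height_fibPrime p P Q hp rfl] at hr
  obtain ⟨d, ht, hd, hh, hsum⟩ := ringKrullDim_mvPolynomial_quotient_add_height P
  rw [hh, Nat.cast_le] at hr
  rw [ringKrullDim_quotient] at hd
  let l'' : LTSeries (PrimeSpectrum.zeroLocus (P : Set (MvPolynomial (Fin n) p.ResidueField))) :=
    { length := l.length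
      toFun := fun i => ⟨η (l i), fun x hx =>
        (show P ≤ (η (l i)).asIdeal from hmono.monotone (l.head_le i)) hx⟩
      step := fun i => hmono (l.step i) }
  have h1 := (Order.LTSeries.length_le_krullDim l'').trans hd.le
  refine le_trans ?_ (Nat.cast_le.2 (show d ≤ n - r by omega))
  exact h1

end Groth.Agent.Smooth28
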