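import Groth.Agent.RelGCI94.SyntProperty
import Groth.Agent.RelGCI94.Koszul
import Groth.Agent.Smooth28.SynCotangent

/-! A syntomic algebra has a locally free conormal module, of rank at most the codimension in the fibre. -/

set_option autoImplicit false
universe u

open MvPolynomial TensorProduct IsLocalRing Groth.Agent.RelGCI94

namespace Groth.Agent.Smooth28

variable {R : Type u} [CommRing R] {n : ℕ}

theorem countCI_of_isSyntomic (I : Ideal (MvPolynomial (Fin n) R))
    (h : Synt.IsSyntomic R (MvPolynomial (Fin n) R ⧸ I)) (Q : Ideal (MvPolynomial (Fin n) R)) [Q.IsPrime]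
    (hI : I ≤ Q) :
    Module.Flat R (Localization.AtPrime Q ⧸ I.map (algebraMap _ (Localization.AtPrime Q))) ∧
      CountCI (I.map (LCI19.toFib Q)) := by
  let A := MvPolynomial (Fin n) R ⧸ I
  let q : Ideal A := Q.map (Ideal.Quotient.mk I)
  have : q.IsPrime := Ideal.map_isPrime_of_surjective Ideal.Quotient.mk_surjective (by rw [Ideal.mk_ker]; exact hI)
  have hqQ : q.comap (Ideal.Quotient.mk I) = Q := by
    show (Q.map _).comap _ = Q
    rw [Ideal.comap_map_of_surjective _ Ideal.Quotient.mk_surjective, ← RingHom.ker_eq_comap_bot, Ideal.mk_ker,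
      sup_eq_left.2 hI]
  constructor
  · let T := Localization.AtPrime Q ⧸ I.map (algebraMap _ (Localization.AtPrime Q))
    have hloc : IsLocalization.AtPrime T q :=
      Gor18.isLocalization_atPrime_quotient Q (Localization.AtPrime Q) I q hqQ
    have : IsScalarTower R A T :=
      IsScalarTower.of_algebraMap_eq (R := R) (S := A) (A := T) fun r => rfl
    have : Module.Flat R A := h.1
    have : Module.Flat A T := IsLocalization.flat (R := A) T q.primeCompl
    exact Module.Flat.trans R A T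
  · let p : PrimeSpectrum R := PrimeSpectrum.comap (algebraMap R A) ⟨q, inferInstance⟩
    let QT := PrimeSpectrum.preimageEquivFiber R A p ⟨⟨q, inferInstance⟩, rfl⟩
    have hQT : QT.asIdeal.comap (Algebra.TensorProduct.includeRight.toRingHom : A →+* p.asIdeal.Fiber A) = q :=
      congrArg PrimeSpectrum.asIdeal
        (congrArg Subtype.val ((PrimeSpectrum.preimageEquivFiber R A p).symm_apply_apply ⟨⟨q, inferInstance⟩, rfl⟩))
    refine (isCIOver_fibre_iff I AlgEquiv.refl p.asIdeal QT.asIdeal Q fun y => ?_).1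
      (isCIOver_fibre_of_isSyntomic h p.asIdeal QT.asIdeal)
    rw [hQT, ← hqQ]
    rfl

/-- the equations of the fibre generate the ideal near the point -/
theorem le_map_span_of_fib (I : Ideal (MvPolynomial (Fin n) R)) (hfg : I.FG)
    (Q : Ideal (MvPolynomial (Fin n) R)) [Q.IsPrime]
    [Module.Flat R (Localization.AtPrime Q ⧸ I.map (algebraMap _ (Localization.AtPrime Q)))]
    {r : ℕ} (F : Fin r → MvPolynomial (Fin n) R) (hFI : ∀ i, F i ∈ I)
    (hspan : Ideal.span (Set.range (LCI19.toFib Q ∘ F)) = I.map (LCI19.toFib Q)) :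
    I.map (algebraMap _ (Localization.AtPrime Q)) ≤
      (Ideal.span (Set.range F)).map (algebraMap _ (Localization.AtPrime Q)) := by
  let L := Localization.AtPrime Q
  let J := Ideal.span (Set.range F)
  have hJI : J ≤ I := Ideal.span_le.2 (by rintro _ ⟨i, rfl⟩; exact hFI i)
  obtain ⟨χ, hχs, hχ, hker⟩ := exists_toFibLoc Q
  refine Submodule.le_of_le_smul_of_le_jacobson_bot (hfg.map _) (maximalIdeal_le_jacobson _) fun x hx => ?_
  have h1 : χ x ∈ (J.map (algebraMap _ L)).map χ := by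
    have h0 : χ x ∈ (I.map (algebraMap _ L)).map χ := Ideal.mem_map_of_mem _ hx
    rw [Ideal.map_map, show χ.comp (algebraMap _ L) = LCI19.toFib Q from RingHom.ext hχ] at h0 ⊢
    rw [Ideal.map_span, ← Set.range_comp, hspan]
    exact h0
  obtain ⟨j, hj, hje⟩ := (Ideal.mem_map_iff_of_surjective χ hχs).1 h1
  have hxj : x - j ∈ (LCI19.fibBase Q).map (algebraMap R L) := by
    rw [← hker, RingHom.mem_ker, map_sub, hje, sub_self]
  have h2 := mem_smul_of_flat_quotient (I.map (algebraMap _ L)) (LCI19.fibBase Q) (x - j)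
    (sub_mem hx (Ideal.map_mono hJI hj)) hxj
  rw [← add_sub_cancel j x]
  refine add_mem (Submodule.mem_sup_left hj) (Submodule.mem_sup_right ?_)
  rw [smul_eq_mul]
  refine Ideal.mul_mono_left ?_ h2
  rw [Ideal.map_le_iff_le_comap]
  intro a ha
  rw [Ideal.mem_comap, IsScalarTower.algebraMap_apply R (MvPolynomial (Fin n) R) L,
    IsLocalization.AtPrime.to_map_mem_maximal_iff L Q]
  exact ha

/-- coefficients of relations between equations of a localised relative complete intersection -/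
theorem exists_pow_mul_coeff_mem {r : ℕ} (F : Fin r → MvPolynomial (Fin n) R) (G : MvPolynomial (Fin n) R)
    (hF : Synt.IsRelGCI R (n + 1) (r + 1) (RelGCI94.F' R n r F G)) (d : Fin r → MvPolynomial (Fin n) R)
    (hd : ∑ l, d l * F l = 0) (l : Fin r) : ∃ k : ℕ, G ^ k * d l ∈ Ideal.span (Set.range F) := by
  have hrel : ∑ i, (Fin.snoc (fun l => rename Fin.castSucc (d l)) 0 : Fin (r + 1) → _) i *
      RelGCI94.F' R n r F G i = 0 := by
    rw [Fin.sum_univ_castSucc]
    simp only [Fin.snoc_castSucc, Fin.snoc_last, zero_mul, add_zero, RelGCI94.F', ← map_mul, ← map_sum, hd,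
      map_zero]
  have h1 := Koszul19.coeff_mem_of_rel _ (kR_ofFn R (n + 1) (r + 1) _ hF) _ hrel l.castSucc
  rw [Fin.snoc_castSucc] at h1
  have h2 : incl R n r F G (Ideal.Quotient.mk _ (d l)) = 0 := Ideal.Quotient.eq_zero_iff_mem.2 h1
  have h3 := toAway_incl R n r F G (Ideal.Quotient.mk _ (d l))
  rw [h2, map_zero] at h3
  obtain ⟨k, hk⟩ := IsLocalization.Away.exists_of_eq
    (S := Localization.Away (Ideal.Quotient.mk (Ideal.span (Set.range F)) G))
    (Ideal.Quotient.mk (Ideal.span (Set.range F)) G) (a := Ideal.Quotient.mk _ (d l)) (b := 0) (by rw [map_zero]; exact h3.symm)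
  rw [mul_zero, ← map_pow, ← map_mul, Ideal.Quotient.eq_zero_iff_mem] at hk
  exact ⟨k, hk⟩

/-- **Local data of the conormal module of a syntomic algebra.** -/
theorem exists_syn_local_nhd {m : ℕ} (f : Fin m → MvPolynomial (Fin n) R)
    (h : Synt.IsSyntomic R (MvPolynomial (Fin n) R ⧸ Ideal.span (Set.range f)))
    (Q : Ideal (MvPolynomial (Fin n) R)) [Q.IsPrime] (hI : Ideal.span (Set.range f) ≤ Q) :
    ∃ G ∉ Q, ∃ (r : ℕ) (a : Matrix (Fin m) (Fin r) (MvPolynomial (Fin n) R))
      (b : Matrix (Fin r) (Fin m) (MvPolynomial (Fin n) R)),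
      (∀ i, ∑ j, (a * b) i j * f j = G * f i) ∧
      (∀ c ∈ conormalRel f, ∃ k : ℕ, ∀ l, G ^ k * (Matrix.vecMul c a) l ∈ Ideal.span (Set.range f)) ∧
      ∀ (Q₁ : Ideal (MvPolynomial (Fin n) R)) [Q₁.IsPrime], Ideal.span (Set.range f) ≤ Q₁ → G ∉ Q₁ →
        (r : ℕ∞) ≤ (LCI19.fibPrime Q₁).height := by
  classical
  let I := Ideal.span (Set.range f)
  obtain ⟨hflat, hci⟩ := countCI_of_isSyntomic I h Q hI
  obtain ⟨r, F, hFI, hspan, hreg⟩ := exists_lift_equations Q I hI hci
  have hFQ : ∀ i, F i ∈ Q := fun i => hI (hFI i)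
  have hle := le_map_span_of_fib I (Submodule.fg_span (Set.finite_range f)) Q F hFI hspan
  have hloc : ∀ i, ∃ t ∉ Q, t * f i ∈ Ideal.span (Set.range F) := fun i => by
    have h1 := hle (Ideal.mem_map_of_mem _ (Ideal.subset_span (Set.mem_range_self i)))
    exact (IsLocalization.algebraMap_mem_map_algebraMap_iff Q.primeCompl _ _ _).1 h1
  choose t ht hti using hloc
  obtain ⟨-, g, hg, hF'⟩ := exists_isRelGCI_away F Q hFQ hreg
  let G := g * ∏ i, t i
  have hGQ : G ∉ Q := fun hm => by
    rcases Ideal.IsPrime.mem_or_mem inferInstance hm with h1 | h1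
    · exact hg h1
    · obtain ⟨i, -, hi⟩ := Ideal.IsPrime.prod_mem_iff.1 h1
      exact ht i hi
  have hGf : ∀ i, G * f i ∈ Ideal.span (Set.range F) := fun i => by
    obtain ⟨w, hw⟩ : t i ∣ G := dvd_mul_of_dvd_right (Finset.dvd_prod_of_mem _ (Finset.mem_univ i)) g
    rw [hw, mul_comm (t i) w, mul_assoc]
    exact Ideal.mul_mem_left _ _ (hti i)
  have hGI : ∀ y ∈ I, G * y ∈ Ideal.span (Set.range F) := by
    intro y hy
    obtain ⟨c, rfl⟩ := Submodule.mem_span_range_iff_exists_fun _ |>.1 hy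
    rw [Finset.mul_sum]
    refine sum_mem fun i _ => ?_
    rw [smul_eq_mul, mul_left_comm]
    exact Ideal.mul_mem_left _ _ (hGf i)
  have hG' : Synt.IsRelGCI R (n + 1) (r + 1) (RelGCI94.F' R n r F G) :=
    (isRelGCI_away_iff F G).2 fun Q₁ _ hQ₁ hG₁ =>
      (isRelGCI_away_iff F g).1 hF' Q₁ hQ₁ fun hm => hG₁ (Ideal.mul_mem_right _ _ hm)
  choose a ha using fun i => Submodule.mem_span_range_iff_exists_fun _ |>.1 (hGf i)
  choose b hb using fun l => Submodule.mem_span_range_iff_exists_fun _ |>.1 (hFI l)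
  simp only [smul_eq_mul] at ha hb
  refine ⟨G, hGQ, r, Matrix.of a, Matrix.of b, fun i => ?_, fun c hc => ?_, ?_⟩
  · simp only [Matrix.mul_apply, Matrix.of_apply, Finset.sum_mul]
    rw [Finset.sum_comm, ← ha i]
    refine Finset.sum_congr rfl fun l _ => ?_
    rw [← hb l, Finset.mul_sum]
    simp only [mul_assoc]
  · -- move the relation into the square of the local ideal
    have hsum : ∑ l, (Matrix.vecMul c (Matrix.of a)) l * F l = G * ∑ i, c i * f i := by
      simp only [Matrix.vecMul, dotProduct, Matrix.of_apply, Finset.sum_mul, Finset.mul_sum]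
      rw [Finset.sum_comm]
      refine Finset.sum_congr rfl fun i _ => ?_
      rw [mul_left_comm, ← ha i, Finset.mul_sum]
      simp only [mul_assoc]
    have hG2 : G ^ 2 * ∑ i, c i * f i ∈ Ideal.span (Set.range F) • Ideal.span (Set.range F) := by
      have hc' := mem_conormalRel.1 hc
      rw [pow_two] at hc'
      rw [smul_eq_mul]
      refine Submodule.mul_induction_on hc' (fun x hx y hy => ?_) fun x y hx hy => ?_
      · rw [show G ^ 2 * (x * y) = (G * x) * (G * y) by ring]
        exact Ideal.mul_mem_mul (hGI x hx) (hGI y hy)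
      · rw [mul_add]
        exact add_mem hx hy
    obtain ⟨e, he, hesum⟩ := (Submodule.mem_ideal_smul_span_iff_exists_sum (Ideal.span (Set.range F)) F _).1 hG2
    let d : Fin r → MvPolynomial (Fin n) R := fun l => G * (Matrix.vecMul c (Matrix.of a)) l - e l
    have hd : ∑ l, d l * F l = 0 := by
      have h2 : ∑ l, e l * F l = G ^ 2 * ∑ i, c i * f i := by
        rw [← hesum, Finsupp.sum_fintype _ _ (fun i => by simp)]
        simp
      simp only [d, sub_mul, Finset.sum_sub_distrib, mul_assoc, ← Finset.mul_sum, hsum, h2]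
      ring
    choose k hk using exists_pow_mul_coeff_mem F G hG' d hd
    have hJI : Ideal.span (Set.range F) ≤ I := Ideal.span_le.2 (by rintro _ ⟨i, rfl⟩; exact hFI i)
    refine ⟨∑ l, k l + 1, fun l => ?_⟩
    have hkl : k l ≤ ∑ l, k l := Finset.single_le_sum (fun _ _ => Nat.zero_le _) (Finset.mem_univ l)
    rw [pow_succ, mul_assoc, show G * (Matrix.vecMul c (Matrix.of a)) l = d l + e l by simp [d], mul_add]
    refine hJI (add_mem ?_ (Ideal.mul_mem_left _ _ (he l)))
    rw [← Nat.sub_add_cancel hkl, pow_add, mul_assoc]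
    exact Ideal.mul_mem_left _ _ (hk l)
  · intro Q₁ _ hI₁ hG₁
    have hFQ₁ : ∀ i, F i ∈ Q₁ := fun i => hI₁ (hFI i)
    exact le_height_of_isWeaklyRegular (fun i => LCI19.fibMap Q₁ (F i)) (LCI19.fibPrime Q₁)
      (fun i => (LCI19.fibMap_mem_iff Q₁ _).2 (hFQ₁ i)) ((isRelGCI_away_iff F G).1 hG' Q₁ hFQ₁ hG₁)

theorem exists_syn_local {m : ℕ} (f : Fin m → MvPolynomial (Fin n) R)
    (h : Synt.IsSyntomic R (MvPolynomial (Fin n) R ⧸ Ideal.span (Set.range f)))
    (Q : Ideal (MvPolynomial (Fin n) R)) [Q.IsPrime] (hI : Ideal.span (Set.range f) ≤ Q) :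
    ∃ G ∉ Q, ∃ (r : ℕ) (a : Matrix (Fin m) (Fin r) (MvPolynomial (Fin n) R))
      (b : Matrix (Fin r) (Fin m) (MvPolynomial (Fin n) R)),
      (∀ i, ∑ j, (a * b) i j * f j = G * f i) ∧
      (∀ c ∈ conormalRel f, ∃ k : ℕ, ∀ l, G ^ k * (Matrix.vecMul c a) l ∈ Ideal.span (Set.range f)) ∧
      (r : ℕ∞) ≤ (LCI19.fibPrime Q).height := by
  obtain ⟨G, hG, r, a, b, h1, h2, h3⟩ := exists_syn_local_nhd f h Q hI
  exact ⟨G, hG, r, a, b, h1, h2, h3 Q hI hG⟩

theorem locFree_of_isSyntomic {m : ℕ} (f : Fin m → MvPolynomial (Fin n) R)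
    (h : Synt.IsSyntomic R (MvPolynomial (Fin n) R ⧸ Ideal.span (Set.range f)))
    (Q : Ideal (MvPolynomial (Fin n) R)) (hQ : Q.IsPrime) (hI : Ideal.span (Set.range f) ≤ Q) :
    LocFree f Q := by
  obtain ⟨G, hG, r, a, b, h1, h2, -⟩ := exists_syn_local f h Q hI
  exact ⟨G, hG, r, a, b, h1, h2⟩

end Groth.Agent.Smooth28
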