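import Groth.Agent.Smooth28.SynFibre
import Groth.Agent.RelGCI94.Spread
import Groth.Agent.RelGCI94.SyntProperty

/-! Spreading out a syntomic chart from a closed subscheme of the base. -/

set_option autoImplicit false
universe u

open MvPolynomial Groth.Agent.RelGCI94

namespace Groth.Agent.Smooth28

variable {R : Type u} [CommRing R]

theorem exists_syntomic_away_of_fibre (I : Ideal R) {T : Type u} [CommRing T] [Algebra R T] {N C : ℕ}
    (F : Fin C → MvPolynomial (Fin N) R) (ε : Synt.RelGCIRing R N C F ≃ₐ[R] T) {n r : ℕ} (hrn : r ≤ n)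
    (hcount : C + n = N + r) (χ : MvPolynomial (Fin n) R →ₐ[R] T)
    (g : MvPolynomial (Fin n) R) (v : T) (hg : χ g * v - 1 ∈ I.map (algebraMap R T))
    (hsurj : ∀ t, ∃ (k : ℕ) (y : MvPolynomial (Fin n) R), t * χ g ^ k - χ y ∈ I.map (algebraMap R T))
    (K : Ideal (MvPolynomial (Fin n) (R ⧸ I)))
    (hK : ∀ y, MvPolynomial.map (Ideal.Quotient.mk I) y ∈ K → χ y ∈ I.map (algebraMap R T))
    (hQ : ∀ (Q : Ideal (MvPolynomial (Fin n) (R ⧸ I))) [Q.IsPrime], K ≤ Q →
      MvPolynomial.map (Ideal.Quotient.mk I) g ∉ Q → (r : ℕ∞) ≤ (LCI19.fibPrime Q).height) :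
    ∃ z : T, z - 1 ∈ I.map (algebraMap R T) ∧ Synt.IsSyntomic R (Localization.Away z) := by
  let red : MvPolynomial (Fin n) R →+* MvPolynomial (Fin n) (R ⧸ I) := MvPolynomial.map (Ideal.Quotient.mk I)
  let F₀ := fun i => MvPolynomial.map (Ideal.Quotient.mk I) (F i)
  let S₀ := Synt.RelGCIRing (R ⧸ I) N C F₀
  let π : T →+* S₀ := (redMap R N C F I).comp ε.symm.toAlgHom.toRingHom
  have hπs : Function.Surjective π := (redMap_surjective R N C F I).comp ε.symm.surjective
  have hπR : ∀ a, π (algebraMap R T a) = algebraMap (R ⧸ I) S₀ (Ideal.Quotient.mk I a) := fun a => by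
    show redMap R N C F I (ε.symm (algebraMap R T a)) = _
    rw [AlgEquiv.commutes]
    show Ideal.Quotient.mk _ (MvPolynomial.map (Ideal.Quotient.mk I) (MvPolynomial.C a)) = _
    rw [MvPolynomial.map_C]
    rfl
  have hπI : ∀ x ∈ I.map (algebraMap R T), π x = 0 := fun x hx => by
    refine RingHom.mem_ker.1 ((Ideal.map_le_iff_le_comap.2 fun a ha => ?_) hx)
    rw [Ideal.mem_comap, RingHom.mem_ker, hπR, Ideal.Quotient.eq_zero_iff_mem.2 ha, map_zero]
  let φ : MvPolynomial (Fin n) (R ⧸ I) →ₐ[R ⧸ I] S₀ := aeval fun i => π (χ (X i))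
  have hφ : ∀ y, φ (red y) = π (χ y) := fun y => by
    refine RingHom.congr_fun (show φ.toRingHom.comp red = π.comp χ.toRingHom from
      MvPolynomial.ringHom_ext (fun a => ?_) fun i => ?_) y
    · show φ (MvPolynomial.map (Ideal.Quotient.mk I) (MvPolynomial.C a)) = π (χ (MvPolynomial.C a))
      rw [MvPolynomial.map_C, aeval_C, ← MvPolynomial.algebraMap_eq, AlgHom.commutes, hπR]
    · show φ (MvPolynomial.map (Ideal.Quotient.mk I) (X i)) = π (χ (X i))
      rw [MvPolynomial.map_X, aeval_X]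
  have hreds : Function.Surjective red := MvPolynomial.map_surjective _ Ideal.Quotient.mk_surjective
  have hsurj' : ∀ t, ∃ (k : ℕ) (y : MvPolynomial (Fin n) (R ⧸ I)), t * φ (red g) ^ k = φ y := fun t => by
    obtain ⟨t, rfl⟩ := hπs t
    obtain ⟨k, y, hy⟩ := hsurj t
    refine ⟨k, red y, ?_⟩
    rw [hφ, hφ, ← map_pow, ← map_mul, ← sub_eq_zero, ← map_sub]
    exact hπI _ hy
  have hK' : ∀ y ∈ K, φ y = 0 := fun y hy => by
    obtain ⟨y, rfl⟩ := hreds y
    rw [hφ]
    exact hπI _ (hK y hy)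
  have hrel : Synt.IsRelGCI (R ⧸ I) N C F₀ := fun p hp => by
    refine ⟨by omega, le_antisymm ?_ (le_dim_fiber (R ⧸ I) N C F₀ p)⟩
    rw [show N - C = n - r by omega]
    exact ringKrullDim_fiber_le_of_height φ (red g) (by
      rw [hφ]
      refine IsUnit.of_mul_eq_one (π v) ?_
      rw [← map_mul, ← sub_eq_zero, ← map_one π, ← map_sub]
      exact hπI _ hg) hsurj' K hK' hQ p.asIdeal
  obtain ⟨h, hh, hF'⟩ := exists_spread R N C F I hrel
  refine ⟨ε (Ideal.Quotient.mk _ h), ?_, ?_⟩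
  · have h1 := Ideal.mem_map_of_mem ε.toAlgHom.toRingHom ((Ideal.Quotient.mk_eq_mk_iff_sub_mem _ 1).1 (hh.trans (map_one _).symm))
    rw [Ideal.map_map, show ε.toAlgHom.toRingHom.comp (algebraMap R _) = algebraMap R T from
      RingHom.ext ε.toAlgHom.commutes, map_sub, map_one] at h1
    exact h1
  · exact isSyntomic_congr ((awayEquiv R N C F h).symm.trans (awayCongr ε _))
      (isSyntomic_relGCIRing R (N + 1) (C + 1) _ hF')

theorem exists_away_presentation {P : Type u} [CommRing P] [Algebra R P] {N C r : ℕ}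
    {Φ : Fin C → MvPolynomial (Fin N) R} (e : Synt.RelGCIRing R N C Φ ≃ₐ[R] P) (J : Ideal P) (u : Fin r → P)
    (hu : ∀ k, u k ∈ J) (g : P) (hg : ∀ x ∈ J, g * x ∈ Ideal.span (Set.range u)) :
    ∃ (F : Fin (C + r + 1) → MvPolynomial (Fin (N + 1)) R),
      Nonempty (Synt.RelGCIRing R (N + 1) (C + r + 1) F ≃ₐ[R] Localization.Away (Ideal.Quotient.mk J g)) := by
  classical
  let π : MvPolynomial (Fin N) R →ₐ[R] P := e.toAlgHom.comp (Ideal.Quotient.mkₐ R _)
  have hπ : Function.Surjective π := e.surjective.comp Ideal.Quotient.mk_surjective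
  have hker : ∀ x, π x = 0 → x ∈ Ideal.span (Set.range Φ) := fun x hx => by
    rw [← Ideal.Quotient.eq_zero_iff_mem]
    exact e.injective (hx.trans (map_zero e).symm)
  choose v hv using fun k => hπ (u k)
  obtain ⟨G, rfl⟩ := hπ g
  let F := Fin.append Φ v
  let ρ : MvPolynomial (Fin N) R →ₐ[R] P ⧸ J := (Ideal.Quotient.mkₐ R J).comp π
  have hρ : Function.Surjective ρ := Ideal.Quotient.mk_surjective.comp hπ
  have hle : Ideal.span (Set.range F) ≤ RingHom.ker ρ.toRingHom := Ideal.span_le.2 (by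
    rintro _ ⟨i, rfl⟩
    show Ideal.Quotient.mk J (π (F i)) = 0
    induction i using Fin.addCases with
    | left i =>
      rw [show F (Fin.castAdd r i) = Φ i from Fin.append_left _ _ i, show π (Φ i) = 0 from
        (congrArg e (Ideal.Quotient.eq_zero_iff_mem.2 (Ideal.subset_span ⟨i, rfl⟩))).trans (map_zero e), map_zero]
    | right i =>
      rw [show F (Fin.natAdd C i) = v i from Fin.append_right _ _ i, hv]
      exact Ideal.Quotient.eq_zero_iff_mem.2 (hu i))
  have hG : ∀ y ∈ RingHom.ker ρ.toRingHom, ∃ k : ℕ, G ^ k * y ∈ Ideal.span (Set.range F) := by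
    intro y hy
    refine ⟨1, ?_⟩
    rw [pow_one]
    obtain ⟨c, hc⟩ := Submodule.mem_span_range_iff_exists_fun _ |>.1
      (hg (π y) (Ideal.Quotient.eq_zero_iff_mem.1 hy))
    choose d hd using fun k => hπ (c k)
    have h0 : π (G * y - ∑ k, d k * v k) = 0 := by
      simp only [map_sub, map_sum, map_mul, hd, hv]
      rw [sub_eq_zero]
      exact hc.symm
    rw [← sub_add_cancel (G * y) (∑ k, d k * v k)]
    refine add_mem ((Ideal.span_le.2 ?_ : Ideal.span (Set.range Φ) ≤ _) (hker _ h0))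
      (sum_mem fun k _ => Ideal.mul_mem_left _ _ (Ideal.subset_span ⟨Fin.natAdd C k, Fin.append_right _ _ k⟩))
    rintro _ ⟨i, rfl⟩
    exact Ideal.subset_span ⟨Fin.castAdd r i, Fin.append_left _ _ i⟩
  exact ⟨_, ⟨((awayEquiv R N (C + r) F G).symm.trans (awayQuotEquiv _ (RingHom.ker ρ.toRingHom) hle G hG)).trans
    (awayCongr (Ideal.quotientKerAlgEquivOfSurjective hρ) _)⟩⟩

end Groth.Agent.Smooth28
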